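import Cfsg.Agent.Lib.U6Local.Model
import Cfsg.Agent.Lib.Transpos.UnitaryPointStab

/-!
# Automorphisms of `U₄(2)`: the inner ones have index 2

`aut_M4`: `MulAut M4` has an element outside the inner automorphisms, and the product of two such
elements is inner.
-/

set_option autoImplicit false

namespace Cfsg.Agent.U6Local

open Matrix

/-- Squaring, as an automorphism of `K`. -/
def sqK : K →+* K where
  toFun a := a ^ 2
  map_one' := by decide +kernel
  map_mul' a b := mul_pow a b 2
  map_zero' := by decide +kernel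
  map_add' := k4_sq_add

/-- The field automorphism on `M4`. -/
def froM (g : M4) : M4 :=
  ⟨⟨g.1.1.map sqK, by
      rw [← RingHom.mapMatrix_apply, ← RingHom.map_det, g.1.2, map_one]⟩, by
    intro x y
    have e : ∀ v : V4, g.1.1.map sqK *ᵥ v = fun i => (g.1.1 *ᵥ fun k => v k ^ 2) i ^ 2 := fun v => by
      funext i
      simp only [mulVec, dotProduct, Fin.sum_univ_four, Matrix.map_apply, k4_sq_add, mul_pow,
        k4_four]
      rfl
    have hsq : ∀ v w : V4,
        Cfsg.hermForm 4 K 2 (fun i => v i ^ 2) (fun i => w i ^ 2) = Cfsg.hermForm 4 K 2 v w ^ 2 := by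
      intro v w
      simp only [Cfsg.hermForm, Fin.sum_univ_four, k4_sq_add, mul_pow]
    show Cfsg.hermForm 4 K 2 (g.1.1.map sqK *ᵥ x) (g.1.1.map sqK *ᵥ y) = _
    rw [e, e, hsq]
    show hh (app g _) (app g _) ^ 2 = _
    rw [hh_app]
    show Cfsg.hermForm 4 K 2 _ _ ^ 2 = _
    rw [hsq, k4_four]⟩

theorem froM_froM (g : M4) : froM (froM g) = g :=
  Subtype.ext (Subtype.ext (Matrix.ext fun i j => k4_four (g.1.1 i j)))

/-- The field automorphism. -/
def fieldAut : MulAut M4 where
  toFun := froM
  invFun := froM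
  left_inv := froM_froM
  right_inv := froM_froM
  map_mul' a b := Subtype.ext (Subtype.ext (by
    show (a.1.1 * b.1.1).map sqK = a.1.1.map sqK * b.1.1.map sqK
    exact Matrix.map_mul))

theorem fieldAut_not_inner : fieldAut ∉ (MulAut.conj : M4 →* MulAut M4).range := by
  rintro ⟨g, hg⟩
  have e : g * dLast * g⁻¹ = froM dLast := DFunLike.congr_fun hg dLast
  have t1 : (g * dLast * g⁻¹).1.1.trace = dLast.1.1.trace := by
    show (g.1.1 * dLast.1.1 * (g⁻¹).1.1).trace = _
    rw [Matrix.trace_mul_cycle]
    have : (g⁻¹).1.1 * g.1.1 = 1 := congrArg (fun m : M4 => m.1.1) (inv_mul_cancel g)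
    rw [this, Matrix.one_mul]
  rw [e] at t1
  exact absurd t1 (by decide +kernel)

theorem card_aut_le_M4 : Nat.card (MulAut M4) ≤ 2 * Nat.card M4 := by
  have hF' : Fintype.card K = 2 ^ 2 := card_K
  have hcube : ∀ x : K, x ≠ 0 → x * x * x = 1 := by decide +kernel
  have c : Transpos.U6.Ctx (Forms.qEnd hF') (Forms.hermB hF' 6) :=
    ⟨ClassicalSimple.hermB_isUnitary hF', by decide +kernel,
      fun x hx => by rw [Forms.qEnd_apply, ← hcube x hx]; ring, hcube, Module.finrank_fin_fun K⟩
  have := Transpos.U6.card_aut_le c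
  rwa [Nat.card_congr (MulAut.congr psuEquiv).toEquiv, Nat.card_congr psuEquiv.toEquiv] at this

/-- The inner automorphisms have index exactly 2. -/
theorem aut_M4 : (∃ φ : MulAut M4, φ ∉ (MulAut.conj : M4 →* MulAut M4).range) ∧
    ∀ a b : MulAut M4, a ∉ (MulAut.conj : M4 →* MulAut M4).range →
      b ∉ (MulAut.conj : M4 →* MulAut M4).range →
      a * b ∈ (MulAut.conj : M4 →* MulAut M4).range := by
  refine ⟨⟨fieldAut, fieldAut_not_inner⟩, ?_⟩
  set I := (MulAut.conj : M4 →* MulAut M4).range
  have : Finite (MulAut M4) := Finite.of_injective (fun f : MulAut M4 => (f : M4 → M4))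
    DFunLike.coe_injective
  have hinj : Function.Injective (MulAut.conj : M4 →* MulAut M4) := by
    rw [injective_iff_map_eq_one]
    intro g hg
    rw [← Subgroup.mem_bot, ← center_M4, Subgroup.mem_center_iff]
    intro h
    have := DFunLike.congr_fun hg h
    simp only [MulAut.conj_apply, MulAut.one_apply, mul_inv_eq_iff_eq_mul] at this
    exact this.symm
  have hI : Nat.card ↥I = Nat.card M4 := (Nat.card_congr (MonoidHom.ofInjective hinj).toEquiv).symm
  have hidx : I.index = 2 := by
    have h1 := I.card_mul_index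
    have h2 := card_aut_le_M4
    have h3 : I.index ≠ 1 := fun e => fieldAut_not_inner (by
      rw [show (MulAut.conj : M4 →* MulAut M4).range = I from rfl, Subgroup.index_eq_one.1 e]
      trivial)
    have h4 : 0 < Nat.card M4 := Nat.card_pos
    have h5 : I.index ≠ 0 := Subgroup.index_ne_zero_of_finite
    rw [hI] at h1
    rw [← h1] at h2
    have : I.index ≤ 2 := Nat.le_of_mul_le_mul_left (by linarith) h4
    omega
  intro a b ha hb
  rw [Subgroup.mul_mem_iff_of_index_two hidx]
  exact iff_of_false ha hb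

end Cfsg.Agent.U6Local
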