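import Cfsg.Agent.Lib.U6Local.NotCore

/-!
# Fixed elements of a fixed-point-free element, and tools for a conjugate outside the core

* `exists_t`, `exists_fixed`, `commute_fix`: canonical preimages of elements commuting with `theta`;
* `not_mem`, `ncl`, `commute_of_radical`, `exists_embed`: the intersection with a second core.
-/

set_option autoImplicit false

namespace Cfsg.Agent.U6Local

open LargeExtraspecial

variable {G : Type*} [Group G]

theorem theta_inv_add : ∀ x : V4, app theta (app theta x + x) = x := by decide +kernel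

theorem theta_cube : theta ^ 3 = 1 := by decide +kernel

theorem bb_add_left (x y w : V4) : bb (x + y) w = bb x w + bb y w := by
  simp only [bb, hh_add_left, hh_add_right]; ring

theorem bb_add_right (x y w : V4) : bb w (x + y) = bb w x + bb w y := by
  rw [bb_comm, bb_add_left, bb_comm x, bb_comm y]

theorem eq_zero_of_trace : ∀ a : K, (∀ c : K, c * a + (c * a) ^ 2 = 0) → a = 0 := by decide +kernel

theorem trace_om : om + om ^ 2 = (1 : K) := by decide +kernel

theorem hh_v0_self : hh v0 v0 = 0 := by decide +kernel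

/-- Orthogonal to `v0^⊥` means a multiple of `v0`. -/
theorem eq_smul_of_bb {u : V4} (h : ∀ m, hh m v0 = 0 → bb u m = 0) : ∃ c : K, u = c • v0 := by
  have hu : hh u v0 = 0 := by
    have : hh v0 u = 0 := eq_zero_of_trace _ fun c => by
      have e := h (c • v0) (by rw [hh_smul_left, hh_v0_self, mul_zero])
      rw [bb_comm, bb_eq_trace, hh_smul_left] at e
      exact e
    rw [hh_swap, this]; ring
  rcases perp_v0_cases u hu with hc | ⟨x, hx, hxu⟩
  · exact hc
  · have e := h x hx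
    rw [bb_comm, bb_eq_trace, hxu, trace_om] at e
    exact absurd e one_ne_zero

namespace Coord

variable {z : G} (C : Coord z)
include C

/-- An odd order element over `theta`. -/
theorem exists_t [Finite G] : ∃ t, Commute t z ∧ C.P t = theta ∧ Odd (orderOf t) := by
  obtain ⟨c, hc, hcθ⟩ := C.P_surj theta
  obtain ⟨a, b, hb, hab⟩ := Nat.exists_eq_two_pow_mul_odd (orderOf_pos c).ne'
  have hpow : ∀ n : ℕ, C.P (c ^ n) = theta ^ n := fun n => by
    induction n with
    | zero => rw [pow_zero, pow_zero, C.P_one]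
    | succ n ih => rw [pow_succ, pow_succ, C.P_mul _ _ (hc.pow_left n) hc, ih, hcθ]
  refine ⟨c ^ 4 ^ a, hc.pow_left _, ?_, ?_⟩
  · have h1 : 4 ^ a % 3 = 1 := by rw [Nat.pow_mod]; simp
    rw [hpow, ← pow_mod_orderOf]
    have h3 : orderOf theta = 3 :=
      orderOf_eq_prime (hp := ⟨Nat.prime_three⟩) theta_cube (by decide +kernel)
    rw [h3, h1, pow_one]
  · refine hb.of_dvd_nat (orderOf_dvd_of_pow_eq_one ?_)
    rw [← pow_mul]
    obtain ⟨e, he⟩ : orderOf c ∣ 4 ^ a * b := by
      refine hab ▸ mul_dvd_mul_right ⟨2 ^ a, ?_⟩ b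
      rw [← mul_pow]; norm_num
    rw [he, pow_mul, pow_orderOf_eq_one, one_pow]

variable {t : G}

theorem φ_eq_zero_of_fixed (ht : Commute t z) (htθ : C.P t = theta) {j : G} (hj : j ∈ coreAt z)
    (h : Commute t j) : C.φ j = 0 := by
  have e : app theta (C.φ j) = C.φ j := by
    rw [← htθ, ← C.φ_conj t ht j hj, h.eq, mul_inv_cancel_right]
  calc C.φ j = app theta (app theta (C.φ j) + C.φ j) := (theta_inv_add _).symm
    _ = 0 := by rw [e, vec_add_self, app_zero]

/-- A preimage fixed by `t`. -/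
theorem exists_fixed (ht : Commute t z) (htθ : C.P t = theta) (hto : Odd (orderOf t)) {m : M4}
    (hm : Commute m theta) : ∃ w, Commute w z ∧ C.P w = m ∧ Commute t w := by
  obtain ⟨w₀, hw₀, rfl⟩ := C.P_surj m
  have hcomm : Commute (w₀⁻¹ * t * w₀ * t⁻¹) z :=
    ((hw₀.inv_left.mul_left ht).mul_left hw₀).mul_left ht.inv_left
  have hd : w₀⁻¹ * t * w₀ * t⁻¹ ∈ coreAt z := by
    rw [← C.P_ker _ hcomm, C.P_mul _ _ ((hw₀.inv_left.mul_left ht).mul_left hw₀) ht.inv_left,
      C.P_mul _ _ (hw₀.inv_left.mul_left ht) hw₀, C.P_mul _ _ hw₀.inv_left ht, C.P_inv hw₀,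
      C.P_inv ht, htθ, mul_assoc _ theta, ← hm.eq]
    group
  obtain ⟨j, hj, hjx⟩ := C.φ_surj (app theta (C.φ (w₀⁻¹ * t * w₀ * t⁻¹)))
  set w := w₀ * j with hw_def
  have hwz : Commute w z := hw₀.mul_left (C.comm_z hj)
  have hPw : C.P w = C.P w₀ := by rw [C.P_mul _ _ hw₀ (C.comm_z hj), C.P_of_mem hj, mul_one]
  refine ⟨w, hwz, hPw, ?_⟩
  have e : w⁻¹ * t * w * t⁻¹ = j⁻¹ * (w₀⁻¹ * t * w₀ * t⁻¹) * (t * j * t⁻¹) := by rw [hw_def]; group
  have hmem1 : j⁻¹ * (w₀⁻¹ * t * w₀ * t⁻¹) ∈ coreAt z := mul_mem (inv_mem hj) hd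
  have hmem : w⁻¹ * t * w * t⁻¹ ∈ coreAt z := by rw [e]; exact mul_mem hmem1 (C.conj_mem ht hj)
  have hφ : C.φ (w⁻¹ * t * w * t⁻¹) = 0 := by
    rw [e, C.φ_mul _ hmem1 _ (C.conj_mem ht hj), C.φ_mul _ (inv_mem hj) _ hd, C.φ_inv hj,
      C.φ_conj t ht j hj, htθ, hjx]
    set d := C.φ (w₀⁻¹ * t * w₀ * t⁻¹)
    calc app theta d + d + app theta (app theta d) =
          d + (app theta (app theta d) + app theta d) := by abel
      _ = 0 := by rw [← app_add, theta_inv_add, vec_add_self]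
  rcases (C.φ_ker _ hmem).1 hφ with h | h
  · have h' : t * w = w * t := by
      calc t * w = w * (w⁻¹ * t * w * t⁻¹) * t := by group
        _ = w * t := by rw [h, mul_one]
    exact h'
  · exfalso
    have hstep : t * w * t⁻¹ = w * z := by
      calc t * w * t⁻¹ = w * (w⁻¹ * t * w * t⁻¹) := by group
        _ = w * z := by rw [h]
    have hpow : ∀ n : ℕ, t ^ n * w * (t ^ n)⁻¹ = w * z ^ n := by
      intro n
      induction n with
      | zero => simp
      | succ n ih =>
        calc t ^ (n + 1) * w * (t ^ (n + 1))⁻¹ = t * (t ^ n * w * (t ^ n)⁻¹) * t⁻¹ := by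
              rw [pow_succ' t]; group
          _ = (t * w * t⁻¹) * (t * z ^ n * t⁻¹) := by rw [ih]; group
          _ = w * z ^ (n + 1) := by
            rw [hstep, (ht.pow_right n).eq, mul_inv_cancel_right, mul_assoc, ← pow_succ']
    have h1 := hpow (orderOf t)
    obtain ⟨l, hl⟩ := hto
    rw [pow_orderOf_eq_one, hl, pow_succ, pow_mul, pow_two, C.z_sq, one_pow, one_mul] at h1
    exact C.z_ne (by simpa using h1.symm)

/-- A fixed preimage commutes with all of the core fixed modulo `z`. -/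
theorem commute_fix (ht : Commute t z) (htθ : C.P t = theta) {w : G} (hw : Commute w z)
    (htw : Commute t w) {j : G} (hj : j ∈ coreAt z) (hfix : app (C.P w) (C.φ j) = C.φ j) :
    Commute w j := by
  have hPc : app (C.P w) (app theta (C.φ j)) = app theta (app (C.P w) (C.φ j)) := by
    rw [← app_mul, ← app_mul, ← htθ, ← C.P_mul _ _ hw ht, ← C.P_mul _ _ ht hw, htw.eq]
  obtain ⟨k, hk, hkx⟩ := C.φ_surj (app theta (C.φ j))
  have hwk : app (C.P w) (C.φ k) = C.φ k := by rw [hkx, hPc, hfix]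
  have htk := C.conj_mem ht hk
  set i := t * k * t⁻¹ * k
  have hi : i ∈ coreAt z := mul_mem htk hk
  have hwi : Commute w i := by
    have e1 : C.φ (w * k * w⁻¹) = C.φ k := by rw [C.φ_conj w hw k hk, hwk]
    have et : w * (t * k * t⁻¹) * w⁻¹ = t * (w * k * w⁻¹) * t⁻¹ := by
      calc w * (t * k * t⁻¹) * w⁻¹ = (w * t) * k * (w * t)⁻¹ := by group
        _ = (t * w) * k * (t * w)⁻¹ := by rw [htw.eq]
        _ = _ := by group
    refine mul_inv_eq_iff_eq_mul.1 ?_
    show w * (t * k * t⁻¹ * k) * w⁻¹ = _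
    rw [show w * (t * k * t⁻¹ * k) * w⁻¹ = w * (t * k * t⁻¹) * w⁻¹ * (w * k * w⁻¹) by group, et]
    rcases C.eq_or_of_φ hk (C.conj_mem hw hk) e1.symm with h | h <;> rw [h]
    calc t * (k * z) * t⁻¹ * (k * z) = t * k * t⁻¹ * (t * z * t⁻¹) * (k * z) := by group
      _ = t * k * t⁻¹ * k := by
        rw [ht.eq, mul_inv_cancel_right, (C.comm_z hk).eq, mul_assoc (t * k * t⁻¹) z (z * k),
          ← mul_assoc z z k, C.z_sq, one_mul]
  have hφi : C.φ i = C.φ j := by
    show C.φ (t * k * t⁻¹ * k) = _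
    rw [C.φ_mul _ htk _ hk, C.φ_conj t ht k hk, htθ, hkx, ← app_add, theta_inv_add]
  rcases C.eq_or_of_φ hi hj hφi with h | h <;> rw [h]
  exacts [hwi, hwi.mul_right hw]

/-- An involution over an element with fixed preimage `w` is `w * j`, `j` fixed modulo `z`. -/
theorem fix_of_sq {w y : G} (hw : Commute w z) (hy : Commute y z) (hP : C.P y = C.P w)
    (hy2 : y * y = 1) (hw2 : w * w = 1 ∨ w * w = z) :
    ∃ j ∈ coreAt z, y = w * j ∧ app (C.P w) (C.φ j) = C.φ j := by
  have hj : w⁻¹ * y ∈ coreAt z := by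
    rw [← C.P_ker _ (hw.inv_left.mul_left hy), C.P_mul _ _ hw.inv_left hy, C.P_inv hw, hP,
      inv_mul_cancel]
  refine ⟨_, hj, (mul_inv_cancel_left w y).symm, ?_⟩
  set j := w⁻¹ * y
  have hyj : y = w * j := (mul_inv_cancel_left w y).symm
  have h2 : w * j * w⁻¹ * (w * w) * j = 1 := by
    rw [← hy2, hyj]; group
  have hmem : w * w ∈ coreAt z := by rcases hw2 with h | h <;> rw [h]; exacts [one_mem _, C.z_mem]
  have hφ2 : C.φ (w * w) = 0 := by
    rcases hw2 with h | h <;> rw [h]; exacts [C.φ_one, C.φ_z]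
  have := congrArg C.φ h2
  rw [C.φ_mul _ (mul_mem (C.conj_mem hw hj) hmem) _ hj, C.φ_mul _ (C.conj_mem hw hj) _ hmem,
    C.φ_conj w hw j hj, hφ2, add_zero, C.φ_one] at this
  calc app (C.P w) (C.φ j) = app (C.P w) (C.φ j) + (C.φ j + C.φ j) := by
        rw [vec_add_self, add_zero]
    _ = C.φ j := by rw [← add_assoc, this, zero_add]

variable [Finite G] {g : G}

/-- `z` is not in the core at a conjugate other than `z`. -/
theorem not_mem (hne : g * z * g⁻¹ ≠ z) : z ∉ (coreAt z).map (MulAut.conj g).toMonoidHom := by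
  intro h
  rw [mem_conj_iff] at h
  have h1 := C.conj_eq_of_mem (g := g⁻¹) (by rwa [inv_inv])
  apply hne
  rw [inv_inv] at h1
  calc g * z * g⁻¹ = g * (g⁻¹ * z * g) * g⁻¹ := by rw [h1]
    _ = z := by group

/-- Elements of both cores, other than `1`, make the conjugate a non-member. -/
theorem ncl (hne : g * z * g⁻¹ ≠ z) (hy : g * z * g⁻¹ ∉ coreAt z) {d : G} (hd : d ∈ coreAt z)
    (hdQ : d ∈ (coreAt z).map (MulAut.conj g).toMonoidHom) (hd1 : d ≠ 1) :
    ∀ x, x * z * x⁻¹ ≠ g * z * g⁻¹ * d := by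
  intro x hx
  have h' : Hub _ (g * z * g⁻¹) := C.hub.conj g
  have hdz : d ≠ z := fun e => C.not_mem hne (e ▸ hdQ)
  obtain ⟨k, hk, hkn⟩ := h'.exists_not_commute hd1 fun e => hy (e ▸ hd)
  have e : k * d * k⁻¹ = g * z * g⁻¹ * d := by
    rw [(h'.comm k hk d hdQ).resolve_left fun r => hkn (mul_inv_eq_iff_eq_mul.1 r).symm]
    exact (h'.central d hdQ).eq
  have hd' : d = (k⁻¹ * x) * z * (k⁻¹ * x)⁻¹ := by
    calc d = k⁻¹ * (k * d * k⁻¹) * k := by group
      _ = k⁻¹ * (x * z * x⁻¹) * k := by rw [e, hx]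
      _ = _ := by group
  exact hdz (hd'.trans (C.conj_eq_of_mem (hd' ▸ hd)))

/-- An element of both cores is central in `C_J` of the conjugate. -/
theorem commute_of_radical (hne : g * z * g⁻¹ ≠ z) {d k : G} (hd : d ∈ coreAt z)
    (hdQ : d ∈ (coreAt z).map (MulAut.conj g).toMonoidHom) (hk : k ∈ coreAt z)
    (hky : Commute k (g * z * g⁻¹)) : Commute k d := by
  have h' : Hub _ (g * z * g⁻¹) := C.hub.conj g
  rcases C.hub.comm k hk d hd with r | r
  · exact mul_inv_eq_iff_eq_mul.1 r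
  exfalso
  apply C.not_mem hne
  have := h'.normalizes k hky d hdQ
  rw [r] at this
  exact (Subgroup.mul_mem_cancel_left _ hdQ).1 this

/-- `C(y)` modulo its core is `M4`. -/
theorem exists_embed (S : Subgroup G) (hS : ∀ k ∈ S, Commute k (g * z * g⁻¹))
    (hD : ∀ k ∈ S, k ∈ (coreAt z).map (MulAut.conj g).toMonoidHom → k = 1) :
    ∃ T : Subgroup M4, ∃ f : S →* M4, Function.Injective f ∧ f.range = T ∧
      Nat.card T = Nat.card S := by
  have hcm : ∀ k ∈ S, Commute (g⁻¹ * k * g) z := fun k hk => by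
    calc g⁻¹ * k * g * z = g⁻¹ * (k * (g * z * g⁻¹)) * g := by group
      _ = g⁻¹ * ((g * z * g⁻¹) * k) * g := by rw [(hS k hk).eq]
      _ = z * (g⁻¹ * k * g) := by group
  let f : S →* M4 := MonoidHom.mk' (fun k => C.P (g⁻¹ * k * g)) fun a b => by
    rw [← C.P_mul _ _ (hcm a a.2) (hcm b b.2)]
    congr 1
    rw [Subgroup.coe_mul]; group
  have hinj : Function.Injective f := (injective_iff_map_eq_one f).2 fun k hk => Subtype.ext <|
    hD k k.2 (mem_conj_iff.2 ((C.P_ker _ (hcm k k.2)).1 hk))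
  exact ⟨f.range, f, hinj, rfl, Nat.card_congr (MonoidHom.ofInjective hinj).toEquiv.symm⟩

end Coord

end Cfsg.Agent.U6Local
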