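import Cfsg.Agent.Lib.LargeExtraspecial.Smith
import Cfsg.Prelude.Def_TwoFusion

/-!
# A plane of `O₂(C(z))` fixed by `C(z)`

`isolated_of_fixed_plane`: if `C(z)` acts trivially on `Y/⟨z⟩`, `Y ≤ E = O₂(C(z))` non-abelian of
order 8, and `C(z) = E C(z)'`, `E ≤ Y C(z)'`, then `z` is isolated: the transfer of
`C(z) → C(z)/C(Y)` agrees with it on `C(z)`, and in its kernel `C(Y)` is the centraliser of `z`.
-/

set_option autoImplicit false

namespace Cfsg.Agent.U6Local

open Subgroup LargeExtraspecial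

variable {G : Type*} [Group G] [Finite G] {A : Type*} [CommGroup A] {z : G} {E : Subgroup G}

/-- `z u` is not conjugate to `z` when `e` moves `u` and every element of `C(z)` fixes `e` modulo `z`. -/
theorem not_conj_of_fixed (h : Hub E z) (hcard : 32 ≤ Nat.card ↥E) {e : G} (heE : e ∈ E)
    (hconj : ∀ a : G, Commute a z → a * e * a⁻¹ = e ∨ a * e * a⁻¹ = e * z)
    {u : G} (huE : u ∈ E) (hu2 : u * u = 1) (hu1 : u ≠ 1) (huz : u ≠ z)
    (heu : e * u * e⁻¹ = u * z) (x : G) : x * z * x⁻¹ ≠ z * u := by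
  intro hx
  have hzu : Commute z u := (h.central u huE).symm
  set w := e * x
  have hxu : x * z * x⁻¹ = z * u := hx
  have hw : w * z * w⁻¹ = u := by
    calc w * z * w⁻¹ = e * (x * z * x⁻¹) * e⁻¹ := by simp only [w]; group
      _ = (e * z * e⁻¹) * (e * u * e⁻¹) := by rw [hx]; group
      _ = z * (u * z) := by rw [heu, (h.central e heE).eq, mul_inv_cancel_right]
      _ = u := by rw [← mul_assoc, hzu.eq, mul_assoc, h.sq, mul_one]
  have hin : ∀ g t : G, g * z * g⁻¹ = t → t ∈ E → t * t = 1 → t ≠ z →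
      z ∈ E.map (MulAut.conj g).toMonoidHom := fun g t hg ht ht2 htz =>
    h.self_mem_conj g (hg ▸ ht) (hg ▸ htz) (hg ▸ h.exists_noncommuting_pair hcard ht ht2)
  have hzw := hin w u hw huE hu2 huz
  have hxw := hin x (z * u) hx (mul_mem h.mem huE)
    (by rw [mul_assoc, ← mul_assoc u z u, ← hzu.eq, mul_assoc z u u, hu2, mul_one, h.sq])
    (fun c => hu1 (by simpa using c))
  set Ex := E.map (MulAut.conj x).toMonoidHom
  set Ew := E.map (MulAut.conj w).toMonoidHom
  have hmove : ∀ a ∈ Ex, Commute a z → a ∈ Ew := by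
    intro a ha haz
    have hea : e * a * e⁻¹ ∈ Ew := by
      rw [mem_conj_iff] at ha ⊢
      rwa [show (e * x)⁻¹ * (e * a * e⁻¹) * (e * x) = x⁻¹ * a * x by group]
    rcases hconj a haz with r | r
    · have r' : e * a * e⁻¹ = a :=
        mul_inv_eq_iff_eq_mul.mpr (mul_inv_eq_iff_eq_mul.mp r).symm
      rwa [r'] at hea
    · have r' : a = z * (e * a * e⁻¹) := by
        calc a = (a * e * a⁻¹) * a * e⁻¹ := by group
          _ = e * z * a * e⁻¹ := by rw [r]
          _ = _ := by rw [(h.central e heE).eq]; group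
      rw [r']; exact mul_mem hzw hea
  have hab : ∀ a ∈ Ex, ∀ b ∈ Ex, Commute a z → Commute b z → Commute b a := by
    intro a ha b hb haz hbz
    rcases (h.conj x).comm b hb a ha with r | r
    · exact mul_inv_eq_iff_eq_mul.mp r
    rcases (h.conj w).comm b (hmove b hb hbz) a (hmove a ha haz) with r' | r'
    · exact mul_inv_eq_iff_eq_mul.mp r'
    rw [hw] at r'; rw [hx] at r
    exact absurd (by simpa using r.symm.trans r') h.ne_one
  have htE : x⁻¹ * z * x ∈ E := mem_conj_iff.mp hxw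
  obtain ⟨p₁, hp₁, p₂, hp₂, c₁, c₂, hnc⟩ := h.exists_noncommuting_pair hcard htE
    (by rw [show x⁻¹ * z * x * (x⁻¹ * z * x) = x⁻¹ * (z * z) * x by group, h.sq, mul_one,
      inv_mul_cancel])
  have hcz : ∀ p : G, Commute p (x⁻¹ * z * x) → Commute (x * p * x⁻¹) z := fun p hp => by
    calc x * p * x⁻¹ * z = x * (p * (x⁻¹ * z * x)) * x⁻¹ := by group
      _ = x * (x⁻¹ * z * x * p) * x⁻¹ := by rw [hp.eq]
      _ = z * (x * p * x⁻¹) := by group
  apply hnc
  have := hab _ ⟨p₂, hp₂, rfl⟩ _ ⟨p₁, hp₁, rfl⟩ (hcz p₂ c₂) (hcz p₁ c₁)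
  calc p₁ * p₂ = x⁻¹ * (x * p₁ * x⁻¹ * (x * p₂ * x⁻¹)) * x := by group
    _ = x⁻¹ * (x * p₂ * x⁻¹ * (x * p₁ * x⁻¹)) * x := by
        have := this.eq; simp only [MulEquiv.coe_toMonoidHom, MulAut.conj_apply] at this; rw [this]
    _ = p₂ * p₁ := by group

open scoped Classical in
/-- The transfer at an involution of `E`. -/
theorem transfer_eq_of_not_conj (h : Hub E z) (hE : E ≤ centralizer ({z} : Set G))
    (hE2 : IsPGroup 2 ↥E) (χ : ↥(centralizer ({z} : Set G)) →* A) (hχz : extOne χ z = 1)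
    {u : G} (huE : u ∈ E) (hu2 : u * u = 1) (hu1 : u ≠ 1) (huz : u ≠ z)
    (hno : ∀ x : G, x * z * x⁻¹ ≠ z * u) : MonoidHom.transfer χ u = extOne χ u := by
  have hmemH : ∀ {g : G}, g ∈ (centralizer ({z} : Set G)) ↔ Commute g z :=
    mem_centralizer_singleton_iff
  have hzu : Commute z u := (h.central u huE).symm
  have : Fintype (G ⧸ (centralizer ({z} : Set G))) := Fintype.ofFinite _
  rw [transfer_involution χ hu2]
  set F : G ⧸ (centralizer ({z} : Set G)) → A := fun q => if u • q = q then extOne χ (q.out⁻¹ * u * q.out) else 1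
  have hfix : ∀ (g x : G), g • (x : G ⧸ (centralizer ({z} : Set G))) = x ↔ x⁻¹ * g * x ∈ (centralizer ({z} : Set G)) := fun g x => by
    rw [eq_comm, MulAction.Quotient.smul_coe, QuotientGroup.eq, smul_eq_mul, mul_assoc]
  have hF : ∀ x : G, u • (x : G ⧸ (centralizer ({z} : Set G))) = x → F x = extOne χ (x⁻¹ * u * x) := by
    intro x hx
    obtain ⟨k, hk⟩ := QuotientGroup.mk_out_eq_mul (centralizer ({z} : Set G)) x
    simp only [F, if_pos hx, hk]
    rw [show (x * (k : G))⁻¹ * u * (x * k) = (k : G)⁻¹ * (x⁻¹ * u * x) * k by group,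
      extOne_conj χ k.2 ((hfix u x).mp hx)]
  let P : Subgroup G := E ⊓ centralizer ({u} : Set G)
  have hPm : ∀ p : P, (p : G) ∈ E ∧ Commute (p : G) u := fun p =>
    ⟨p.2.1, mem_centralizer_singleton_iff.mp p.2.2⟩
  have hP : IsPGroup 2 ↥P := hE2.to_le inf_le_left
  have hinv : ∀ (p : P) (a : G ⧸ (centralizer ({z} : Set G))), F (p • a) = F a := by
    intro p a
    induction a using QuotientGroup.induction_on with
    | H x =>
      have hpu := (hPm p).2
      have hpq : u • (p • (x : G ⧸ (centralizer ({z} : Set G)))) = p • (x : G ⧸ (centralizer ({z} : Set G))) ↔ u • (x : G ⧸ (centralizer ({z} : Set G))) = x := by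
        show u • (p : G) • (x : G ⧸ centralizer ({z} : Set G)) =
          (p : G) • (x : G ⧸ centralizer ({z} : Set G)) ↔ _
        rw [← mul_smul, ← hpu.eq, mul_smul]
        exact smul_left_cancel_iff _
      by_cases hx : u • (x : G ⧸ (centralizer ({z} : Set G))) = x
      · rw [hF x hx]
        have hpx : p • (x : G ⧸ (centralizer ({z} : Set G))) = (((p : G) * x : G) : G ⧸ (centralizer ({z} : Set G))) := rfl
        rw [hpx, hF _ (hpx ▸ hpq.mpr hx)]
        rw [mul_inv_rev, mul_assoc x⁻¹, ← hpu.symm.inv_right.eq, ← mul_assoc x⁻¹]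
        group
      · simp only [F, if_neg hx, if_neg (fun c => hx (hpq.mp c))]
  have hsq : ∀ a, F a * F a = 1 := by
    intro a
    induction a using QuotientGroup.induction_on with
    | H x =>
      by_cases hx : u • (x : G ⧸ (centralizer ({z} : Set G))) = x
      · have := (hfix u x).mp hx
        rw [hF x hx, ← extOne_mul χ this this,
          show x⁻¹ * u * x * (x⁻¹ * u * x) = x⁻¹ * (u * u) * x by group, hu2, mul_one,
          inv_mul_cancel, extOne_one]
      · simp only [F, if_neg hx, mul_one]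
  show ∏ q, F q = _
  rw [prod_eq_prod_fixed hP F hinv hsq,
    Finset.prod_eq_single ((1 : G) : G ⧸ (centralizer ({z} : Set G)))]
  · rw [hF 1 ((hfix u 1).mpr (by simpa using hE huE))]
    simp
  · intro a ha hane
    induction a using QuotientGroup.induction_on with
    | H x =>
      by_cases hxu : u • (x : G ⧸ (centralizer ({z} : Set G))) = x
      swap
      · simp only [F, if_neg hxu]
      have hcom : ∀ g : G, g • (x : G ⧸ (centralizer ({z} : Set G))) = x → Commute g (x * z * x⁻¹) := fun g hg => by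
        have := hmemH.mp ((hfix g x).mp hg)
        calc g * (x * z * x⁻¹) = x * (x⁻¹ * g * x * z) * x⁻¹ := by group
          _ = x * (z * (x⁻¹ * g * x)) * x⁻¹ := by rw [this.eq]
          _ = x * z * x⁻¹ * g := by group
      have hfixP := (Finset.mem_filter.mp ha).2
      have hP' : ∀ p ∈ E, Commute p u → Commute (x * z * x⁻¹) p := fun p hp hpu =>
        (hcom p (hfixP ⟨p, hp, mem_centralizer_singleton_iff.mpr hpu.eq⟩)).symm
      rcases h.mem_four_of_commute huE hu2 hu1 huz (hP' z h.mem hzu) (hP' u huE rfl) hP'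
        with r | r | r | r
      · exact absurd (conj_eq_one_iff.mp r) h.ne_one
      · refine absurd (QuotientGroup.eq.mpr ?_) hane
        rw [mul_one, inv_mem_iff, hmemH]
        exact mul_inv_eq_iff_eq_mul.mp r
      · rw [hF x hxu, ← r, show x⁻¹ * (x * z * x⁻¹) * x = z by group, hχz]
      · exact absurd r (hno x)
  · exact fun hn => absurd (Finset.mem_filter.mpr ⟨Finset.mem_univ _, fun p => by
      show (p : G) • ((1 : G) : G ⧸ centralizer ({z} : Set G)) = _
      rw [hfix]; simpa using hE (hPm p).1⟩) hn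

omit [Finite G] in
theorem conj_of_comm {c w : G} (hc : Commute c w) : c * w * c⁻¹ = w := by
  rw [hc.eq, mul_inv_cancel_right]

/-- The value recording whether `c` commutes with `e`. -/
noncomputable def flagAt (e c : G) : Multiplicative (ZMod 2) :=
  haveI := Classical.dec (Commute c e)
  if Commute c e then 1 else Multiplicative.ofAdd 1

omit [Finite G] in
theorem flagAt_eq_one {e c : G} : flagAt e c = 1 ↔ Commute c e := by
  unfold flagAt
  by_cases h : Commute c e <;> simp [h]

omit [Finite G] in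
theorem flagAt_mul (h : Hub E z) {e c d : G}
    (hc : c * e * c⁻¹ = e ∨ c * e * c⁻¹ = e * z) (hd : d * e * d⁻¹ = e ∨ d * e * d⁻¹ = e * z)
    (hcz : Commute c z) : flagAt e (c * d) = flagAt e c * flagAt e d := by
  have k : ∀ g : G, Commute g e ↔ g * e * g⁻¹ = e := fun g => mul_inv_eq_iff_eq_mul.symm
  have hne : e * z ≠ e := fun r => h.ne_one (by simpa using r)
  have e0 : c * d * e * (c * d)⁻¹ = c * (d * e * d⁻¹) * c⁻¹ := by group
  have ez : c * (e * z) * c⁻¹ = c * e * c⁻¹ * z := by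
    rw [show c * (e * z) * c⁻¹ = c * e * c⁻¹ * (c * z * c⁻¹) by group, hcz.eq, mul_inv_cancel_right]
  have hezz : e * z * z = e := by rw [mul_assoc, h.sq, mul_one]
  have f0 : ∀ {g : G}, g * e * g⁻¹ = e → flagAt e g = 1 := fun r => flagAt_eq_one.mpr ((k _).mpr r)
  have f1 : ∀ {g : G}, g * e * g⁻¹ = e * z → flagAt e g = Multiplicative.ofAdd 1 := fun {g} r => by
    unfold flagAt
    rw [if_neg fun hn => hne (r.symm.trans ((k g).mp hn))]
  rcases hc with r | r <;> rcases hd with r' | r'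
  · rw [f0 r, f0 r', f0 (by rw [e0, r', r]), mul_one]
  · rw [f0 r, f1 r', f1 (by rw [e0, r', ez, r]), one_mul]
  · rw [f1 r, f0 r', f1 (by rw [e0, r', r]), mul_one]
  · rw [f1 r, f1 r', f0 (by rw [e0, r', ez, r, hezz])]
    rfl

/-- A plane fixed by `C(z)` in `O₂(C(z))` makes `z` isolated. -/
theorem isolated_of_fixed_plane {G : Type*} [Group G] [Finite G] {z : G} (hz : orderOf z = 2)
    (h : Hub (coreAt z) z) (hle : coreAt z ≤ centralizer ({z} : Set G))
    (h2 : IsPGroup 2 ↥(coreAt z)) (hcard : 32 ≤ Nat.card ↥(coreAt z))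
    (hperf : centralizer ({z} : Set G) ≤
      coreAt z ⊔ ⁅centralizer ({z} : Set G), centralizer ({z} : Set G)⁆)
    (Y : Subgroup G) (hY : Y ≤ coreAt z) (hzY : z ∈ Y) (hYc : Nat.card Y = 8)
    (hnc : ∃ a ∈ Y, ∃ b ∈ Y, ¬ Commute a b)
    (hfix : ∀ c, Commute c z → ∀ y ∈ Y, c * y * c⁻¹ = y ∨ c * y * c⁻¹ = y * z)
    (hgen : coreAt z ≤ Y ⊔ ⁅centralizer ({z} : Set G), centralizer ({z} : Set G)⁆) :
    Cfsg.IsIsolatedInvolution z := by
  classical
  obtain ⟨a, haY, b, hbY, hab⟩ := hnc
  set E := coreAt z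
  set H := centralizer ({z} : Set G)
  have hH : ∀ {g : G}, g ∈ H ↔ Commute g z := fun {g} => mem_centralizer_singleton_iff
  have haE := hY haY
  have hbE := hY hbY
  have hEH : ∀ {g : G}, g ∈ E → Commute g z := fun hg => h.central _ hg
  -- the homomorphism
  let χ : ↥H →* Multiplicative (ZMod 2) × Multiplicative (ZMod 2) :=
    MonoidHom.mk' (fun c => (flagAt a c.1, flagAt b c.1)) fun c d => Prod.ext
      (flagAt_mul h (hfix _ (hH.mp c.2) a haY) (hfix _ (hH.mp d.2) a haY) (hH.mp c.2))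
      (flagAt_mul h (hfix _ (hH.mp c.2) b hbY) (hfix _ (hH.mp d.2) b hbY) (hH.mp c.2))
  set X : G → Multiplicative (ZMod 2) × Multiplicative (ZMod 2) := extOne χ with hX
  have Xval : ∀ g, Commute g z → X g = (flagAt a g, flagAt b g) := fun g hg => by
    rw [hX, extOne_of_mem χ (hH.mpr hg)]; rfl
  have Xmul : ∀ {g k : G}, Commute g z → Commute k z → X (g * k) = X g * X k := fun hg hk =>
    extOne_mul χ (hH.mpr hg) (hH.mpr hk)
  have Xker : ∀ {g : G}, Commute g z → (X g = 1 ↔ Commute g a ∧ Commute g b) := fun hg => by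
    rw [Xval _ hg, Prod.ext_iff]
    simp [flagAt_eq_one]
  set o : Multiplicative (ZMod 2) := Multiplicative.ofAdd 1
  have fo : ∀ {e c : G}, ¬ Commute c e → flagAt e c = o := fun {e c} hn => by
    unfold flagAt; rw [if_neg hn]
  have Xa : X a = (1, o) := by
    rw [Xval a (hEH haE), flagAt_eq_one.mpr (Commute.refl a), fo hab]
  have Xb : X b = (o, 1) := by
    rw [Xval b (hEH hbE), flagAt_eq_one.mpr (Commute.refl b), fo fun r => hab r.symm]
  have Xone : X 1 = 1 := extOne_one χ
  have Xab : X (a * b) = (o, o) := by rw [Xmul (hEH haE) (hEH hbE), Xa, Xb]; rfl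
  have Xz : X z = 1 := (Xker (Commute.refl z)).mpr ⟨(hEH haE).symm, (hEH hbE).symm⟩
  have hrep : ∀ v, ∃ m ∈ Y, X m = v ∧ (m = 1 ∨ m = a ∨ m = b ∨ m = a * b) := by
    have all : ∀ v : Multiplicative (ZMod 2) × Multiplicative (ZMod 2),
        v = 1 ∨ v = (1, o) ∨ v = (o, 1) ∨ v = (o, o) := by decide
    intro v
    rcases all v with rfl | rfl | rfl | rfl
    exacts [⟨1, one_mem _, Xone, Or.inl rfl⟩, ⟨a, haY, Xa, Or.inr (Or.inl rfl)⟩,
      ⟨b, hbY, Xb, Or.inr (Or.inr (Or.inl rfl))⟩,
      ⟨a * b, mul_mem haY hbY, Xab, Or.inr (Or.inr (Or.inr rfl))⟩]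
  choose rep hrepY hrepX hrepC using hrep
  have hsplit : ∀ {c : G}, Commute c z →
      Commute ((rep (X c))⁻¹ * c) z ∧ X ((rep (X c))⁻¹ * c) = 1 := fun {c} hc => by
    have hm := hEH (hY (hrepY (X c)))
    refine ⟨hm.inv_left.mul_left hc, ?_⟩
    have := Xmul hm (hm.inv_left.mul_left hc)
    rw [mul_inv_cancel_left, hrepX] at this
    exact mul_eq_left.mp this.symm
  -- the kernel inside `Y`
  have hker : ∀ y ∈ Y, X y = 1 → y = 1 ∨ y = z := by
    intro y hy hXy
    by_contra hne
    push Not at hne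
    let k : Fin 3 → G := ![1, z, y]
    have hkY : ∀ i, k i ∈ Y := fun i => by fin_cases i; exacts [one_mem _, hzY, hy]
    have hkX : ∀ i, X (k i) = 1 := fun i => by fin_cases i; exacts [Xone, Xz, hXy]
    have kinj : Function.Injective k := by
      intro i j e
      fin_cases i <;> fin_cases j <;> simp [k, h.ne_one, h.ne_one.symm, hne.1, hne.1.symm, hne.2,
        hne.2.symm] at e ⊢
    let f : (Multiplicative (ZMod 2) × Multiplicative (ZMod 2)) × Fin 3 → ↥Y := fun p =>
      ⟨rep p.1 * k p.2, mul_mem (hrepY _) (hkY _)⟩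
    have finj : Function.Injective f := by
      rintro ⟨v, i⟩ ⟨w, j⟩ e
      have e' : rep v * k i = rep w * k j := congrArg Subtype.val e
      have e1 := congrArg X e'
      rw [Xmul (hEH (hY (hrepY v))) (hEH (hY (hkY i))),
        Xmul (hEH (hY (hrepY w))) (hEH (hY (hkY j))), hrepX, hrepX, hkX, hkX, mul_one, mul_one] at e1
      subst e1
      rw [kinj (mul_left_cancel e')]
    have := Nat.card_le_card_of_injective f finj
    rw [hYc] at this
    simp at this
  have hcomm : ∀ {x : G}, x ∈ E → X x = 1 → ∀ v, Commute x (rep v) := fun {x} hx hx1 v => by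
    obtain ⟨h1, h1'⟩ := (Xker (hEH hx)).mp hx1
    rcases hrepC v with e | e | e | e <;> rw [e]
    exacts [Commute.one_right x, h1, h1', h1.mul_right h1']
  -- the transfer
  have : FiniteIndex H := inferInstance
  set T := MonoidHom.transfer χ
  have Tz : ∀ {g k : G}, T (g * k * g⁻¹ * k⁻¹) = 1 := fun {g k} => by
    simp [map_mul, map_inv, mul_comm (T g)]
  have hTz : T z = 1 := by
    have e : a * b * a⁻¹ = b * z :=
      (h.comm a haE b hbE).resolve_left fun r => hab (mul_inv_eq_iff_eq_mul.mp r)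
    have e' := congrArg T e
    rw [map_mul, map_mul, map_mul, map_inv, mul_comm (T a), mul_inv_cancel_right] at e'
    exact mul_eq_left.mp e'.symm
  -- agreement on involutions
  have key : ∀ {u : G}, u ∈ E → u * u = 1 → X u ≠ 1 → T u = X u := by
    intro u hu hu2 hXu
    have hu1 : u ≠ 1 := fun r => hXu (by rw [r, Xone])
    have huz : u ≠ z := fun r => hXu (by rw [r, Xz])
    refine transfer_eq_of_not_conj h hle h2 χ Xz hu hu2 hu1 huz ?_
    obtain ⟨e, heY, hne⟩ : ∃ e ∈ Y, ¬ Commute u e := by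
      by_contra hno
      push Not at hno
      exact hXu ((Xker (hEH hu)).mpr ⟨hno a haY, hno b hbY⟩)
    exact not_conj_of_fixed h hcard (hY heY) (fun c hc => hfix c hc e heY) hu hu2 hu1 huz
      ((h.comm e (hY heY) u hu).resolve_left fun r => hne (mul_inv_eq_iff_eq_mul.mp r).symm)
  have oo : o ≠ 1 := by decide
  have Xa1 : X a ≠ 1 := by rw [Xa]; simp [Prod.ext_iff, oo]
  have Xb1 : X b ≠ 1 := by rw [Xb]; simp [Prod.ext_iff, oo]
  have Xab1 : X (a * b) ≠ 1 := by rw [Xab]; simp [Prod.ext_iff, oo]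
  have habz : Commute (a * b) z := (hEH haE).mul_left (hEH hbE)
  have hsab : a * b * (a * b) = a * a * (b * b) * z := by
    have e : b * a * b⁻¹ = a * z :=
      (h.comm b hbE a haE).resolve_left fun r => hab (mul_inv_eq_iff_eq_mul.mp r).symm
    calc a * b * (a * b) = a * (b * a * b⁻¹) * b * b := by group
      _ = a * a * (z * (b * b)) := by rw [e]; group
      _ = _ := by rw [← ((hEH hbE).mul_left (hEH hbE)).eq]; group
  obtain ⟨Ta, Tb⟩ : T a = X a ∧ T b = X b := by
    have Tab : T (a * b) = X (a * b) → T a * T b = X a * X b := fun r => by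
      rw [map_mul, Xmul (hEH haE) (hEH hbE)] at r; exact r
    rcases h.sq_cases a haE with sa | sa <;> rcases h.sq_cases b hbE with sb | sb
    · exact ⟨key haE sa Xa1, key hbE sb Xb1⟩
    · have t1 := key haE sa Xa1
      have t2 := Tab (key (mul_mem haE hbE) (by rw [hsab, sa, sb, one_mul, h.sq]) Xab1)
      rw [t1] at t2
      exact ⟨t1, mul_left_cancel t2⟩
    · have t1 := key hbE sb Xb1
      have t2 := Tab (key (mul_mem haE hbE) (by rw [hsab, sa, sb, mul_one, h.sq]) Xab1)
      rw [t1] at t2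
      exact ⟨mul_right_cancel t2, t1⟩
    obtain ⟨p, hpE, hp1, hp2⟩ : ∃ p ∈ E, X p = 1 ∧ p * p = z := by
      by_contra hno
      push Not at hno
      have inv : ∀ {p : G}, p ∈ E → X p = 1 → p * p = 1 := fun hp hp1 =>
        (h.sq_cases _ hp).resolve_right (hno _ hp hp1)
      have small : ∀ x ∈ E, X x = 1 → x = 1 ∨ x = z := by
        intro x hx hx1
        refine h.self x fun q hq => ?_
        obtain ⟨hr, hr1⟩ := hsplit (hEH hq)
        have hrE : (rep (X q))⁻¹ * q ∈ E := mul_mem (inv_mem (hY (hrepY _))) hq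
        have hxr : Commute x ((rep (X q))⁻¹ * q) := by
          set r := (rep (X q))⁻¹ * q
          have i1 := inv hrE hr1
          have i2 := inv hx hx1
          have i3 := inv (mul_mem hx hrE) (by rw [Xmul (hEH hx) (hEH hrE), hx1, hr1, one_mul])
          calc x * r = (x * r)⁻¹ := (inv_eq_of_mul_eq_one_right i3).symm
            _ = r * x := by
              rw [mul_inv_rev, inv_eq_of_mul_eq_one_right i1, inv_eq_of_mul_eq_one_right i2]
        simpa using (hcomm hx hx1 (X q)).mul_right hxr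
      let f : (Multiplicative (ZMod 2) × Multiplicative (ZMod 2)) × Bool → G := fun v =>
        rep v.1 * cond v.2 z 1
      have hsub : Function.Surjective (fun v : {v // f v ∈ E} => (⟨f v.1, v.2⟩ : ↥E)) := by
        rintro ⟨q, hq⟩
        rcases small _ (mul_mem (inv_mem (hY (hrepY _))) hq) (hsplit (hEH hq)).2 with r | r
        · have : f (X q, false) = q := by simpa [f] using inv_mul_eq_one.mp r
          exact ⟨⟨(X q, false), by rw [this]; exact hq⟩, Subtype.ext this⟩
        · have : f (X q, true) = q := by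
            show rep (X q) * z = q
            rw [← r, mul_inv_cancel_left]
          exact ⟨⟨(X q, true), by rw [this]; exact hq⟩, Subtype.ext this⟩
      have c1 := Nat.card_le_card_of_surjective _ hsub
      have c2 := Finite.card_subtype_le (fun v => f v ∈ E)
      have c3 : Nat.card ((Multiplicative (ZMod 2) × Multiplicative (ZMod 2)) × Bool) = 8 := by simp
      omega
    set t := T p
    have tt : t * t = 1 := by
      show T p * T p = 1
      rw [← map_mul, hp2, hTz]
    have hu : ∀ {v : G}, v ∈ E → v * v = z → Commute v p → X v ≠ 1 → T v * t = X v := by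
      intro v hv sv hc hv1
      have hXvp : X (v * p) = X v := by rw [Xmul (hEH hv) (hEH hpE), hp1, mul_one]
      have := key (mul_mem hv hpE)
        (by rw [hc.symm.mul_mul_mul_comm, sv, hp2, h.sq]) (hXvp ▸ hv1)
      rwa [map_mul, hXvp] at this
    obtain ⟨pa, pb⟩ := (Xker (hEH hpE)).mp hp1
    have e1 := hu haE sa pa.symm Xa1
    have e2 := hu hbE sb pb.symm Xb1
    have e3 := hu (mul_mem haE hbE) (by rw [hsab, sa, sb, h.sq, one_mul]) (pa.mul_right pb).symm Xab1
    rw [map_mul, Xmul (hEH haE) (hEH hbE), ← e1, ← e2, mul_mul_mul_comm (T a), tt, mul_one,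
      mul_eq_left] at e3
    rw [e3, mul_one] at e1 e2
    exact ⟨e1, e2⟩
  -- agreement on `C(z)`
  let S : Subgroup G := ((T.comp H.subtype).eqLocus χ).map H.subtype
  have hS : ∀ {g : G}, g ∈ S → Commute g z ∧ T g = X g := by
    rintro _ ⟨⟨g, hg⟩, e, rfl⟩
    exact ⟨hH.mp hg, (show T g = χ ⟨g, hg⟩ from e).trans (extOne_of_mem χ hg).symm⟩
  have Smk : ∀ {g : G}, Commute g z → T g = X g → g ∈ S := fun {g} hg e =>
    ⟨⟨g, hH.mpr hg⟩, e.trans (extOne_of_mem χ (hH.mpr hg)), rfl⟩
  have hder : ⁅H, H⁆ ≤ S := commutator_le.mpr fun g hg k hk => by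
    refine Smk (hH.mp (H.mul_mem (H.mul_mem (H.mul_mem hg hk) (inv_mem hg)) (inv_mem hk))) ?_
    have hg' := hH.mp hg
    have hk' := hH.mp hk
    rw [commutatorElement_def, Tz, Xmul ((hg'.mul_left hk').mul_left hg'.inv_left) hk'.inv_left,
      Xmul (hg'.mul_left hk') hg'.inv_left, Xmul hg' hk', mul_comm (X g), mul_assoc (X k),
      ← Xmul hg' hg'.inv_left, mul_inv_cancel, Xone, mul_one, ← Xmul hk' hk'.inv_left,
      mul_inv_cancel, Xone]
  have hYS : Y ≤ S := by
    intro y hy
    have e1 : rep (X y) ∈ S := by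
      have hA : a ∈ S := Smk (hEH haE) Ta
      have hB : b ∈ S := Smk (hEH hbE) Tb
      rcases hrepC (X y) with e | e | e | e <;> rw [e]
      exacts [one_mem _, hA, hB, mul_mem hA hB]
    have e2 : (rep (X y))⁻¹ * y ∈ S := by
      rcases hker _ (mul_mem (inv_mem (hrepY _)) hy) (hsplit (hEH (hY hy))).2 with r | r <;> rw [r]
      exacts [one_mem _, Smk (Commute.refl z) (hTz.trans Xz.symm)]
    simpa using mul_mem e1 e2
  have hall : ∀ {g : G}, Commute g z → T g = X g := fun hg =>
    (hS ((hperf.trans (sup_le (hgen.trans (sup_le hYS hder)) hder)) (hH.mpr hg))).2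
  -- isolation
  refine ⟨hz, fun g hzs => ?_⟩
  set s := g * z * g⁻¹ with hs
  have Ts : T s = 1 := by rw [hs, map_mul, map_mul, map_inv, hTz, mul_one, mul_inv_cancel]
  obtain ⟨sa, sb⟩ := (Xker hzs.symm).mp ((hall hzs.symm).symm.trans Ts)
  -- `g a g⁻¹`, `g b g⁻¹`
  let R : G → Prop := fun r => Commute r z ∧ Commute r s ∧ T r = 1
  have hR : ∀ {r : G}, R r → Commute r a ∧ Commute r b := fun {r} hr =>
    (Xker hr.1).mp ((hall hr.1).symm.trans hr.2.2)
  have conjc : ∀ {x w : G}, Commute x w → Commute (g * x * g⁻¹) (g * w * g⁻¹) := fun hxw =>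
    hxw.map (MulAut.conj g).toMonoidHom
  have hR' : ∀ {r : G}, R r → Commute r (g * a * g⁻¹) ∧ Commute r (g * b * g⁻¹) := by
    intro r hr
    have hw : Commute (g⁻¹ * r * g) z := by
      have := hr.2.1.map (MulAut.conj g⁻¹).toMonoidHom
      simpa [s, mul_assoc] using this
    have hT : T (g⁻¹ * r * g) = 1 := by
      rw [map_mul, map_mul, map_inv, hr.2.2, mul_one, inv_mul_cancel]
    obtain ⟨r1, r2⟩ := (Xker hw).mp ((hall hw).symm.trans hT)
    have e : r = g * (g⁻¹ * r * g) * g⁻¹ := by group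
    exact ⟨e ▸ conjc r1, e ▸ conjc r2⟩
  have Rz : R z := ⟨Commute.refl z, hzs, hTz⟩
  have dec : ∀ w : G, w = g * a * g⁻¹ ∨ w = g * b * g⁻¹ →
      ∃ v r, w = rep v * r ∧ R r ∧ ∀ r', R r' → Commute r r' := by
    intro w hw
    have hwz : Commute w z := by
      rcases hw with rfl | rfl
      exacts [(hR' Rz).1.symm, (hR' Rz).2.symm]
    have hws : Commute w s := by
      rcases hw with rfl | rfl
      exacts [conjc (hEH haE), conjc (hEH hbE)]
    obtain ⟨hr, hr1⟩ := hsplit hwz
    have hms : ∀ v, Commute (rep v) s := fun v => by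
      rcases hrepC v with e | e | e | e <;> rw [e]
      exacts [Commute.one_left s, sa.symm, sb.symm, sa.symm.mul_left sb.symm]
    refine ⟨X w, _, (mul_inv_cancel_left _ _).symm,
      ⟨hr, (hms _).inv_left.mul_left hws, (hall hr).trans hr1⟩, fun r' hr' => ?_⟩
    have c1 : Commute (rep (X w)) r' := by
      obtain ⟨ra, rb⟩ := hR hr'
      rcases hrepC (X w) with e | e | e | e <;> rw [e]
      exacts [Commute.one_left r', ra.symm, rb.symm, ra.symm.mul_left rb.symm]
    refine c1.inv_left.mul_left ?_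
    rcases hw with rfl | rfl
    exacts [(hR' hr').1.symm, (hR' hr').2.symm]
  obtain ⟨v1, r1, e1, R1, C1⟩ := dec _ (Or.inl rfl)
  obtain ⟨v2, r2, e2, R2, C2⟩ := dec _ (Or.inr rfl)
  have ab' : g * a * g⁻¹ * (g * b * g⁻¹) * (g * a * g⁻¹)⁻¹ = g * b * g⁻¹ * s := by
    have e : a * b * a⁻¹ = b * z :=
      (h.comm a haE b hbE).resolve_left fun r => hab (mul_inv_eq_iff_eq_mul.mp r)
    calc _ = g * (a * b * a⁻¹) * g⁻¹ := by group
      _ = _ := by rw [e, hs]; group
  have hm : ∀ v r, R r → Commute (rep v) r := fun v r hr => by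
    obtain ⟨ra, rb⟩ := hR hr
    rcases hrepC v with e | e | e | e <;> rw [e]
    exacts [Commute.one_left r, ra.symm, rb.symm, ra.symm.mul_left rb.symm]
  rw [e1, e2] at ab'
  have calc1 : rep v1 * r1 * (rep v2 * r2) * (rep v1 * r1)⁻¹ =
      rep v1 * rep v2 * (rep v1)⁻¹ * r2 := by
    calc _ = rep v1 * (r1 * (rep v2 * r2) * r1⁻¹) * (rep v1)⁻¹ := by group
      _ = rep v1 * (rep v2 * r2) * (rep v1)⁻¹ := by
          rw [conj_of_comm ((hm v2 r1 R1).symm.mul_right (C1 r2 R2))]
      _ = rep v1 * rep v2 * ((r2 * (rep v1)⁻¹)) := by group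
      _ = _ := by rw [← (hm v1 r2 R2).inv_left.eq]; group
  rw [calc1] at ab'
  rcases h.comm _ (hY (hrepY v1)) _ (hY (hrepY v2)) with r | r <;> rw [r] at ab'
  · have s1 : g * z * g⁻¹ = 1 := mul_eq_left.mp ab'.symm
    exact absurd (conj_eq_one_iff.mp s1) h.ne_one
  · rw [mul_assoc, R2.1.symm.eq,
      ← mul_assoc] at ab'
    exact (mul_left_cancel ab').symm

end Cfsg.Agent.U6Local
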