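import Cfsg.Agent.Lib.U6Local.Natural

/-!
# The modules of dimension 8 of `U₄(2)` with an invariant form

`module_cases`: the natural module, or a fixed plane.
-/

set_option autoImplicit false

namespace Cfsg.Agent.U6Local

/-- The weights of the orbit of six. -/
def sixIdx : Fin 6 → Fin 13 := ![4, 5, 6, 7, 8, 9]

theorem sixIdx_reach : ∀ i, reps (sixIdx i) ∈ reach 4 (rep 1) ∨ -reps (sixIdx i) ∈ reach 4 (rep 1) := by
  decide +kernel

theorem sixIdx_indep : ∀ i j, i ≠ j → ∀ w, ∃ t, chi (reps (sixIdx j)) t = 0 ∧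
    chi (reps (sixIdx i)) t = chi (reps (sixIdx i)) w := by decide +kernel

theorem not_plane_reach : ∀ k : Fin 13, (k : ℕ) < 10 → ∃ c : Fin 3, c ≠ 2 ∧
    (rep c ∈ reach 4 (reps k) ∨ -rep c ∈ reach 4 (reps k)) := by decide +kernel

theorem plane_move : tau 1 (reps 10) = reps 11 ∧ tau 1 (reps 11) = reps 10 ∧
    tau 0 (reps 11) = reps 12 ∧ tau 0 (reps 12) = reps 11 := by decide +kernel

theorem plane_d111 : ∀ k : Fin 13, 10 ≤ (k : ℕ) → chi (reps k) (1, 1, 1) ≠ 0 := by decide +kernel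

theorem omp_ne_one : ∀ a : ZMod 3, a ≠ 0 → omp a + 1 ≠ 0 := by decide +kernel

theorem dd_dLast : ∀ x, dd x * dLast = dLast * dd x := by decide +kernel

namespace QRep

variable {V : Type*} [AddCommGroup V] (R : QRep V)
include R

theorem occ_of_reach {e e' : TT} (h : R.Occ e) (he : e' ∈ reach 4 e ∨ -e' ∈ reach 4 e) : R.Occ e' := by
  rcases he with he | he
  · exact R.occ_reach h 4 e' he
  · have := R.occ_neg (R.occ_reach h 4 _ he)
    rwa [neg_neg] at this

/-- The weight space. -/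
def wsp (e : TT) : AddSubgroup V where
  carrier := {v | R.prE e v = v}
  zero_mem' := R.prE_zero' e
  add_mem' := fun {a b} (ha : R.prE e a = a) (hb : R.prE e b = b) => by
    show R.prE e (a + b) = a + b
    rw [R.prE_add, ha, hb]
  neg_mem' := fun {a} (ha : R.prE e a = a) => by
    show R.prE e (-a) = -a
    rwa [neg_eq_of_add_eq_zero_left (R.two a)]

/-- The fixed space of the torus. -/
def fixT : AddSubgroup V where
  carrier := {v | R.piE 0 v = v}
  zero_mem' := R.piE_zero' 0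
  add_mem' := fun {a b} (ha : R.piE 0 a = a) (hb : R.piE 0 b = b) => by
    show R.piE 0 (a + b) = a + b
    rw [R.piE_add, ha, hb]
  neg_mem' := fun {a} (ha : R.piE 0 a = a) => by
    show R.piE 0 (-a) = -a
    rwa [neg_eq_of_add_eq_zero_left (R.two a)]

theorem gs_wsp_le [Finite V] (s : Fin 3) (e : TT) :
    Nat.card (R.wsp e) ≤ Nat.card (R.wsp (tau s e)) :=
  Nat.card_le_card_of_injective
    (fun v => ⟨R.ρ (gs s) (v : V), by
      show R.prE (tau s e) (R.ρ (gs s) (v : V)) = _
      rw [← R.gs_prE, (v.2 : R.prE e (v : V) = v)]⟩)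
    fun a b h => by
      have e : R.ρ (gs s) (a : V) = R.ρ (gs s) (b : V) := congrArg Subtype.val h
      exact Subtype.ext (by rw [← R.gs_gs s (a : V), e, R.gs_gs])

/-- The case with weights in the orbit of three only. -/
theorem plane [Finite V] (hV : Nat.card V = 256)
    (hlow : ∀ k : Fin 13, (k : ℕ) < 10 → ∀ v, R.prE (reps k) v = 0) :
    ∃ W : AddSubgroup V, Nat.card W = 4 ∧ (∀ w ∈ W, ∀ m, R.ρ m w = w) ∧
      (∃ a ∈ W, ∃ b ∈ W, R.q (a + b) ≠ R.q a + R.q b) ∧
      W ⊔ AddSubgroup.closure {x | ∃ (m : M4) (v : V), x = R.ρ m v + v} = ⊤ := by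
  classical
  have total3 : ∀ v, v = R.piE 0 v + (R.prE (reps 10) v + R.prE (reps 11) v + R.prE (reps 12) v) := by
    intro v
    have key := R.total v
    rw [← Finset.sum_subset (Finset.subset_univ ({10, 11, 12} : Finset (Fin 13))) fun k _ hk =>
      hlow k (by revert hk; revert k; decide) v, Finset.sum_insert (by decide),
      Finset.sum_insert (by decide), Finset.sum_singleton,
      ← add_assoc (R.prE (reps 10) v)] at key
    exact key
  -- some weight occurs
  have hocc : R.Occ (reps 10) := by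
    obtain ⟨m, v, hv⟩ := R.hne
    by_contra h10
    have hz : ∀ k : Fin 13, ∀ u, R.prE (reps k) u = 0 := by
      intro k u
      by_contra hk
      have hk10 : 10 ≤ (k : ℕ) := by
        by_contra h
        exact hk (hlow k (by omega) u)
      refine h10 (R.occ_of_reach (e := reps k) ⟨u, hk⟩ ?_)
      have : ∀ k : Fin 13, 10 ≤ (k : ℕ) →
          reps 10 ∈ reach 4 (reps k) ∨ -reps 10 ∈ reach 4 (reps k) := by decide +kernel
      exact this k hk10
    have hd : ∀ x u, R.d x u = u := by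
      intro x u
      have e := R.total u
      rw [Finset.sum_eq_zero fun k _ => hz k u, add_zero] at e
      rw [e, R.pi0_fixed]
    have h1 : dd (1, 1, 1) = 1 := R.injective R.hne fun u => hd _ u
    exact absurd h1 (by decide +kernel)
  have h11 : R.Occ (reps 11) := plane_move.1 ▸ R.occ_tau hocc 1
  -- counting
  set W := R.fixT with hW_def
  let f : W × R.wsp (reps 10) × R.wsp (reps 11) × R.wsp (reps 12) → V :=
    fun p => (p.1 : V) + ((p.2.1 : V) + p.2.2.1 + p.2.2.2)
  have hWm : ∀ v, R.piE 0 v ∈ W := fun v => R.piE_piE 0 v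
  have hUm : ∀ e v, R.prE e v ∈ R.wsp e := R.prE_prE
  have hf : Function.Bijective f := by
    refine ⟨fun p p' h => ?_, fun v => ⟨(⟨_, hWm v⟩, ⟨_, hUm _ v⟩, ⟨_, hUm _ v⟩, ⟨_, hUm _ v⟩),
      (total3 v).symm⟩⟩
    obtain ⟨⟨w, hw⟩, ⟨a, ha⟩, ⟨b, hb⟩, ⟨c, hc⟩⟩ := p
    obtain ⟨⟨w', hw'⟩, ⟨a', ha'⟩, ⟨b', hb'⟩, ⟨c', hc'⟩⟩ := p'
    replace hw : R.piE 0 w = w := hw
    replace hw' : R.piE 0 w' = w' := hw'
    replace h : w + (a + b + c) = w' + (a' + b' + c') := h
    have kill0 : ∀ e u, R.prE e u = u → R.piE 0 u = 0 := fun e u hu => by rw [← hu, R.pi0_prE]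
    have ew : w = w' := by
      have := congrArg (R.piE 0) h
      simpa [R.piE_add, hw, hw', kill0 _ _ ha, kill0 _ _ hb, kill0 _ _ hc, kill0 _ _ ha',
        kill0 _ _ hb', kill0 _ _ hc'] using this
    have kill : ∀ k l : Fin 13, k ≠ l → ∀ u, R.prE (reps l) u = u → R.prE (reps k) u = 0 :=
      fun k l hkl u hu => by rw [← hu, R.prE_reps hkl]
    have killw : ∀ e, R.prE e w = 0 := fun e => by rw [← hw, R.prE_pi0]
    subst ew
    have hae : R.prE (reps 10) a = a := ha
    have hae' : R.prE (reps 10) a' = a' := ha'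
    have hbe : R.prE (reps 11) b = b := hb
    have hbe' : R.prE (reps 11) b' = b' := hb'
    have ea : a = a' := by
      have := congrArg (R.prE (reps 10)) h
      simpa [R.prE_add, killw, hae, hae',
        kill 10 11 (by decide) _ hb, kill 10 12 (by decide) _ hc,
        kill 10 11 (by decide) _ hb', kill 10 12 (by decide) _ hc'] using this
    have eb : b = b' := by
      have := congrArg (R.prE (reps 11)) h
      simpa [R.prE_add, killw, hbe, hbe',
        kill 11 10 (by decide) _ ha, kill 11 12 (by decide) _ hc,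
        kill 11 10 (by decide) _ ha', kill 11 12 (by decide) _ hc'] using this
    subst ea eb
    have ec : c = c' := add_left_cancel (add_left_cancel h)
    subst ec
    rfl
  have hcard : Nat.card W * (Nat.card (R.wsp (reps 10)) * (Nat.card (R.wsp (reps 11)) *
      Nat.card (R.wsp (reps 12)))) = 256 := by
    rw [← hV, ← Nat.card_congr (Equiv.ofBijective f hf)]
    simp only [Nat.card_prod]
  have e11 : Nat.card (R.wsp (reps 11)) = Nat.card (R.wsp (reps 10)) := by
    have a := R.gs_wsp_le 1 (reps 10)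
    have b := R.gs_wsp_le 1 (reps 11)
    rw [plane_move.1] at a
    rw [plane_move.2.1] at b
    omega
  have e12 : Nat.card (R.wsp (reps 12)) = Nat.card (R.wsp (reps 10)) := by
    have a := R.gs_wsp_le 0 (reps 11)
    have b := R.gs_wsp_le 0 (reps 12)
    rw [plane_move.2.2.1] at a
    rw [plane_move.2.2.2] at b
    omega
  have h4 : 4 ≤ Nat.card (R.wsp (reps 10)) := by
    obtain ⟨v, hv⟩ := hocc
    have hx : R.prE (reps 10) (R.prE (reps 10) v) = R.prE (reps 10) v := R.prE_prE _ v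
    obtain ⟨y, hy⟩ := exists_chi_one (reps 10) (reps_ne 10)
    have h := Nat.card_le_card_of_injective
      (fun c : K => (⟨R.psi y (R.prE (reps 10) v) c, R.prE_psi hx c⟩ : R.wsp (reps 10)))
      fun a b hab => by
        have h0 : R.psi y (R.prE (reps 10) v) (a + b) = 0 := by
          have e : R.psi y (R.prE (reps 10) v) a = R.psi y (R.prE (reps 10) v) b :=
            congrArg Subtype.val hab
          rw [R.psi_add hy hx, e, R.two]
        calc a = a + (b + b) := by rw [k4_add_self, add_zero]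
          _ = b := by rw [← add_assoc, R.psi_eq_zero hv h0, zero_add]
    rwa [Nat.card_eq_fintype_card, card_K'] at h
  rw [e11, e12] at hcard
  set n := Nat.card (R.wsp (reps 10))
  have hdvd : n ∣ 256 := hV ▸ AddSubgroup.card_addSubgroup_dvd_card _
  have hW4 : Nat.card W = 4 := by
    have hW1 : 1 ≤ Nat.card W := Nat.card_pos
    have hn6 : n ≤ 6 := by
      by_contra hc
      have h7 : 7 * (7 * 7) ≤ n * (n * n) :=
        Nat.mul_le_mul (by omega) (Nat.mul_le_mul (by omega) (by omega))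
      nlinarith [Nat.le_mul_of_pos_left (n * (n * n)) hW1]
    interval_cases n <;> omega
  -- the centraliser of `dLast` and the transpositions preserve `W`
  have hWiff : ∀ v, v ∈ W ↔ R.d (1, 1, 1) v = v := by
    refine fun v => ⟨fun hv => by rw [← (hv : R.piE 0 v = v), R.pi0_fixed], fun hv => ?_⟩
    have hz : ∀ k : Fin 13, R.prE (reps k) v = 0 := by
      intro k
      by_cases hk : (k : ℕ) < 10
      · exact hlow k hk v
      by_contra hp
      obtain ⟨y, hy⟩ := exists_chi_one (reps k) (reps_ne k)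
      have hx : R.prE (reps k) (R.prE (reps k) v) = R.prE (reps k) v := R.prE_prE _ v
      have h1 : R.d (1, 1, 1) (R.prE (reps k) v) = R.prE (reps k) v := by
        simp only [Rep.prE, Rep.d, map_add]
        show R.d (1, 1, 1) (R.piE (reps k) v) + R.d (1, 1, 1) (R.piE 0 v) = _
        rw [R.d_piE, R.d_piE, hv]
      have h2 := R.d_psi hy hx (1, 1, 1) 1
      rw [R.psi_one, mul_one, h1] at h2
      refine omp_ne_one _ (plane_d111 k (by omega)) (R.psi_eq_zero hp (y := y) ?_)
      rw [R.psi_add hy hx, ← h2, R.psi_one, R.two]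
    show R.piE 0 v = v
    have e := R.total v
    rw [Finset.sum_eq_zero fun k _ => hz k, add_zero] at e
    exact e.symm
  have hcent : ∀ m : M4, m * dLast = dLast * m → ∀ w ∈ W, R.ρ m w ∈ W := by
    intro m hm w hw
    rw [hWiff]
    show R.ρ (dd (1, 1, 1)) (R.ρ m w) = _
    rw [← R.ρ_mul, dLast_eq, ← hm, R.ρ_mul, ← dLast_eq]
    exact congrArg (R.ρ m) ((hWiff w).1 hw)
  let St : Subgroup M4 :=
    { carrier := {m | (∀ w ∈ W, R.ρ m w ∈ W) ∧ ∀ w ∈ W, R.ρ m⁻¹ w ∈ W}
      one_mem' := ⟨fun w hw => by rwa [R.ρ_one], fun w hw => by rwa [inv_one, R.ρ_one]⟩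
      mul_mem' := fun {a b} ha hb => ⟨fun w hw => by rw [R.ρ_mul]; exact ha.1 _ (hb.1 w hw),
        fun w hw => by rw [mul_inv_rev, R.ρ_mul]; exact hb.2 _ (ha.2 w hw)⟩
      inv_mem' := fun {a} ha => ⟨ha.2, fun w hw => by rw [inv_inv]; exact ha.1 w hw⟩ }
  have hSd : ∀ m : M4, m * dLast = dLast * m → m ∈ St := fun m hm => ⟨hcent m hm, hcent m⁻¹ (by
    calc m⁻¹ * dLast = m⁻¹ * (dLast * m) * m⁻¹ := by group
      _ = dLast * m⁻¹ := by rw [← hm]; group)⟩
  have hSg : ∀ s, gs s ∈ St := fun s => by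
    have h : ∀ w ∈ W, R.ρ (gs s) w ∈ W := fun w hw => by
      show R.piE 0 (R.ρ (gs s) w) = _
      conv_lhs => rw [← R.tau_zero s, ← R.gs_piE, (hw : R.piE 0 w = w)]
    exact ⟨h, by rwa [inv_eq_of_mul_eq_one_right (gs_sq s)]⟩
  let Fx : Subgroup M4 :=
    { carrier := {m | ∀ w ∈ W, R.ρ m w = w}
      one_mem' := fun w _ => R.ρ_one w
      mul_mem' := fun {a b} ha hb w hw => by rw [R.ρ_mul, hb w hw, ha w hw]
      inv_mem' := fun {a} ha w hw => by
        conv_lhs => rw [← ha w hw, ← R.ρ_mul, inv_mul_cancel, R.ρ_one] }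
  have hconj : ∀ g ∈ St, ∀ a ∈ Fx, g * a * g⁻¹ ∈ Fx := fun g hg a ha w hw => by
    rw [R.ρ_mul, R.ρ_mul, ha _ (hg.2 w hw), ← R.ρ_mul, mul_inv_cancel, R.ρ_one]
  have hdF : ∀ x, dd x ∈ Fx := fun x w hw => by
    show R.d x w = w
    rw [← (hw : R.piE 0 w = w), R.pi0_fixed]
  have h12 : s12 ∈ St := hSg 0
  have h23 : s23 ∈ St := hSg 1
  have h34 : s34 ∈ St := hSg 2
  have hgS : ∀ k x, permList k * dd x ∈ St := fun k x => by
    refine mul_mem ?_ (hSd _ (dd_dLast x))
    fin_cases k
    exacts [one_mem _, h34, mul_mem h23 h34, mul_mem h12 (mul_mem h23 h34)]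
  have hFx : Fx = ⊤ := eq_top_of_triflections Fx
    (fun k x => hconj _ (hgS k x) _ (dLast_eq ▸ hdF (1, 1, 1)))
    (fun k x => hconj _ (hgS k x) _ (hconj _ (hSd _ hmat_dLast) _ (hdF _)))
  refine ⟨W, hW4, fun w hw m => (show m ∈ Fx by rw [hFx]; trivial) w hw, ?_, ?_⟩
  · have hWnt : ∃ a ∈ W, a ≠ 0 := by
      by_contra hno
      push Not at hno
      have h1 : Nat.card W ≤ 1 := Finite.card_le_one_iff_subsingleton.2
        ⟨fun u v => Subtype.ext ((hno _ u.2).trans (hno _ v.2).symm)⟩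
      omega
    obtain ⟨a, haW, ha⟩ := hWnt
    obtain ⟨u, hu⟩ := R.hnd a ha
    refine ⟨a, haW, R.piE 0 u, hWm u, fun e => hu ?_⟩
    have hB0 : R.B a (R.piE 0 u) = 0 := by
      have h2 := R.q_add a (R.piE 0 u)
      rw [e, left_eq_add] at h2
      exact h2
    have hBk : ∀ k : Fin 13, R.B a (R.prE (reps k) u) = 0 := fun k => by
      rw [← (haW : R.piE 0 a = a), ← R.B_prE, R.prE_pi0, R.B_zero_left]
    rw [R.q_add, show R.B a u = 0 by
      conv_lhs => rw [total3 u]
      rw [R.B_add_right, R.B_add_right, R.B_add_right, hB0, hBk, hBk, hBk]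
      simp, add_zero]
  · refine eq_top_iff.2 fun v _ => ?_
    rw [total3 v]
    refine add_mem (AddSubgroup.mem_sup_left (hWm v)) (AddSubgroup.mem_sup_right ?_)
    have hp : ∀ k : Fin 13, R.prE (reps k) v ∈
        AddSubgroup.closure {x | ∃ (m : M4) (v : V), x = R.ρ m v + v} := by
      intro k
      obtain ⟨y, hy⟩ := exists_chi_one (reps k) (reps_ne k)
      set p := R.prE (reps k) v
      refine AddSubgroup.subset_closure ⟨dd y, R.d y p, ?_⟩
      have h := R.weight_rel hy (R.prE_prE (reps k) v)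
      show p = R.d y (R.d y p) + R.d y p
      refine R.eq_of_add_eq_zero ?_
      rw [← h]; abel
    exact add_mem (add_mem (hp 10) (hp 11)) (hp 12)

end QRep

/-- The natural module, or a fixed plane. -/
theorem module_cases {V : Type*} [AddCommGroup V] [Finite V] (hV : Nat.card V = 256)
    (two : ∀ v : V, v + v = 0) (q : V → ZMod 2)
    (hbil : ∀ u v w : V, q (u + v + w) + q u + q v + q w = q (u + v) + q (u + w) + q (v + w))
    (hnd : ∀ v : V, v ≠ 0 → ∃ w, q (v + w) ≠ q v + q w)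
    (ρ : M4 →* AddMonoid.End V) (hne : ∃ (m : M4) (v : V), ρ m v ≠ v)
    (hq : ∀ (m : M4) (v : V), q (ρ m v) = q v) :
    (∃ f : V4 ≃+ V, (∀ m x, ρ m (f x) = f (app m x)) ∧ ∀ x, q (f x) = if hh x x = 0 then 0 else 1) ∨
    (∃ W : AddSubgroup V, Nat.card W = 4 ∧ (∀ w ∈ W, ∀ m, ρ m w = w) ∧
      (∃ a ∈ W, ∃ b ∈ W, q (a + b) ≠ q a + q b) ∧
      W ⊔ AddSubgroup.closure {x | ∃ (m : M4) (v : V), x = ρ m v + v} = ⊤) := by
  let R : QRep V := { ρ := ρ, two := two, q := q, hbil := hbil, hnd := hnd, hq := hq, hne := hne }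
  by_cases h0 : R.Occ (rep 0)
  · obtain ⟨v, hv⟩ := h0
    exact Or.inl (R.natural hV hv)
  by_cases h1 : R.Occ (rep 1)
  · exfalso
    have hocc : ∀ i, R.Occ (reps (sixIdx i)) := fun i => R.occ_of_reach h1 (sixIdx_reach i)
    choose v hv using hocc
    choose y hy using fun i => exists_chi_one _ (reps_ne (sixIdx i))
    have h := Nat.card_le_card_of_injective _ (R.psi_sum_injective (fun i => reps (sixIdx i))
      sixIdx_indep y hy (fun i => R.prE (reps (sixIdx i)) (v i)) (fun i => R.prE_prE _ _) hv)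
    rw [hV, Nat.card_eq_fintype_card, Fintype.card_fun, card_K', Fintype.card_fin] at h
    norm_num at h
  refine Or.inr (R.plane hV fun k hk u => ?_)
  by_contra hne'
  obtain ⟨c, hc2, hc⟩ := not_plane_reach k hk
  have h := R.occ_of_reach (e := reps k) ⟨u, hne'⟩ hc
  fin_cases c
  exacts [h0 h, h1 h, hc2 rfl]

end Cfsg.Agent.U6Local
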