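import Cfsg.Agent.Lib.U6Local.Coord
import Cfsg.Agent.Lib.U6Local.Module
import Cfsg.Agent.Lib.U6Local.Degenerate
import Cfsg.Agent.Lib.TI.Extraspecial
import Cfsg.Agent.Lib.PCore.Basic

/-!
# The two cases for `C(z) = 2^{1+8}.U₄(2)`

`cases_of_hom`: the core modulo `⟨z⟩` is the natural module (`Coord z`), or it has a fixed plane
and `z` is isolated.
-/

set_option autoImplicit false

namespace Cfsg.Agent.U6Local

open LargeExtraspecial

theorem not_abelian_M4 : theta * s1324 ≠ s1324 * theta := by decide +kernel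

theorem commutator_M4 : commutator M4 = ⊤ := by
  haveI := simple_M4
  refine (Subgroup.Normal.eq_bot_or_eq_top inferInstance).resolve_left fun h => not_abelian_M4 ?_
  have := Subgroup.commutator_mem_commutator (Subgroup.mem_top theta) (Subgroup.mem_top s1324)
  rw [← commutator_def, h, Subgroup.mem_bot] at this
  exact commutatorElement_eq_one_iff_mul_comm.1 this

variable {G : Type*} [Group G] [Finite G] {z : G}

/-- The two cases for any subgroup `H` of `C(z)` mapped onto `M4` with kernel `J`: coordinates for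
`J` modulo `⟨z⟩`, or a plane fixed by `H`. -/
theorem cases_sub {J H : Subgroup G} (hz : orderOf z = 2) (h : Hub J z)
    (hHz : ∀ g ∈ H, Commute g z) (hle : J ≤ H) (hcard : Nat.card ↥J = 512) (π : ↥H →* M4)
    (hsurj : Function.Surjective π) (hker : ∀ c : ↥H, π c = 1 ↔ (c : G) ∈ J) :
    (∃ (P : G → M4) (φ : G → V4), (∀ a ∈ H, ∀ b ∈ H, P (a * b) = P a * P b) ∧
      (∀ m, ∃ c ∈ H, P c = m) ∧ (∀ c ∈ H, (P c = 1 ↔ c ∈ J)) ∧
      (∀ j ∈ J, ∀ k ∈ J, φ (j * k) = φ j + φ k) ∧ (∀ x, ∃ j ∈ J, φ j = x) ∧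
      (∀ j ∈ J, (φ j = 0 ↔ j = 1 ∨ j = z)) ∧ (∀ j ∈ J, (j * j = 1 ↔ hh (φ j) (φ j) = 0)) ∧
      (∀ c ∈ H, ∀ j ∈ J, φ (c * j * c⁻¹) = app (P c) (φ j))) ∨
    ∃ Y : Subgroup G, Y ≤ J ∧ z ∈ Y ∧ Nat.card ↥Y = 8 ∧ (∃ a ∈ Y, ∃ b ∈ Y, ¬ Commute a b) ∧
      (∀ c ∈ H, ∀ y ∈ Y, c * y * c⁻¹ = y ∨ c * y * c⁻¹ = y * z) ∧ J ≤ Y ⊔ ⁅H, J⁆ ∧
      H ≤ J ⊔ ⁅H, H⁆ := by
  classical
  have hzz : z * z = 1 := h.sq
  let zJ : ↥J := ⟨z, h.mem⟩
  let Z : Subgroup ↥J := Subgroup.zpowers zJ
  have hzc : ∀ j : ↥J, Commute j zJ := fun j => Subtype.ext (h.central j j.2).eq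
  have hZn : Z.Normal := ⟨fun n hn g => by
    obtain ⟨k, rfl⟩ := Subgroup.mem_zpowers_iff.1 hn
    rw [((hzc g).zpow_right k).eq, mul_inv_cancel_right]
    exact hn⟩
  have hZmem : ∀ {j : ↥J}, j ∈ Z ↔ (j : G) = 1 ∨ (j : G) = z := by
    intro j
    constructor
    · intro hj
      obtain ⟨n, rfl⟩ := Subgroup.mem_zpowers_iff.1 hj
      rw [SubgroupClass.coe_zpow]
      rcases Int.even_or_odd n with ⟨m, rfl⟩ | ⟨m, rfl⟩
      · left; rw [← two_mul, zpow_mul, zpow_two]
        show (z * z) ^ m = 1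
        rw [hzz, one_zpow]
      · right; rw [zpow_add, zpow_one, zpow_mul, zpow_two]
        show (z * z) ^ m * z = z
        rw [hzz, one_zpow, one_mul]
    · rintro (e | e)
      · rw [show j = 1 from Subtype.ext e]; exact one_mem _
      · rw [show j = zJ from Subtype.ext e]; exact Subgroup.mem_zpowers _
  have hclz : ∀ {j k : ↥J}, (QuotientGroup.mk j : ↥J ⧸ Z) = QuotientGroup.mk k ↔
      (k : G) = j ∨ (k : G) = j * z := by
    intro j k
    rw [QuotientGroup.eq, hZmem, Subgroup.coe_mul, Subgroup.coe_inv]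
    exact or_congr (inv_mul_eq_one.trans eq_comm) inv_mul_eq_iff_eq_mul
  have hab : ∀ a b : ↥J ⧸ Z, a * b = b * a := by
    rintro ⟨a⟩ ⟨b⟩
    refine hclz.2 ?_
    rcases h.comm b b.2 a a.2 with e | e
    · exact Or.inl (mul_inv_eq_iff_eq_mul.1 e)
    · right
      show (b : G) * a = a * b * z
      rw [mul_inv_eq_iff_eq_mul.1 e, mul_assoc (a : G) z, ← (h.central b b.2).eq, ← mul_assoc]
  letI : CommGroup (↥J ⧸ Z) := { (inferInstance : Group (↥J ⧸ Z)) with mul_comm := hab }
  let cls : ↥J → Additive (↥J ⧸ Z) := fun j => Additive.ofMul (QuotientGroup.mk j)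
  have cls_surj : Function.Surjective cls := fun v => by
    obtain ⟨j, hj⟩ := QuotientGroup.mk_surjective (s := Z) (Additive.toMul v)
    exact ⟨j, congrArg Additive.ofMul hj⟩
  have cls_mul : ∀ a b, cls (a * b) = cls a + cls b := fun a b => rfl
  have cls_eq : ∀ {j k : ↥J}, cls j = cls k ↔ (k : G) = j ∨ (k : G) = j * z := fun {j k} =>
    Additive.ofMul.injective.eq_iff.trans hclz
  have cls_zero : ∀ {j : ↥J}, cls j = 0 ↔ (j : G) = 1 ∨ (j : G) = z := fun {j} => by
    rw [show (0 : Additive (↥J ⧸ Z)) = cls 1 from rfl, eq_comm, cls_eq, Subgroup.coe_one, one_mul]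
  -- squares and commutators as bits
  let zp : ZMod 2 → G := fun a => if a = 0 then 1 else z
  have h01 : ∀ a : ZMod 2, a = 0 ∨ a = 1 := by decide
  have zp_add : ∀ a b, zp (a + b) = zp a * zp b := by
    intro a b
    rcases h01 a with rfl | rfl <;> rcases h01 b with rfl | rfl <;>
      simp [zp, hzz, (by decide : (1 : ZMod 2) + 1 = 0)]
  have zp_c : ∀ a {x : G}, Commute x z → Commute x (zp a) := fun a x hx => by
    by_cases ha : a = 0 <;> simp [zp, ha, hx]
  have zp_inj : Function.Injective zp := by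
    intro a b e
    rcases h01 a with rfl | rfl <;> rcases h01 b with rfl | rfl <;>
      simp [zp, h.ne_one, h.ne_one.symm] at e ⊢
  let s : G → ZMod 2 := fun j => if j * j = 1 then 0 else 1
  have hs : ∀ {j}, j ∈ J → j * j = zp (s j) := fun {j} hj => by
    by_cases e : j * j = 1
    · simp [s, zp, e]
    · simp [s, zp, e, (h.sq_cases j hj).resolve_left e]
  let ε : G → G → ZMod 2 := fun j k => if j * k * j⁻¹ = k then 0 else 1
  have hε : ∀ {j k}, j ∈ J → k ∈ J → j * k * j⁻¹ = k * zp (ε j k) := fun {j k} hj hk => by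
    by_cases e : j * k * j⁻¹ = k
    · simp [ε, zp, e]
    · simp [ε, zp, e, (h.comm j hj k hk).resolve_left e]
  have hεadd : ∀ {j k l}, j ∈ J → k ∈ J → l ∈ J → ε (j * k) l = ε j l + ε k l := by
    intro j k l hj hk hl
    apply zp_inj
    apply mul_left_cancel (a := l)
    rw [← hε (mul_mem hj hk) hl, zp_add]
    calc j * k * l * (j * k)⁻¹ = j * (k * l * k⁻¹) * j⁻¹ := by group
      _ = (j * l * j⁻¹) * (j * zp (ε k l) * j⁻¹) := by rw [hε hk hl]; group
      _ = _ := by
        rw [hε hj hl, (zp_c _ (h.central j hj)).eq, mul_inv_cancel_right, mul_assoc]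
  have hss : ∀ {j k}, j ∈ J → k ∈ J → s (j * k) = s j + s k + ε k j := by
    intro j k hj hk
    apply zp_inj
    rw [← hs (mul_mem hj hk), zp_add, zp_add, ← hs hj, ← hs hk]
    calc j * k * (j * k) = j * (k * j * k⁻¹) * (k * k) := by group
      _ = j * j * (zp (ε k j) * (k * k)) := by rw [hε hk hj]; group
      _ = _ := by rw [← ((zp_c (ε k j) (h.central _ (mul_mem hk hk)))).eq, ← mul_assoc]
  let q : Additive (↥J ⧸ Z) → ZMod 2 := fun v => s (Function.surjInv (f := cls) cls_surj v : ↥J)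
  have hqs : ∀ j : ↥J, q (cls j) = s j := by
    intro j
    show s (Function.surjInv (f := cls) cls_surj (cls j) : ↥J) = s j
    obtain ⟨w, hw, e⟩ : ∃ w : ↥J, Function.surjInv cls_surj (cls j) = w ∧
        ((j : G) = w ∨ (j : G) = w * z) :=
      ⟨_, rfl, cls_eq.1 (Function.surjInv_eq cls_surj (cls j))⟩
    rw [hw]
    rcases e with e | e
    · rw [e]
    · apply zp_inj
      rw [← hs w.2, ← hs j.2, e]
      calc (w : G) * w = (w : G) * w * (z * z) := by rw [hzz, mul_one]
        _ = _ := ((h.central _ w.2).mul_mul_mul_comm _ _)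
  have hcardV : Nat.card (Additive (↥J ⧸ Z)) = 256 := by
    have h1 := Subgroup.card_eq_card_quotient_mul_card_subgroup Z
    rw [hcard, Nat.card_zpowers, show orderOf zJ = 2 by rw [← Subgroup.orderOf_coe]; exact hz] at h1
    rw [Nat.card_congr Additive.toMul]
    omega
  have two : ∀ v : Additive (↥J ⧸ Z), v + v = 0 := fun v => by
    obtain ⟨j, rfl⟩ := cls_surj v
    rw [← cls_mul, cls_zero]
    exact h.sq_cases j j.2
  have hbil : ∀ u v w, q (u + v + w) + q u + q v + q w = q (u + v) + q (u + w) + q (v + w) := by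
    intro u v w
    obtain ⟨a, rfl⟩ := cls_surj u
    obtain ⟨b, rfl⟩ := cls_surj v
    obtain ⟨c, rfl⟩ := cls_surj w
    simp only [← cls_mul, hqs, Subgroup.coe_mul, hss, a.2, b.2, c.2, mul_mem a.2 b.2]
    have : ε c (a * b : G) = ε c a + ε c b := by
      apply zp_inj
      apply mul_left_cancel (a := (a * b : G))
      rw [← hε c.2 (mul_mem a.2 b.2), zp_add]
      calc (c : G) * (a * b) * (c : G)⁻¹ = (c * a * (c : G)⁻¹) * (c * b * (c : G)⁻¹) := by group
        _ = a * (zp (ε c a) * b) * zp (ε c b) := by rw [hε c.2 a.2, hε c.2 b.2]; group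
        _ = _ := by rw [← (zp_c _ (h.central b b.2)).eq]; group
    rw [this]
    ring_nf
  have hnd : ∀ v, v ≠ 0 → ∃ w, q (v + w) ≠ q v + q w := by
    intro v hv
    obtain ⟨a, rfl⟩ := cls_surj v
    obtain ⟨b, hb, hab'⟩ := h.exists_not_commute (x := (a : G))
      (fun e => hv (cls_zero.2 (Or.inl e))) fun e => hv (cls_zero.2 (Or.inr e))
    refine ⟨cls ⟨b, hb⟩, fun e => hab' ?_⟩
    rw [← cls_mul, hqs, hqs, hqs, Subgroup.coe_mul, hss a.2 hb, add_eq_left] at e
    have := hε hb a.2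
    rw [e] at this
    simp only [zp, if_true, mul_one] at this
    exact (mul_inv_eq_iff_eq_mul.1 this : b * (a : G) = _).symm
  -- the action
  have conjJ : ∀ c : ↥H, ∀ j : ↥J, (c : G) * j * (c : G)⁻¹ ∈ J := fun c j =>
    h.normalizes c (hHz _ c.2) j j.2
  have cls_conj : ∀ (c : ↥H) {j k : ↥J}, cls j = cls k →
      cls ⟨_, conjJ c j⟩ = cls ⟨_, conjJ c k⟩ := by
    intro c j k e
    rw [cls_eq]
    rcases cls_eq.1 e with r | r
    · exact Or.inl (by simp [r])
    · right
      show (c : G) * k * (c : G)⁻¹ = c * j * (c : G)⁻¹ * z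
      rw [r]
      calc (c : G) * (j * z) * (c : G)⁻¹ = c * j * (c : G)⁻¹ * (c * z * (c : G)⁻¹) := by group
        _ = _ := by rw [(hHz _ c.2).eq, mul_inv_cancel_right]
  let act : ↥H → Additive (↥J ⧸ Z) → Additive (↥J ⧸ Z) := fun c v =>
    cls ⟨_, conjJ c (Function.surjInv (f := cls) cls_surj v)⟩
  have hact : ∀ c j, act c (cls j) = cls ⟨_, conjJ c j⟩ := fun c j =>
    cls_conj c (Function.surjInv_eq cls_surj (cls j))
  have act_mul : ∀ c d v, act (c * d) v = act c (act d v) := fun c d v => by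
    obtain ⟨j, rfl⟩ := cls_surj v
    refine (hact _ j).trans (Eq.trans ?_ ((congrArg (act c) (hact d j)).trans (hact c _)).symm)
    congr 1
    exact Subtype.ext (by simp [mul_assoc])
  have act_core : ∀ c : ↥H, (c : G) ∈ J → ∀ v, act c v = v := fun c hc v => by
    obtain ⟨j, rfl⟩ := cls_surj v
    rw [hact, eq_comm, cls_eq]
    exact h.comm c hc j j.2
  have act_indep : ∀ c d : ↥H, π c = π d → ∀ v, act c v = act d v := fun c d e v => by
    have hcd : π (d⁻¹ * c) = 1 := by rw [map_mul, map_inv, e, inv_mul_cancel]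
    conv_lhs => rw [← mul_inv_cancel_left d c, act_mul, act_core _ ((hker _).1 hcd)]
  choose sec hsec using hsurj
  let ρ : M4 →* AddMonoid.End (Additive (↥J ⧸ Z)) :=
    { toFun := fun m => AddMonoidHom.mk' (act (sec m)) fun u v => by
        obtain ⟨a, rfl⟩ := cls_surj u
        obtain ⟨b, rfl⟩ := cls_surj v
        rw [← cls_mul, hact, hact, hact, ← cls_mul]
        congr 1
        exact Subtype.ext (by simp [mul_assoc])
      map_one' := AddMonoidHom.ext fun v => act_core _ ((hker _).1 (hsec 1)) v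
      map_mul' := fun m n => AddMonoidHom.ext fun v =>
        (act_indep _ (sec m * sec n) (by rw [map_mul, hsec, hsec, hsec]) v).trans (act_mul _ _ v) }
  have hρ : ∀ (c : ↥H) (j : ↥J), ρ (π c) (cls j) = cls ⟨_, conjJ c j⟩ := fun c j =>
    (act_indep _ c (hsec _) _).trans (hact c j)
  have hne : ∃ m v, ρ m v ≠ v := by
    by_contra hno
    push Not at hno
    apply not_abelian_M4
    rw [← hsec theta, ← hsec s1324, ← map_mul, ← map_mul]
    set c := sec theta
    set d := sec s1324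
    have hz' : ∀ (x : ↥H) (j : G), j ∈ J → (x : G) * j * (x : G)⁻¹ = j ∨
        (x : G) * j * (x : G)⁻¹ = j * z := fun x j hj => by
      have e := hno (π x) (cls ⟨j, hj⟩)
      rw [hρ] at e
      exact cls_eq.1 e.symm
    have hzfix : ∀ x : ↥H, (x : G) * z * (x : G)⁻¹ = z := fun x => by
      rw [(hHz _ x.2).eq, mul_inv_cancel_right]
    have hsw : ∀ j ∈ J, (c : G) * (d * j * (d : G)⁻¹) * (c : G)⁻¹ =
        (d : G) * (c * j * (c : G)⁻¹) * (d : G)⁻¹ := by
      intro j hj
      have exp : ∀ (x : ↥H) (a : G), (x : G) * (a * z) * (x : G)⁻¹ = x * a * (x : G)⁻¹ * z :=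
        fun x a => by
        calc (x : G) * (a * z) * (x : G)⁻¹ = x * a * (x : G)⁻¹ * (x * z * (x : G)⁻¹) := by group
          _ = _ := by rw [hzfix x]
      rcases hz' c j hj with e | e <;> rcases hz' d j hj with e' | e' <;>
        simp only [e, e', exp]
    have hcomm : (c : G) * d * ((d : G) * c)⁻¹ ∈ J := by
      have : ∀ j ∈ J, Commute ((c : G) * d * ((d : G) * c)⁻¹) j := fun j hj => by
        refine mul_inv_eq_iff_eq_mul.1 ?_
        have hj' := h.normalizes ((d : G) * c)⁻¹ ((hHz _ d.2).mul_left (hHz _ c.2)).inv_left j hj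
        rw [inv_inv] at hj'
        calc (c : G) * d * ((d : G) * c)⁻¹ * j * ((c : G) * d * ((d : G) * c)⁻¹)⁻¹
            = (c : G) * (d * (((d : G) * c)⁻¹ * j * ((d : G) * c)) * (d : G)⁻¹) * (c : G)⁻¹ := by
              group
          _ = (d : G) * (c * (((d : G) * c)⁻¹ * j * ((d : G) * c)) * (c : G)⁻¹) * (d : G)⁻¹ :=
              hsw _ hj'
          _ = j := by group
      rcases h.self _ this with e | e <;> rw [e]
      exacts [one_mem _, h.mem]
    have h1 : π (c * d * (d * c)⁻¹) = 1 := (hker _).2 hcomm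
    rwa [map_mul, map_inv, mul_inv_eq_one] at h1
  have hq : ∀ m v, q (ρ m v) = q v := by
    intro m v
    obtain ⟨j, rfl⟩ := cls_surj v
    rw [← hsec m, hρ, hqs, hqs]
    show (if _ then (0 : ZMod 2) else 1) = _
    refine if_congr ?_ rfl rfl
    rw [show (sec m : G) * j * (sec m : G)⁻¹ * ((sec m : G) * j * (sec m : G)⁻¹) =
      (sec m : G) * ((j : G) * j) * (sec m : G)⁻¹ by group, conj_eq_one_iff]
  rcases module_cases hcardV two q hbil hnd ρ hne hq with ⟨f, hf, hfq⟩ | ⟨W, hWc, hWfix, hWnd, hWgen⟩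
  · left
    let P : G → M4 := fun g => if hg : g ∈ H then π ⟨g, hg⟩ else 1
    let φ : G → V4 := fun g => if hg : g ∈ J then f.symm (cls ⟨g, hg⟩) else 0
    have hP : ∀ c : ↥H, P c = π c := fun c => dif_pos c.2
    have hφ : ∀ j : ↥J, φ j = f.symm (cls j) := fun j => dif_pos j.2
    refine ⟨P, φ, ?_, ?_, ?_, ?_, ?_, ?_, ?_, ?_⟩
    · intro a ha b hb
      have := hP (⟨a, ha⟩ * ⟨b, hb⟩)
      rw [map_mul, ← hP, ← hP] at this
      exact this
    · exact fun m => ⟨sec m, (sec m).2, (hP _).trans (hsec m)⟩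
    · intro c hc
      rw [← hker ⟨c, hc⟩, ← hP]
    · intro j hj k hk
      have := hφ (⟨j, hj⟩ * ⟨k, hk⟩)
      rw [cls_mul, map_add, ← hφ, ← hφ] at this
      exact this
    · intro x
      obtain ⟨j, hj⟩ := cls_surj (f x)
      exact ⟨j, j.2, by rw [hφ, hj, f.symm_apply_apply]⟩
    · intro j hj
      rw [show φ j = f.symm (cls ⟨j, hj⟩) from hφ ⟨j, hj⟩, f.symm.map_eq_zero_iff, cls_zero]
    · intro j hj
      rw [show φ j = f.symm (cls ⟨j, hj⟩) from hφ ⟨j, hj⟩]
      have := hfq (f.symm (cls ⟨j, hj⟩))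
      rw [f.apply_symm_apply, hqs] at this
      constructor
      · intro e
        by_contra hne'
        rw [if_neg hne'] at this
        simp [s, e] at this
      · intro e
        rw [if_pos e] at this
        by_contra hne'
        simp [s, hne'] at this
    · intro c hc j hj
      rw [show φ (c * j * c⁻¹) = f.symm (cls ⟨_, conjJ ⟨c, hc⟩ ⟨j, hj⟩⟩) from hφ ⟨_, _⟩,
        show φ j = f.symm (cls ⟨j, hj⟩) from hφ ⟨j, hj⟩, ← hρ, f.symm_apply_eq, ← hf,
        f.apply_symm_apply, ← hP]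
  · right
    let Y₀ : Subgroup ↥J :=
      { carrier := {j | cls j ∈ W}
        one_mem' := by
          show cls 1 ∈ W
          rw [show cls 1 = (0 : Additive (↥J ⧸ Z)) from rfl]; exact zero_mem _
        mul_mem' := fun {a b} ha hb => by
          show cls (a * b) ∈ W
          rw [cls_mul]; exact add_mem ha hb
        inv_mem' := fun {a} ha => by
          show cls a⁻¹ ∈ W
          rw [show cls a⁻¹ = -cls a from rfl]; exact neg_mem ha }
    set Y := Y₀.map J.subtype with hYdef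
    have hY : Y ≤ J := Subgroup.map_subtype_le _
    have hYm : ∀ {g}, g ∈ Y → ∃ hg : g ∈ J, cls ⟨g, hg⟩ ∈ W := by
      rintro g ⟨j, hj, rfl⟩; exact ⟨j.2, hj⟩
    have hzY : z ∈ Y := ⟨zJ, by show cls zJ ∈ W; rw [cls_zero.2 (Or.inr rfl)]; exact zero_mem _, rfl⟩
    have hYc : Nat.card Y = 8 := by
      rw [hYdef, Subgroup.card_map_of_injective J.subtype_injective]
      have hb : Function.Bijective (fun p : W × Bool => (⟨if p.2 then
          Function.surjInv (f := cls) cls_surj (p.1 : Additive (↥J ⧸ Z)) * zJ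
          else Function.surjInv (f := cls) cls_surj (p.1 : Additive (↥J ⧸ Z)), by
            show cls _ ∈ W
            cases p.2
            · simp [Function.surjInv_eq cls_surj]
            · simp [cls_mul, Function.surjInv_eq cls_surj, cls_zero.2 (Or.inr rfl : (zJ : G) = 1 ∨ _)]⟩
          : Y₀)) := by
        constructor
        · rintro ⟨a, u⟩ ⟨b, v⟩ e
          have e' := congrArg Subtype.val e
          have hab : a = b := by
            apply Subtype.ext
            have e1 := congrArg cls e'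
            cases u <;> cases v <;>
              simpa [cls_mul, Function.surjInv_eq cls_surj, cls_zero.2 (Or.inr rfl : (zJ : G) = 1 ∨ _)]
                using e1
          subst hab
          cases u <;> cases v <;> simp [zJ, Subtype.ext_iff, h.ne_one] at e' ⊢
        · rintro ⟨j, hj⟩
          rcases cls_eq.1 (Function.surjInv_eq cls_surj (cls j)) with e | e
          · exact ⟨(⟨cls j, hj⟩, false), Subtype.ext (Subtype.ext e.symm)⟩
          · exact ⟨(⟨cls j, hj⟩, true), Subtype.ext (Subtype.ext e.symm)⟩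
      rw [← Nat.card_congr (Equiv.ofBijective _ hb), Nat.card_prod, hWc, Nat.card_eq_fintype_card,
        Fintype.card_bool]
    have hnc : ∃ a ∈ Y, ∃ b ∈ Y, ¬ Commute a b := by
      obtain ⟨u, hu, v, hv, huv⟩ := hWnd
      obtain ⟨a, rfl⟩ := cls_surj u
      obtain ⟨b, rfl⟩ := cls_surj v
      refine ⟨a, ⟨a, hu, rfl⟩, b, ⟨b, hv, rfl⟩, fun hc => huv ?_⟩
      rw [← cls_mul, hqs, hqs, hqs, Subgroup.coe_mul, hss a.2 b.2]
      have : (b : G) * a * (b : G)⁻¹ = a := by rw [← hc.eq, mul_inv_cancel_right]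
      simp [ε, this]
    have hfix : ∀ c ∈ H, ∀ y ∈ Y, c * y * c⁻¹ = y ∨ c * y * c⁻¹ = y * z := by
      intro c hc y hy
      obtain ⟨hyJ, hyW⟩ := hYm hy
      have := hWfix _ hyW (π ⟨c, hc⟩)
      rw [hρ] at this
      exact cls_eq.1 this.symm
    have hgen : J ≤ Y ⊔ ⁅H, J⁆ := by
      let S : AddSubgroup (Additive (↥J ⧸ Z)) :=
        { carrier := {v | ∃ j : ↥J, cls j = v ∧ (j : G) ∈ Y ⊔ ⁅H, J⁆}
          zero_mem' := ⟨1, rfl, one_mem _⟩
          add_mem' := by
            rintro u v ⟨a, rfl, ha⟩ ⟨b, rfl, hb⟩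
            exact ⟨a * b, cls_mul a b, mul_mem ha hb⟩
          neg_mem' := by
            rintro u ⟨a, rfl, ha⟩
            exact ⟨a⁻¹, rfl, inv_mem ha⟩ }
      have hS : ⊤ ≤ S := by
        rw [← hWgen, sup_le_iff, AddSubgroup.closure_le]
        refine ⟨fun v hv => ?_, ?_⟩
        · obtain ⟨j, rfl⟩ := cls_surj v
          exact ⟨j, rfl, Subgroup.mem_sup_left ⟨j, hv, rfl⟩⟩
        · rintro v ⟨m, u, rfl⟩
          obtain ⟨j, rfl⟩ := cls_surj u
          refine ⟨⟨_, conjJ (sec m) j⟩ * j⁻¹, ?_, Subgroup.mem_sup_right ?_⟩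
          · rw [cls_mul, ← hρ, hsec, show cls j⁻¹ = -cls j from rfl,
              neg_eq_of_add_eq_zero_left (two (cls j))]
          · exact Subgroup.commutator_mem_commutator (sec m).2 j.2
      intro g hg
      obtain ⟨j, hj, hjY⟩ := hS (AddSubgroup.mem_top (cls ⟨g, hg⟩))
      rcases cls_eq.1 hj with e | e
      · rw [show g = (j : G) from e]; exact hjY
      · rw [show g = (j : G) * z from e]
        exact mul_mem hjY (Subgroup.mem_sup_left hzY)
    have hperf : H ≤ J ⊔ ⁅H, H⁆ := by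
      intro g hg
      have : π ⟨g, hg⟩ ∈ (commutator ↥H).map π := by
        rw [commutator_def, Subgroup.map_commutator, Subgroup.map_top_of_surjective π
          fun m => ⟨sec m, hsec m⟩, ← commutator_def, commutator_M4]
        exact Subgroup.mem_top _
      obtain ⟨d, hd, hdg⟩ := this
      have hgd : (g : G) * (d : G)⁻¹ ∈ J := (hker (⟨g, hg⟩ * d⁻¹)).1 (by
        rw [map_mul, map_inv, hdg, mul_inv_cancel])
      have hd' : (d : G) ∈ ⁅H, H⁆ := by
        have := Subgroup.mem_map_of_mem H.subtype hd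
        rwa [commutator_def, Subgroup.map_commutator, ← MonoidHom.range_eq_map,
          Subgroup.range_subtype] at this
      simpa using mul_mem (Subgroup.mem_sup_left hgd : _ ∈ J ⊔ ⁅H, H⁆) (Subgroup.mem_sup_right hd')
    exact ⟨Y, hY, hzY, hYc, hnc, hfix, hgen, hperf⟩

/-- The natural case, or `z` isolated. -/
theorem cases_of_hom (hz : orderOf z = 2) (h : Hub (coreAt z) z)
    (hle : coreAt z ≤ Subgroup.centralizer ({z} : Set G)) (h2 : IsPGroup 2 ↥(coreAt z))
    (hcard : Nat.card ↥(coreAt z) = 512) (π : ↥(Subgroup.centralizer ({z} : Set G)) →* M4)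
    (hsurj : Function.Surjective π)
    (hker : ∀ c : ↥(Subgroup.centralizer ({z} : Set G)), π c = 1 ↔ (c : G) ∈ coreAt z) :
    Nonempty (Coord z) ∨ Cfsg.IsIsolatedInvolution z := by
  have hH : ∀ {g : G}, g ∈ Subgroup.centralizer ({z} : Set G) ↔ Commute g z := fun {g} =>
    Subgroup.mem_centralizer_singleton_iff
  rcases cases_sub hz h (fun g hg => hH.1 hg) hle hcard π hsurj hker with
    ⟨P, φ, hm, hs, hk, φm, φs, φk, φq, φc⟩ | ⟨Y, hY, hzY, hYc, hnc, hfix, hgen, hperf⟩
  · refine Or.inl ⟨{ hub := h, le_cent := hle, isTwo := h2, card_core := hcard, P := P, φ := φ,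
                      P_mul := fun a b ha hb => hm a (hH.2 ha) b (hH.2 hb),
                      P_surj := fun m => (hs m).imp fun c hc => ⟨hH.1 hc.1, hc.2⟩,
                      P_ker := fun c hc => hk c (hH.2 hc), φ_mul := φm, φ_surj := φs,
                      φ_ker := φk, φ_sq := φq, φ_conj := fun c hc => φc c (hH.2 hc) }⟩
  · exact Or.inr (isolated_of_fixed_plane hz h hle h2 (by rw [hcard]; norm_num) hperf Y hY hzY hYc
      hnc (fun c hc => hfix c (hH.2 hc))
      (hgen.trans (sup_le_sup_left (Subgroup.commutator_mono le_rfl hle) _)))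

end Cfsg.Agent.U6Local
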