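import Cfsg.Agent.Lib.U6Local.Model
import Cfsg.Agent.Lib.U6Recog.Setting

/-!
# The codes of `U6Recog` as vectors of `V4`
-/

set_option autoImplicit false

namespace Cfsg.Agent.U6Local

open G2Four U6Recog

/-- The element with code `a`. -/
def kd (a : ℕ) : K := ⟨Fin.ofNat 4 a⟩

/-- The vector with code `v`. -/
def vec (v : ℕ) : V4 := fun i => kd (coN v i)

theorem kd_inj : ∀ a < 4, ∀ b < 4, kd a = kd b → a = b := by decide +kernel

theorem kd_val : ∀ c : K, (c.v : ℕ) < 4 ∧ kd c.v = c := by decide +kernel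

theorem kd_table : ∀ a < 4, ∀ b < 4, kd (mulN a b) = kd a * kd b ∧
    kd (a ^^^ b) = kd a + kd b ∧ kd (cjN a) = kd a ^ 2 := by decide +kernel

theorem mulN_lt (a b : ℕ) : mulN a b < 4 := Nat.mod_lt _ (by norm_num)

theorem xor_lt {a b : ℕ} (ha : a < 4) (hb : b < 4) : a ^^^ b < 4 :=
  Nat.xor_lt_two_pow (n := 2) ha hb

theorem hN_lt (u v : ℕ) : hN u v < 4 :=
  xor_lt (xor_lt (xor_lt (mulN_lt _ _) (mulN_lt _ _)) (mulN_lt _ _)) (mulN_lt _ _)

theorem kd_xor {a b : ℕ} (ha : a < 4) (hb : b < 4) : kd (a ^^^ b) = kd a + kd b :=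
  (kd_table a ha b hb).2.1

theorem coN_lt (v i : ℕ) : coN v i < 4 := Nat.mod_lt _ (by norm_num)

theorem kd_hN (u v : ℕ) : kd (hN u v) = hh (vec u) (vec v) := by
  have h : ∀ i, kd (mulN (coN u i) (cjN (coN v i))) = kd (coN u i) * kd (coN v i) ^ 2 := fun i => by
    have hc : cjN (coN v i) < 4 := mulN_lt _ _
    rw [(kd_table _ (coN_lt u i) _ hc).1, (kd_table _ (coN_lt v i) _ (coN_lt v i)).2.2]
  simp only [hN, hh, Cfsg.hermForm, Fin.sum_univ_four]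
  rw [kd_xor (xor_lt (xor_lt (mulN_lt _ _) (mulN_lt _ _)) (mulN_lt _ _)) (mulN_lt _ _),
    kd_xor (xor_lt (mulN_lt _ _) (mulN_lt _ _)) (mulN_lt _ _),
    kd_xor (mulN_lt _ _) (mulN_lt _ _), h, h, h, h]
  rfl

theorem hN_eq_zero_iff (u v : ℕ) : hN u v = 0 ↔ hh (vec u) (vec v) = 0 := by
  rw [← kd_hN]
  refine ⟨fun h => by rw [h]; rfl, fun h => kd_inj _ (hN_lt u v) 0 (by norm_num) (h.trans ?_)⟩
  rfl

theorem vec_surj : ∀ x : V4,
    (x 0).v.val + 4 * (x 1).v.val + 16 * (x 2).v.val + 64 * (x 3).v.val < 256 ∧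
    vec ((x 0).v.val + 4 * (x 1).v.val + 16 * (x 2).v.val + 64 * (x 3).v.val) = x := by
  decide +kernel

theorem pt_spec : ∀ i < 45, vec (ptV i) ≠ 0 ∧ hh (vec (ptV i)) (vec (ptV i)) = 0 := by
  decide +kernel

theorem pt_cover : ∀ x : V4, x ≠ 0 → hh x x = 0 →
    ∃ i < 45, ∃ a : K, a ≠ 0 ∧ x = a • vec (ptV i) := by decide +kernel

theorem pt_distinct : ∀ i < 45, ∀ j < 45, ∀ a : K, vec (ptV i) = a • vec (ptV j) → i = j := by
  decide +kernel

theorem eq_zero_of_perp : ∀ x : V4, (∀ i < 45, hh x (vec (ptV i)) = 0) → x = 0 := by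
  decide +kernel

end Cfsg.Agent.U6Local
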