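import Cfsg.Agent.Lib.U6Local.Model
import Cfsg.Agent.Lib.LargeExtraspecial.Smith

/-!
# `C(z) = 2^{1+8}.U₄(2)` with the natural module, in coordinates

`Coord z`: a map `P` of `C(z)` onto `M4` with kernel `O₂(C(z))`, a map `φ` of `O₂(C(z))` onto
`V4` with kernel `⟨z⟩`, equivariant, with squares given by the Hermitian form.
-/

set_option autoImplicit false

namespace Cfsg.Agent.U6Local

open LargeExtraspecial

variable {G : Type*} [Group G]

/-- The polar form of `x ↦ hh x x`. -/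
def bb (x y : V4) : K := hh x y + hh y x

theorem k4_norm : ∀ a : K, a ^ 2 = a → a = 0 ∨ a = 1 := by decide +kernel

theorem hh_self_cases (x : V4) : hh x x = 0 ∨ hh x x = 1 := k4_norm _ (hh_swap x x).symm

theorem hh_add_self (x y : V4) : hh (x + y) (x + y) = hh x x + hh y y + bb x y := by
  simp only [bb, hh_add_left, hh_add_right]
  ring

theorem bb_eq_trace (x y : V4) : bb x y = hh x y + hh x y ^ 2 := by rw [bb, ← hh_swap]

theorem bb_comm (x y : V4) : bb x y = bb y x := add_comm _ _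

theorem bb_self (x : V4) : bb x x = 0 := k4_add_self _

theorem bb_cases (x y : V4) : bb x y = 0 ∨ bb x y = 1 := by
  rw [bb_eq_trace]
  refine k4_norm _ ?_
  rw [k4_sq_add, k4_four, add_comm]

/-- The data of the natural case. -/
structure Coord (z : G) where
  hub : Hub (coreAt z) z
  le_cent : coreAt z ≤ Subgroup.centralizer ({z} : Set G)
  isTwo : IsPGroup 2 ↥(coreAt z)
  card_core : Nat.card ↥(coreAt z) = 512
  /-- the action of `C(z)` -/
  P : G → M4
  P_mul : ∀ a b : G, Commute a z → Commute b z → P (a * b) = P a * P b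
  P_surj : ∀ m : M4, ∃ c : G, Commute c z ∧ P c = m
  P_ker : ∀ c : G, Commute c z → (P c = 1 ↔ c ∈ coreAt z)
  /-- coordinates on `O₂(C(z))` -/
  φ : G → V4
  φ_mul : ∀ j ∈ coreAt z, ∀ k ∈ coreAt z, φ (j * k) = φ j + φ k
  φ_surj : ∀ x : V4, ∃ j ∈ coreAt z, φ j = x
  φ_ker : ∀ j ∈ coreAt z, (φ j = 0 ↔ j = 1 ∨ j = z)
  φ_sq : ∀ j ∈ coreAt z, (j * j = 1 ↔ hh (φ j) (φ j) = 0)
  φ_conj : ∀ c : G, Commute c z → ∀ j ∈ coreAt z, φ (c * j * c⁻¹) = app (P c) (φ j)

namespace Coord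

variable {z : G} (C : Coord z)
include C

theorem z_ne : z ≠ 1 := C.hub.ne_one

theorem z_sq : z * z = 1 := C.hub.sq

theorem z_mem : z ∈ coreAt z := C.hub.mem

theorem z_inv : z⁻¹ = z := C.hub.inv_z

theorem comm_z {j : G} (hj : j ∈ coreAt z) : Commute j z := C.hub.central j hj

theorem conj_mem {c j : G} (hc : Commute c z) (hj : j ∈ coreAt z) : c * j * c⁻¹ ∈ coreAt z :=
  C.hub.normalizes c hc j hj

theorem P_one : C.P 1 = 1 := (C.P_ker 1 (Commute.one_left z)).2 (one_mem _)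

theorem P_of_mem {j : G} (hj : j ∈ coreAt z) : C.P j = 1 := (C.P_ker j (C.comm_z hj)).2 hj

theorem P_inv {c : G} (hc : Commute c z) : C.P c⁻¹ = (C.P c)⁻¹ := by
  refine eq_inv_of_mul_eq_one_left ?_
  rw [← C.P_mul _ _ hc.inv_left hc, inv_mul_cancel, C.P_one]

theorem P_conj {c d : G} (hc : Commute c z) (hd : Commute d z) :
    C.P (c * d * c⁻¹) = C.P c * C.P d * (C.P c)⁻¹ := by
  rw [C.P_mul _ _ (hc.mul_left hd) hc.inv_left, C.P_mul _ _ hc hd, C.P_inv hc]

theorem φ_z : C.φ z = 0 := (C.φ_ker z C.z_mem).2 (Or.inr rfl)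

theorem φ_one : C.φ 1 = 0 := (C.φ_ker 1 (one_mem _)).2 (Or.inl rfl)

theorem φ_inv {j : G} (hj : j ∈ coreAt z) : C.φ j⁻¹ = C.φ j := by
  have h := C.φ_mul _ (inv_mem hj) _ hj
  rw [inv_mul_cancel, C.φ_one] at h
  calc C.φ j⁻¹ = C.φ j⁻¹ + (C.φ j + C.φ j) := by rw [vec_add_self, add_zero]
    _ = C.φ j := by rw [← add_assoc, ← h, zero_add]

theorem φ_mul_z {j : G} (hj : j ∈ coreAt z) : C.φ (j * z) = C.φ j := by
  rw [C.φ_mul j hj z C.z_mem, C.φ_z, add_zero]

theorem eq_or_of_φ {j k : G} (hj : j ∈ coreAt z) (hk : k ∈ coreAt z) (h : C.φ j = C.φ k) :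
    k = j ∨ k = j * z := by
  have h0 : C.φ (j⁻¹ * k) = 0 := by
    rw [C.φ_mul _ (inv_mem hj) _ hk, C.φ_inv hj, h, vec_add_self]
  rcases (C.φ_ker _ (mul_mem (inv_mem hj) hk)).1 h0 with e | e
  · exact Or.inl (inv_mul_eq_one.1 e).symm
  · exact Or.inr (by rw [← e, mul_inv_cancel_left])

theorem sq_cases {j : G} (hj : j ∈ coreAt z) : j * j = 1 ∨ j * j = z := C.hub.sq_cases j hj

theorem sq_eq_z {j : G} (hj : j ∈ coreAt z) (h : hh (C.φ j) (C.φ j) ≠ 0) : j * j = z :=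
  (C.sq_cases hj).resolve_left fun e => h ((C.φ_sq j hj).1 e)

/-- Commutation in `O₂(C(z))` is given by `bb`. -/
theorem commute_iff {j k : G} (hj : j ∈ coreAt z) (hk : k ∈ coreAt z) :
    Commute j k ↔ bb (C.φ j) (C.φ k) = 0 := by
  -- the square of `j * k`
  have hval : ∀ {a : G}, a ∈ coreAt z →
      (a * a = 1 ∧ hh (C.φ a) (C.φ a) = 0) ∨ (a * a = z ∧ hh (C.φ a) (C.φ a) = 1) := by
    intro a ha
    rcases hh_self_cases (C.φ a) with h | h
    · exact Or.inl ⟨(C.φ_sq a ha).2 h, h⟩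
    · exact Or.inr ⟨C.sq_eq_z ha (by rw [h]; exact one_ne_zero), h⟩
  have hjk := mul_mem hj hk
  have hsum : hh (C.φ (j * k)) (C.φ (j * k)) =
      hh (C.φ j) (C.φ j) + hh (C.φ k) (C.φ k) + bb (C.φ j) (C.φ k) := by
    rw [C.φ_mul j hj k hk, hh_add_self]
  have hjz := (C.comm_z hj).eq
  constructor
  · intro hc
    have hsq : j * k * (j * k) = j * j * (k * k) := by
      rw [mul_assoc j k, ← mul_assoc k j, ← hc.eq]; group
    rcases hval hjk with ⟨e, v⟩ | ⟨e, v⟩ <;> rcases hval hj with ⟨e1, v1⟩ | ⟨e1, v1⟩ <;>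
      rcases hval hk with ⟨e2, v2⟩ | ⟨e2, v2⟩ <;> rcases bb_cases (C.φ j) (C.φ k) with b | b <;>
      simp only [v, v1, v2, b] at hsum <;> rw [hsq, e1, e2] at e <;>
      first
      | exact b
      | (exfalso; revert hsum; decide +kernel)
      | (exfalso; simp [C.z_sq, C.z_ne, C.z_ne.symm] at e)
  · intro b
    rcases C.hub.comm j hj k hk with e | e
    · exact mul_inv_eq_iff_eq_mul.1 e
    exfalso
    have hkj : k * j = j * k * z := by
      rw [mul_inv_eq_iff_eq_mul] at e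
      rw [e, mul_assoc k z, ← hjz, ← mul_assoc k j, mul_assoc _ z z, C.z_sq, mul_one]
    have hsq : j * k * (j * k) = j * j * (k * k) * z := by
      rw [mul_assoc j k, ← mul_assoc k j, hkj, mul_assoc (j * k) z, ← (C.comm_z hk).eq]; group
    rcases hval hjk with ⟨e', v⟩ | ⟨e', v⟩ <;> rcases hval hj with ⟨e1, v1⟩ | ⟨e1, v1⟩ <;>
      rcases hval hk with ⟨e2, v2⟩ | ⟨e2, v2⟩ <;>
      simp only [v, v1, v2, b] at hsum <;> rw [hsq, e1, e2] at e' <;>
      first
      | (exfalso; revert hsum; decide +kernel)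
      | simp [C.z_sq, C.z_ne, C.z_ne.symm] at e'

theorem conj_eq_mul_z {j k : G} (hj : j ∈ coreAt z) (hk : k ∈ coreAt z)
    (h : bb (C.φ j) (C.φ k) ≠ 0) : j * k * j⁻¹ = k * z :=
  (C.hub.comm j hj k hk).resolve_left fun e =>
    h ((C.commute_iff hj hk).1 (mul_inv_eq_iff_eq_mul.1 e))

/-- The commutator of an element of `C(z)` with one of the core. -/
theorem φ_commutator {c j : G} (hc : Commute c z) (hj : j ∈ coreAt z) :
    C.φ (c * j * c⁻¹ * j⁻¹) = app (C.P c) (C.φ j) + C.φ j := by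
  rw [C.φ_mul _ (C.conj_mem hc hj) _ (inv_mem hj), C.φ_conj c hc j hj, C.φ_inv hj]

end Coord

end Cfsg.Agent.U6Local
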