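import Cfsg.Agent.Lib.U6Local.Model

/-!
# Finite facts on `SU(4,2)`

* `exists_app_eq`, `exists_app_eq_pair`: transitivity on singular vectors and orthogonal pairs;
* `involution_cases`: two classes of involutions;
* `false_of_card_64`, `false_of_elementary_32`: the Sylow 2-subgroups.
-/

set_option autoImplicit false
set_option maxRecDepth 100000

namespace Cfsg.Agent.U6Local

open Matrix

/-- The scalar with code `a`. -/
def kOf (a : ℕ) : K := ⟨Fin.ofNat 4 a⟩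

/-- The matrix with code `c`, two bits per entry. -/
def dm (c : ℕ) : Matrix (Fin 4) (Fin 4) K :=
  Matrix.of fun i j => kOf (c >>> (2 * (4 * i.val + j.val)))

/-- Generators of `M4`. -/
def gen0 : M4 := ofMat (dm 1074790660) (by decide +kernel) (by decide +kernel)
/-- Second generator. -/
def gen1 : M4 := ofMat (dm 20975620) (by decide +kernel) (by decide +kernel)
/-- Third generator. -/
def gen2 : M4 := ofMat (dm 1074793474) (by decide +kernel) (by decide +kernel)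
/-- Fourth generator. -/
def gen3 : M4 := ofMat (dm 1075125787) (by decide +kernel) (by decide +kernel)

/-- The generators by index. -/
def genOf (i : ℕ) : M4 := [gen0, gen1, gen2, gen3].getD i 1

/-- The element of a word. -/
def wordEl : List ℕ → M4
  | [] => 1
  | i :: l => genOf i * wordEl l

/-- The image of a vector under a word. -/
def runV : List ℕ → V4 → V4
  | [], x => x
  | i :: l, x => app (genOf i) (runV l x)

theorem app_wordEl : ∀ (l : List ℕ) (x : V4), app (wordEl l) x = runV l x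
  | [], x => app_one x
  | i :: l, x => by rw [wordEl, app_mul, app_wordEl l x, runV]

/-- The code of a vector. -/
def vcode (u : V4) : ℕ := 64 * (u 0).v.val + 16 * (u 1).v.val + 4 * (u 2).v.val + (u 3).v.val

/-- Words carrying `v0` to the singular vectors. -/
def orbTbl : List (List ℕ) := [
  [], [], [], [], [], [1, 1], [1, 2, 1], [1, 2, 2, 1], [], [1, 2, 1, 2], [1, 2, 2, 1, 2],
  [1, 1, 2], [], [3, 2, 3, 2, 2, 1], [1, 1, 0, 2], [1, 2, 1, 0, 2], [], [0, 1], [0, 2, 1, 2],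
  [1, 1, 2, 0, 1], [3, 2], [], [], [], [1, 1, 2, 1], [], [], [], [3, 1, 1, 2, 1], [], [], [], [],
  [0, 2, 1], [2, 0, 1, 2], [0, 1, 0, 2], [2, 2, 3, 2], [], [], [], [3, 1, 2, 3, 2], [], [], [],
  [1, 1, 1, 2], [], [], [], [], [2, 0, 1], [0, 1, 2], [0, 2, 1, 0, 2], [2, 3, 2], [], [], [],
  [3, 2, 3, 2], [], [], [], [3, 1, 1, 1, 2, 1], [], [], [], [], [1], [2, 1, 2], [2, 2, 1, 0, 2],
  [1, 0, 1], [], [], [], [0, 1, 1, 2, 1], [], [], [], [1, 1, 1, 2, 0, 1], [], [], [], [], [], [],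
  [], [], [3, 1, 1], [3, 1, 2, 1], [3, 1, 2, 2, 1], [], [1, 3, 1, 2, 1], [3, 1, 2, 1, 1, 3, 1],
  [1, 1, 3, 0, 1], [], [1, 3, 1, 2, 2, 1], [1, 1, 3, 1], [1, 3, 1, 2, 1, 3, 1], [1, 1, 1, 2, 1],
  [], [], [], [], [1, 1, 3, 1, 2, 1], [3, 1, 1, 2, 3, 2, 1], [0, 1, 3, 1], [],
  [2, 1, 3, 1, 3, 0, 1], [0, 1, 1, 2, 3, 2, 1], [3, 0, 1, 3, 1], [], [3, 2, 0, 1], [3, 0, 1, 2],
  [1, 3, 0, 1, 0, 2], [0, 1, 2, 3, 2], [], [], [], [], [1, 1, 3, 1, 2, 2, 1], [0, 1, 3, 0, 1],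
  [3, 0, 1, 2, 1, 3, 1], [], [3, 2, 1], [1, 3, 1, 2], [3, 1, 0, 2], [], [0, 2, 1, 3, 0, 1, 3, 1],
  [3, 1, 3, 0, 1], [0, 1, 2, 1, 3, 1], [], [2, 1], [2, 2, 1, 2], [1, 0, 2], [2, 1, 0, 1], [], [],
  [], [1, 2, 0, 1, 2], [], [], [], [1, 0, 1, 0, 2], [], [], [], [1, 2, 2, 3, 2], [], [], [], [],
  [0, 1, 1, 3, 1, 2, 1], [3, 0, 1, 1, 2, 3, 2, 1], [1, 3, 1], [], [0, 2, 1, 3, 1, 3, 0, 1],
  [1, 1, 2, 3, 2, 1], [3, 1, 3, 1], [], [3, 2, 2, 1], [3, 1, 2], [3, 2, 1, 0, 2],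
  [2, 0, 1, 2, 3, 2], [], [], [], [], [1, 2, 1, 3, 1, 3, 0, 1], [1, 2, 3, 2, 1], [3, 2, 1, 3, 1],
  [], [2, 3, 2, 1], [2, 1, 3, 1, 2], [3, 1, 1, 2], [], [1, 3, 0, 1, 3, 1], [3, 1, 1, 3, 1],
  [2, 0, 1, 2, 1, 3, 1], [2], [], [], [], [], [3, 0, 1], [2, 3, 1, 2, 1], [3, 1, 1, 2, 0, 1], [],
  [1, 3, 0, 1, 2], [1, 3, 1, 1, 3, 1], [2, 1, 1, 3, 0, 1], [], [0, 1, 3, 1, 0, 2],
  [2, 1, 1, 3, 1], [3, 2, 1, 1, 3, 0, 1], [], [2, 2, 1], [1, 2], [2, 1, 0, 2], [1, 2, 0, 1], [],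
  [], [], [1, 0, 1, 2], [], [], [], [2, 1, 0, 1, 0, 2], [], [], [], [1, 2, 3, 2], [], [], [], [],
  [0, 1, 1, 3, 1, 2, 2, 1], [1, 3, 0, 1], [3, 1, 2, 1, 3, 1], [], [3, 0, 2, 1], [3, 2, 0, 1, 2],
  [3, 0, 1, 0, 2], [], [2, 1, 3, 0, 1, 3, 1], [3, 0, 1, 3, 0, 1], [1, 2, 1, 3, 1], [0, 2], [], [],
  [], [], [3, 1], [3, 2, 1, 2], [3, 2, 2, 1, 0, 2], [], [1, 1, 3, 1, 2], [3, 2, 1, 1, 3, 1],
  [0, 2, 1, 1, 3, 0, 1], [], [1, 3, 1, 0, 2], [0, 2, 1, 1, 3, 1], [1, 2, 3, 1, 3, 1],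
  [2, 1, 2, 2, 3, 2], [], [], [], [], [2, 0, 1, 1, 3, 1, 2, 1], [3, 1, 2, 3, 2, 1], [2, 1, 3, 1],
  [], [1, 3, 1, 3, 0, 1], [1, 2, 1, 1, 3, 1], [2, 3, 1, 3, 1], [], [2, 3, 2, 2, 1], [2, 3, 1, 2],
  [3, 1, 2, 1, 0, 2]]

/-- Words for the pairs with first member `v0`, and the two scalars. -/
def pairTbl : List (List ℕ × ℕ × ℕ) := [
  ([], 1, 1), ([], 1, 1), ([], 1, 1), ([], 1, 1), ([], 1, 1), ([], 1, 1), ([1, 1, 2, 1, 1], 1, 2),
  ([1, 1, 0, 2, 1, 1], 1, 3), ([], 1, 1), ([1, 1, 0, 2, 1, 1], 1, 2), ([], 1, 3),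
  ([1, 1, 2, 1, 1], 1, 1), ([], 1, 1), ([1, 1, 2, 1, 1], 1, 3), ([1, 1, 0, 2, 1, 1], 1, 1),
  ([], 1, 2), ([], 1, 1), ([], 1, 1), ([], 1, 1), ([], 1, 1), ([], 1, 1), ([], 1, 1), ([], 1, 1),
  ([], 1, 1), ([], 1, 1), ([], 1, 1), ([], 1, 1), ([], 1, 1), ([], 1, 1), ([], 1, 1), ([], 1, 1),
  ([], 1, 1), ([], 1, 1), ([], 1, 1), ([], 1, 1), ([], 1, 1), ([], 1, 1), ([], 1, 1), ([], 1, 1),
  ([], 1, 1), ([], 1, 1), ([], 1, 1), ([], 1, 1), ([], 1, 1), ([], 1, 1), ([], 1, 1), ([], 1, 1),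
  ([], 1, 1), ([], 1, 1), ([], 1, 1), ([], 1, 1), ([], 1, 1), ([], 1, 1), ([], 1, 1), ([], 1, 1),
  ([], 1, 1), ([], 1, 1), ([], 1, 1), ([], 1, 1), ([], 1, 1), ([], 1, 1), ([], 1, 1), ([], 1, 1),
  ([], 1, 1), ([], 1, 1), ([], 1, 1), ([], 1, 1), ([], 1, 1), ([], 1, 1), ([], 1, 1), ([], 1, 1),
  ([], 1, 1), ([], 1, 1), ([], 1, 1), ([], 1, 1), ([], 1, 1), ([], 1, 1), ([], 1, 1), ([], 1, 1),
  ([], 1, 1), ([], 1, 1), ([], 1, 1), ([], 1, 1), ([], 1, 1), ([], 1, 1), ([3], 1, 1),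
  ([3, 1, 1, 2, 1, 1], 1, 2), ([2, 3, 1, 2, 1, 1], 1, 3), ([], 1, 1), ([2, 1, 2, 2, 3, 2], 3, 3),
  ([1, 2, 2, 1, 1, 2, 1, 3], 2, 2), ([1, 1, 2, 1, 1, 3], 1, 1), ([], 1, 1),
  ([2, 0, 1, 2, 3, 2], 2, 2), ([1, 3, 1, 2, 3, 2], 2, 3), ([2, 1, 3, 1, 1, 2, 1, 3], 2, 1),
  ([], 1, 1), ([], 1, 1), ([], 1, 1), ([], 1, 1), ([], 1, 1), ([], 1, 1), ([], 1, 1), ([], 1, 1),
  ([], 1, 1), ([], 1, 1), ([], 1, 1), ([], 1, 1), ([], 1, 1), ([], 1, 1), ([], 1, 1), ([], 1, 1),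
  ([], 1, 1), ([], 1, 1), ([], 1, 1), ([], 1, 1), ([], 1, 1), ([], 1, 1), ([], 1, 1), ([], 1, 1),
  ([], 1, 1), ([], 1, 1), ([], 1, 1), ([], 1, 1), ([], 1, 1), ([], 1, 1), ([], 1, 1), ([], 1, 1),
  ([], 1, 1), ([], 1, 1), ([], 1, 1), ([], 1, 1), ([], 1, 1), ([], 1, 1), ([], 1, 1), ([], 1, 1),
  ([], 1, 1), ([], 1, 1), ([], 1, 1), ([], 1, 1), ([], 1, 1), ([], 1, 1), ([], 1, 1), ([], 1, 1),
  ([], 1, 1), ([], 1, 1), ([], 1, 1), ([], 1, 1), ([], 1, 1), ([], 1, 1), ([], 1, 1), ([], 1, 1),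
  ([], 1, 1), ([], 1, 1), ([], 1, 1), ([], 1, 1), ([], 1, 1), ([], 1, 1), ([], 1, 1), ([], 1, 1),
  ([], 1, 1), ([], 1, 1), ([], 1, 1), ([], 1, 1), ([], 1, 1), ([2, 1, 3, 1, 1, 2, 1, 3], 2, 3),
  ([2, 0, 1, 2, 3, 2], 2, 1), ([1, 3, 1, 2, 3, 2], 2, 2), ([], 1, 1), ([2, 3, 1, 2, 1, 1], 1, 2),
  ([3], 1, 3), ([3, 1, 1, 2, 1, 1], 1, 1), ([], 1, 1), ([1, 1, 2, 1, 1, 3], 1, 3),
  ([2, 1, 2, 2, 3, 2], 3, 2), ([1, 2, 2, 1, 1, 2, 1, 3], 2, 1), ([], 1, 1), ([], 1, 1),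
  ([], 1, 1), ([], 1, 1), ([], 1, 1), ([], 1, 1), ([], 1, 1), ([], 1, 1), ([], 1, 1), ([], 1, 1),
  ([], 1, 1), ([], 1, 1), ([], 1, 1), ([], 1, 1), ([], 1, 1), ([], 1, 1), ([], 1, 1), ([], 1, 1),
  ([], 1, 1), ([], 1, 1), ([], 1, 1), ([], 1, 1), ([], 1, 1), ([], 1, 1), ([], 1, 1), ([], 1, 1),
  ([], 1, 1), ([], 1, 1), ([], 1, 1), ([], 1, 1), ([], 1, 1), ([], 1, 1), ([], 1, 1), ([], 1, 1),
  ([], 1, 1), ([], 1, 1), ([], 1, 1), ([], 1, 1), ([], 1, 1), ([], 1, 1), ([], 1, 1), ([], 1, 1),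
  ([], 1, 1), ([], 1, 1), ([], 1, 1), ([], 1, 1), ([], 1, 1), ([], 1, 1), ([], 1, 1), ([], 1, 1),
  ([], 1, 1), ([], 1, 1), ([], 1, 1), ([], 1, 1), ([], 1, 1), ([], 1, 1), ([], 1, 1), ([], 1, 1),
  ([], 1, 1), ([], 1, 1), ([], 1, 1), ([], 1, 1), ([], 1, 1), ([], 1, 1), ([], 1, 1), ([], 1, 1),
  ([], 1, 1), ([], 1, 1), ([], 1, 1), ([1, 2, 2, 1, 1, 2, 1, 3], 2, 3),
  ([1, 1, 2, 1, 1, 3], 1, 2), ([2, 1, 2, 2, 3, 2], 3, 1), ([], 1, 1), ([1, 3, 1, 2, 3, 2], 2, 1),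
  ([2, 1, 3, 1, 1, 2, 1, 3], 2, 2), ([2, 0, 1, 2, 3, 2], 2, 3), ([], 1, 1),
  ([3, 1, 1, 2, 1, 1], 1, 3), ([2, 3, 1, 2, 1, 1], 1, 1), ([3], 1, 2)]

/-- Words conjugating involutions fixing `v0` to `s1234` (`true`) or `s12`. -/
def invTbl : List (ℕ × Bool × List ℕ) := [
  (1, true, []), (2, true, [2, 1, 1]), (3, true, [2, 0, 1, 1]), (21, false, [1, 1, 3]),
  (26, false, [2, 1, 1, 3]), (31, false, [2, 0, 1, 1, 3]), (39, false, [2, 1, 1, 3, 1, 0, 1]),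
  (41, false, [2, 1, 1, 3, 1, 2]), (46, false, [1, 1, 3, 2, 1, 1]),
  (54, false, [1, 0, 2, 1, 3, 1, 2]), (59, false, [1, 1, 1, 3, 1, 1]),
  (61, false, [2, 1, 1, 3, 1, 2, 3]), (768, false, []), (788, true, [3, 1, 1]),
  (792, true, [3, 1, 2, 1, 0, 2]), (796, true, [2, 1, 3, 1, 2]),
  (804, true, [3, 2, 1, 2, 1, 0, 2]), (808, true, [1, 2, 1, 3, 1, 2]), (812, true, [3, 2, 1, 1]),
  (820, true, [2, 1, 2, 3, 0, 1, 2]), (824, true, [1, 3, 1, 1]),
  (828, true, [1, 3, 1, 2, 1, 0, 2]), (1025, false, [1, 1]), (1026, false, [2, 1, 1]),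
  (1027, false, [2, 0, 1, 1]), (1045, true, [3]), (1050, true, [2, 1, 1, 3]),
  (1055, true, [2, 0, 1, 1, 3]), (1063, true, [1, 2, 1, 3, 1, 1, 1]),
  (1065, true, [2, 1, 3, 1, 1, 2, 1]), (1070, true, [3, 1, 1, 2, 1, 1]),
  (1078, true, [1, 3, 1, 2, 1, 1, 1]), (1083, true, [3, 1, 1, 2, 0, 1, 1]),
  (1085, true, [1, 2, 1, 3, 1, 2, 1, 1]), (1812, true, [1, 3, 1, 1, 3, 1, 1, 2]),
  (1816, true, [1, 3, 1, 1, 3, 1, 2, 1]), (1820, true, [3, 2, 1, 1, 2, 1, 3, 1]),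
  (1828, true, [3, 1, 2, 1, 1, 3, 1]), (1832, true, [1, 3, 1, 2, 1, 3, 1]),
  (1836, true, [3, 2, 1, 1, 3]), (1844, true, [2, 1, 2, 3, 1, 3, 1]),
  (1848, true, [1, 3, 1, 1, 3]), (1852, true, [1, 2, 1, 3, 1, 3, 0, 1])]

/-- Generators of a Sylow 2-subgroup. -/
def syl0 : M4 := ofMat (dm 1074790660) (by decide +kernel) (by decide +kernel)
/-- Second generator. -/
def syl1 : M4 := ofMat (dm 67190800) (by decide +kernel) (by decide +kernel)
/-- Third generator. -/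
def syl2 : M4 := ofMat (dm 701745000) (by decide +kernel) (by decide +kernel)

/-- The generators by index. -/
def sylGen : Fin 3 → M4 := ![syl0, syl1, syl2]

/-- The elements of the Sylow subgroup. -/
def sylCodes : List ℕ := [
  1074791425, 1074790660, 67190800, 701745000, 17055760, 652004706, 67178560, 2453503110,
  701720775, 3345492435, 17043520, 2553770889, 651977421, 3445761756, 272630785, 1657658406,
  2453505660, 2089194045, 1757882835, 441119220, 3345535785, 1364464965, 272630020, 1757926185,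
  2553776499, 1938397239, 1657611996, 441119985, 3445808166, 1414600005, 2306029464, 3693503181,
  2256310845, 2711887695, 2089172370, 356864340, 2762034975, 4059306570, 3542730600, 4109453850,
  1364477205, 2256289170, 3542706375, 2306054199, 2762022735, 1938372504, 356865105, 2711899935,
  4109441610, 3693530466, 4059318810, 1414612245, 932743539, 1159024980, 1243280625, 525312420,
  1033010310, 1327473825, 1033012860, 1159025745, 1243279860, 525313185, 932737929, 1327473060]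

/-- Left multiplication by the generators on the indices. -/
def sylTbl : List (List ℕ) := [
  [
    1, 0, 6, 8, 10, 12, 2, 16, 3, 20, 4, 24, 5, 28, 22, 26, 7, 34, 23, 27, 9, 40, 14, 18, 11, 45,
    15, 19, 13, 51, 43, 49, 41, 47, 17, 46, 44, 50, 42, 48, 21, 32, 38, 30, 36, 25, 35, 33, 39,
    31, 37, 29, 62, 59, 60, 61, 58, 63, 56, 53, 54, 55, 52, 57],
  [
    2, 4, 0, 9, 1, 13, 14, 17, 18, 3, 22, 25, 26, 5, 6, 31, 32, 7, 8, 37, 38, 35, 10, 42, 43, 11,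
    12, 48, 49, 46, 52, 15, 16, 55, 56, 21, 57, 19, 20, 54, 53, 58, 23, 24, 61, 62, 29, 63, 27,
    28, 60, 59, 30, 40, 39, 33, 34, 36, 41, 51, 50, 44, 45, 47],
  [
    3, 5, 7, 0, 11, 1, 15, 2, 19, 21, 23, 4, 27, 29, 30, 6, 33, 35, 36, 8, 39, 9, 41, 10, 44, 46,
    47, 12, 50, 13, 14, 53, 54, 16, 57, 17, 18, 56, 55, 20, 52, 22, 59, 60, 24, 63, 25, 26, 62,
    61, 28, 58, 40, 31, 32, 38, 37, 34, 51, 42, 43, 49, 48, 45]]

/-- The parent of each index. -/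
def sylPar : List (ℕ × ℕ) := [
  (0, 0), (0, 0), (1, 0), (2, 0), (1, 1), (2, 1), (0, 2), (2, 2), (0, 3), (1, 3), (0, 4), (2, 4),
  (0, 5), (1, 5), (1, 6), (2, 6), (0, 7), (1, 7), (1, 8), (2, 8), (0, 9), (2, 9), (1, 10),
  (2, 10), (0, 11), (1, 11), (1, 12), (2, 12), (0, 13), (2, 13), (2, 14), (1, 15), (1, 16),
  (2, 16), (0, 17), (2, 17), (2, 18), (1, 19), (1, 20), (2, 20), (0, 21), (2, 22), (1, 23),
  (1, 24), (2, 24), (0, 25), (2, 25), (2, 26), (1, 27), (1, 28), (2, 28), (0, 29), (1, 30),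
  (2, 31), (2, 32), (1, 33), (1, 34), (2, 34), (1, 41), (2, 42), (2, 43), (1, 44), (1, 45),
  (2, 45)]

/-- The matrix of an index. -/
def sylMat (i : ℕ) : Matrix (Fin 4) (Fin 4) K := dm (sylCodes.getD i 0)
theorem orb_check : ∀ u : V4, u ≠ 0 → hh u u = 0 → runV (orbTbl.getD (vcode u) []) v0 = u := by
  decide +kernel

theorem pair_check : ∀ w : V4, hh w w = 0 → hh w v0 = 0 → (∀ c : K, w ≠ c • v0) →
    kOf (pairTbl.getD (vcode w) ([], 0, 0)).2.1 ≠ 0 ∧ kOf (pairTbl.getD (vcode w) ([], 0, 0)).2.2 ≠ 0 ∧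
      runV (pairTbl.getD (vcode w) ([], 0, 0)).1 v0 = kOf (pairTbl.getD (vcode w) ([], 0, 0)).2.1 • v0 ∧
      runV (pairTbl.getD (vcode w) ([], 0, 0)).1 v1 = kOf (pairTbl.getD (vcode w) ([], 0, 0)).2.2 • w := by
  decide +kernel

/-- An involution fixing `v0`, by its free entries. -/
def invMat (a b c d e f : K) : Matrix (Fin 4) (Fin 4) K :=
  !![a, 1 + a, b, c; 1 + a, a, b, c; b ^ 2, b ^ 2, e, d; c ^ 2, c ^ 2, d ^ 2, f]

/-- The table entry for an involution fixing `v0`. -/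
def invEntry (a b c d e f : K) : ℕ × Bool × List ℕ :=
  ((invTbl.find? fun p => p.1 ==
    1024 * a.v.val + 512 * e.v.val + 256 * f.v.val + 16 * b.v.val + 4 * c.v.val + d.v.val).getD
      (0, false, []))

theorem inv_check : ∀ a : K, a ^ 2 = a → ∀ e : K, e ^ 2 = e → ∀ f : K, f ^ 2 = f → ∀ b c d : K,
    invMat a b c d e f * invMat a b c d e f = 1 → invMat a b c d e f ≠ 1 → ∀ j : Fin 4,
      runV (invEntry a b c d e f).2.2 (invMat a b c d e f *ᵥ fun k => if k = j then 1 else 0) =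
        app (cond (invEntry a b c d e f).2.1 s1234 s12)
          (runV (invEntry a b c d e f).2.2 fun k => if k = j then 1 else 0) := by
  decide +kernel

theorem syl_step : ∀ g : Fin 3, ∀ i : Fin 64, (sylTbl.getD g.val []).getD i.val 0 < 64 ∧
    (sylGen g).1.1 * sylMat i.val = sylMat ((sylTbl.getD g.val []).getD i.val 0) := by
  decide +kernel

theorem syl_par : ∀ i : Fin 64, i.val ≠ 0 → (sylPar.getD i.val (0, 0)).1 < 3 ∧
    (sylPar.getD i.val (0, 0)).2 < i.val ∧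
    (sylTbl.getD (sylPar.getD i.val (0, 0)).1 []).getD (sylPar.getD i.val (0, 0)).2 0 = i.val := by
  decide +kernel

theorem syl_gen_sq : ∀ g : Fin 3, (sylGen g).1.1 * (sylGen g).1.1 = 1 := by decide +kernel

theorem syl_one : sylMat 0 = 1 := by decide +kernel

theorem syl_pow : ∀ i : Fin 64, sylMat i.val * sylMat i.val * (sylMat i.val * sylMat i.val) = 1 := by
  decide +kernel

theorem syl_inj : ∀ i j : Fin 64, sylMat i.val = sylMat j.val → i = j := by decide +kernel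

theorem syl_count :
    (Finset.univ.filter fun i : Fin 64 => sylMat i.val * sylMat i.val = 1).card < 32 := by
  decide +kernel

/-- The commutator of two indices. -/
def sylComm (i j : ℕ) : Matrix (Fin 4) (Fin 4) K :=
  sylMat i * sylMat j * (sylMat i * sylMat i * sylMat i) * (sylMat j * sylMat j * sylMat j)

theorem syl_comm : sylComm 1 2 ≠ 1 ∧ sylComm 1 3 ≠ 1 ∧ sylComm 1 2 ≠ sylComm 1 3 := by
  decide +kernel

theorem exists_app_eq {u : V4} (hu : u ≠ 0) (h : hh u u = 0) : ∃ g : M4, app g v0 = u :=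
  ⟨wordEl _, (app_wordEl _ v0).trans (orb_check u hu h)⟩

set_option linter.unusedVariables false in
theorem exists_app_eq_pair {u w : V4} (hu : u ≠ 0) (hw : w ≠ 0) (huu : hh u u = 0) (hww : hh w w = 0)
    (huw : hh u w = 0) (hne : ∀ c : K, w ≠ c • u) :
    ∃ (g : M4) (a b : K), a ≠ 0 ∧ b ≠ 0 ∧ app g v0 = a • u ∧ app g v1 = b • w := by
  obtain ⟨g, hg⟩ := exists_app_eq hu huu
  have hw' : app g (app g⁻¹ w) = w := app_app_inv g w
  set w' := app g⁻¹ w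
  obtain ⟨ha, hb, e0, e1⟩ := pair_check w'
    (by rw [← hh_app g, hw', hww])
    (by rw [← hh_app g, hw', hg, hh_swap u w, huw, zero_pow two_ne_zero])
    (fun c e => hne c (by rw [← hw', e, app_smul, hg]))
  refine ⟨g * wordEl (pairTbl.getD (vcode w') ([], 0, 0)).1, _, _, ha, hb, ?_, ?_⟩
  · rw [app_mul, app_wordEl, e0, app_smul, hg]
  · rw [app_mul, app_wordEl, e1, app_smul, hw']

theorem hh_single (x : V4) (j : Fin 4) : hh x (Pi.single j 1) = x j := by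
  simp [hh, Cfsg.hermForm, Pi.single_apply]

theorem involution_fixing {m : M4} (h2 : m * m = 1) (h1 : m ≠ 1) (hv : app m v0 = v0) :
    ∃ g : M4, g * m * g⁻¹ = s12 ∨ g * m * g⁻¹ = s1234 := by
  set M := m.1.1 with hM
  have col : ∀ j, app m (Pi.single j 1) = fun i => M i j := fun j => by
    funext i; simp [app, hM, mulVec_single]
  have herm : ∀ i j, M j i = M i j ^ 2 := by
    intro i j
    calc M j i = hh (app m (Pi.single i 1)) (Pi.single j 1) := by rw [hh_single, col]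
      _ = hh (app m (Pi.single i 1)) (app m (app m (Pi.single j 1))) := by
        rw [← app_mul m m, h2, app_one]
      _ = hh (Pi.single i 1) (app m (Pi.single j 1)) := hh_app m _ _
      _ = M i j ^ 2 := by rw [hh_swap, hh_single, col]
  have rows : ∀ i, M i 0 + M i 1 = v0 i := fun i => by
    have := congrFun hv i
    simpa [app, ← hM, mulVec, dotProduct, Fin.sum_univ_four, v0] using this
  have swp : ∀ p q : K, ∀ r : K, p + q = r → q = r + p := by decide +kernel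
  have r0 : M 0 1 = 1 + M 0 0 := by simpa [v0] using swp _ _ _ (rows 0)
  have m11 : M 1 1 = M 0 0 := by
    have := swp _ _ _ (rows 1)
    rw [show v0 1 = 1 from rfl, herm 0 1, r0, k4_sq_add, one_pow, ← herm 0 0, ← add_assoc,
      k4_add_self, zero_add] at this
    exact this
  have m21 : M 2 1 = M 2 0 := by simpa [v0] using swp _ _ _ (rows 2)
  have m31 : M 3 1 = M 3 0 := by simpa [v0] using swp _ _ _ (rows 3)
  have e : M = invMat (M 0 0) (M 0 2) (M 0 3) (M 2 3) (M 2 2) (M 3 3) := by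
    ext i j
    fin_cases i <;> fin_cases j
    all_goals simp [invMat, r0, m11, m21, m31, herm 0 1, herm 2 1, herm 3 1, herm 0 2, herm 0 3,
      herm 2 3, k4_sq_add, k4_four, ← herm 0 0]
  have hsq : M * M = 1 := by
    have := congrArg (fun g : M4 => g.1.1) h2
    simpa using this
  have hne : M ≠ 1 := fun r => h1 (Subtype.ext (Subtype.ext r))
  have key := inv_check (M 0 0) (herm 0 0).symm (M 2 2) (herm 2 2).symm (M 3 3) (herm 3 3).symm
    (M 0 2) (M 0 3) (M 2 3) (e ▸ hsq) (e ▸ hne)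
  rw [← e] at key
  set E := invEntry (M 0 0) (M 0 2) (M 0 3) (M 2 3) (M 2 2) (M 3 3)
  refine ⟨wordEl E.2.2, ?_⟩
  have hj : ∀ j : Fin 4, (Pi.single j 1 : V4) = fun k => if k = j then 1 else 0 := fun j => by
    funext k; simp [Pi.single_apply]
  have hg : wordEl E.2.2 * m = cond E.2.1 s1234 s12 * wordEl E.2.2 := ext_app fun j => by
    rw [app_mul, app_mul, app_wordEl, app_wordEl, hj]
    exact key j
  rw [hg, mul_inv_cancel_right]
  cases E.2.1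
  exacts [Or.inl rfl, Or.inr rfl]

theorem involution_cases {m : M4} (h2 : m * m = 1) (h1 : m ≠ 1) :
    ∃ g : M4, g * m * g⁻¹ = s12 ∨ g * m * g⁻¹ = s1234 := by
  obtain ⟨x, hx⟩ : ∃ x, app m x ≠ x := by
    by_contra hno
    push Not at hno
    exact h1 (ext_app fun i => by rw [hno, app_one])
  have hmm : app m (app m x) = x := by rw [← app_mul, h2, app_one]
  set u := x + app m x
  have hu : u ≠ 0 := fun r => hx (by
    have := congrArg (x + ·) r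
    simpa [u, ← add_assoc, vec_add_self] using this)
  have hxm : hh (app m x) x = hh x (app m x) := by
    conv_lhs => rw [← hmm, hh_app, hmm]
  have huu : hh u u = 0 := by
    rw [hh_add_left, hh_add_right, hh_add_right, hh_app, hxm, add_comm (hh x (app m x)) (hh x x),
      k4_add_self]
  obtain ⟨g, hg⟩ := exists_app_eq hu huu
  have hfix : app m u = u := by rw [app_add, hmm, add_comm]
  have hg' : app g⁻¹ u = v0 := by rw [← hg, app_inv_app]
  obtain ⟨k, hk⟩ := involution_fixing (m := g⁻¹ * m * g)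
    (by rw [show g⁻¹ * m * g * (g⁻¹ * m * g) = g⁻¹ * (m * m) * g by group, h2]; group)
    (fun r => h1 (by
      have := congrArg (fun t => g * t * g⁻¹) r
      simpa [mul_assoc] using this))
    (by rw [app_mul, app_mul, hg, hfix, hg'])
  refine ⟨k * g⁻¹, ?_⟩
  rwa [show k * g⁻¹ * m * (k * g⁻¹)⁻¹ = k * (g⁻¹ * m * g) * k⁻¹ by group]

/-- A Sylow 2-subgroup. -/
def sylP : Subgroup M4 := Subgroup.closure (Set.range sylGen)

theorem sylP_mat {x : M4} (hx : x ∈ sylP) : ∃ i : Fin 64, x.1.1 = sylMat i.val := by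
  have step : ∀ g : Fin 3, ∀ y : M4, (∃ i : Fin 64, y.1.1 = sylMat i.val) →
      ∃ i : Fin 64, (sylGen g * y).1.1 = sylMat i.val := by
    rintro g y ⟨i, hi⟩
    obtain ⟨hlt, e⟩ := syl_step g i
    exact ⟨⟨_, hlt⟩, by rw [← e, ← hi]; rfl⟩
  refine Subgroup.closure_induction_left (p := fun x _ => ∃ i : Fin 64, x.1.1 = sylMat i.val) ?_
    ?_ ?_ hx
  · exact ⟨0, syl_one.symm⟩
  · rintro _ ⟨g, rfl⟩ y _ hy
    exact step g y hy
  · rintro _ ⟨g, rfl⟩ y _ hy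
    have e : sylGen g * sylGen g = 1 := Subtype.ext (Subtype.ext (syl_gen_sq g))
    rw [inv_eq_of_mul_eq_one_right e]
    exact step g y hy

theorem exists_sylP : ∀ i : Fin 64, ∃ x ∈ sylP, x.1.1 = sylMat i.val := by
  suffices h : ∀ n, ∀ hn : n < 64, ∃ x ∈ sylP, x.1.1 = sylMat n from fun i => h i.val i.isLt
  intro n
  induction n using Nat.strong_induction_on with
  | _ n ih =>
    intro hn
    by_cases h0 : n = 0
    · subst h0
      exact ⟨1, one_mem _, syl_one.symm⟩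
    obtain ⟨hg, hj, e⟩ := syl_par ⟨n, hn⟩ h0
    obtain ⟨x, hx, hxe⟩ := ih _ hj (hj.trans hn)
    refine ⟨sylGen ⟨_, hg⟩ * x, mul_mem (Subgroup.subset_closure ⟨_, rfl⟩) hx, ?_⟩
    show (sylGen ⟨_, hg⟩).1.1 * x.1.1 = _
    rw [hxe, (syl_step ⟨_, hg⟩ ⟨_, hj.trans hn⟩).2]
    exact congrArg sylMat e

theorem sylP_pGroup : IsPGroup 2 sylP := fun x => ⟨2, by
  obtain ⟨i, hi⟩ := sylP_mat x.2
  refine Subtype.ext (Subtype.ext (Subtype.ext ?_))
  have e : x ^ 2 ^ 2 = x * x * (x * x) := by rw [show (2 : ℕ) ^ 2 = 2 + 2 from rfl, pow_add, pow_two]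
  rw [e]
  show (x.1.1.1 * x.1.1.1) * (x.1.1.1 * x.1.1.1) = _
  rw [hi]
  exact syl_pow i⟩

/-- Every 2-subgroup is conjugate into `sylP`. -/
theorem conj_into_sylP (S : Subgroup M4) (hS : IsPGroup 2 S) :
    ∃ g : M4, ∀ x ∈ S, g * x * g⁻¹ ∈ sylP := by
  have : Fact (Nat.Prime 2) := ⟨Nat.prime_two⟩
  obtain ⟨P, hP⟩ := sylP_pGroup.exists_le_sylow
  obtain ⟨R, hR⟩ := hS.exists_le_sylow
  have c1 : 64 ≤ Nat.card sylP := by
    choose f hf he using exists_sylP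
    have := Nat.card_le_card_of_injective (fun i => (⟨f i, hf i⟩ : sylP)) fun i j r =>
      syl_inj i j (by
        have r' : f i = f j := congrArg Subtype.val r
        rw [← he i, ← he j, r'])
    simpa using this
  have e : sylP = P.1 := by
    refine Subgroup.eq_of_le_of_card_ge hP ?_
    obtain ⟨n, hn⟩ := P.2.exists_card_eq
    have hd : 2 ^ n ∣ 25920 := by rw [← hn, ← card_M4]; exact Subgroup.card_subgroup_dvd_card _
    have : n < 7 := by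
      by_contra hge
      exact absurd ((pow_dvd_pow 2 (not_lt.mp hge)).trans hd) (by norm_num)
    have := Nat.pow_le_pow_right (n := 2) (by norm_num) (show n ≤ 6 by omega)
    norm_num at this
    show Nat.card P.1 ≤ _
    omega
  obtain ⟨g, hg⟩ := MulAction.exists_smul_eq M4 R P
  refine ⟨g, fun x hx => ?_⟩
  rw [e, ← hg]
  exact Subgroup.smul_mem_pointwise_smul x (MulAut.conj g) R.1 (hR hx)

theorem false_of_card_64 (S : Subgroup M4) (hS : Nat.card S = 64)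
    (hc : ∃ c, ∀ a ∈ S, ∀ b ∈ S, a * b * a⁻¹ * b⁻¹ = 1 ∨ a * b * a⁻¹ * b⁻¹ = c) : False := by
  obtain ⟨c, hc⟩ := hc
  have : Fact (Nat.Prime 2) := ⟨Nat.prime_two⟩
  obtain ⟨g, hg⟩ := conj_into_sylP S (IsPGroup.of_card (n := 6) (by rw [hS]; norm_num))
  let f : S → sylP := fun x => ⟨g * x.1 * g⁻¹, hg _ x.2⟩
  have finj : Function.Injective f := fun a b r => Subtype.ext (by simpa [f] using congrArg Subtype.val r)
  have c2 : Nat.card sylP ≤ 64 := by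
    choose i hi using fun x : sylP => sylP_mat x.2
    have := Nat.card_le_card_of_injective i fun a b r =>
      Subtype.ext (Subtype.ext (Subtype.ext (by rw [hi a, hi b, r])))
    simpa using this
  have fbij := (Nat.bijective_iff_injective_and_card f).mpr
    ⟨finj, le_antisymm (Nat.card_le_card_of_injective f finj) (hS ▸ c2)⟩
  have mem : ∀ x ∈ sylP, g⁻¹ * x * g ∈ S := fun x hx => by
    obtain ⟨a, ha⟩ := fbij.2 ⟨x, hx⟩
    have : g * a.1 * g⁻¹ = x := congrArg Subtype.val ha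
    rw [← this]; simpa [mul_assoc] using a.2
  have comm : ∀ i j : Fin 64, sylComm i.val j.val = 1 ∨ sylComm i.val j.val = (g * c * g⁻¹).1.1 := by
    intro i j
    obtain ⟨x, hx, ex⟩ := exists_sylP i
    obtain ⟨y, hy, ey⟩ := exists_sylP j
    have inv3 : ∀ {x : M4}, x ∈ sylP → x⁻¹ = x * x * x := fun {x} hx => by
      obtain ⟨k, hk⟩ := sylP_mat hx
      refine inv_eq_of_mul_eq_one_right (Subtype.ext (Subtype.ext ?_))
      show x.1.1 * (x.1.1 * x.1.1 * x.1.1) = _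
      rw [hk]
      exact Eq.trans (by simp only [mul_assoc]) (syl_pow k)
    have e : (x * y * x⁻¹ * y⁻¹).1.1 = sylComm i.val j.val := by
      rw [inv3 hx, inv3 hy, sylComm, ← ex, ← ey]; rfl
    rw [← e]
    have key : x * y * x⁻¹ * y⁻¹ = g * ((g⁻¹ * x * g) * (g⁻¹ * y * g) * (g⁻¹ * x * g)⁻¹ *
        (g⁻¹ * y * g)⁻¹) * g⁻¹ := by group
    rw [key]
    rcases hc _ (mem x hx) _ (mem y hy) with r | r <;> rw [r]
    exacts [Or.inl (by simp), Or.inr rfl]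
  obtain ⟨n1, n2, n3⟩ := syl_comm
  exact n3 (((comm 1 2).resolve_left n1).trans ((comm 1 3).resolve_left n2).symm)

theorem false_of_elementary_32 (S : Subgroup M4) (hS : Nat.card S = 32)
    (hsq : ∀ a ∈ S, a * a = 1) : False := by
  have : Fact (Nat.Prime 2) := ⟨Nat.prime_two⟩
  obtain ⟨g, hg⟩ := conj_into_sylP S (IsPGroup.of_card (n := 5) (by rw [hS]; norm_num))
  choose i hi using fun x : S => sylP_mat (hg _ x.2)
  have hmem : ∀ x, sylMat (i x).val * sylMat (i x).val = 1 := fun x => by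
    rw [← hi x]
    have : g * x.1 * g⁻¹ * (g * x.1 * g⁻¹) = 1 := by
      rw [show g * x.1 * g⁻¹ * (g * x.1 * g⁻¹) = g * (x.1 * x.1) * g⁻¹ by group, hsq _ x.2]; group
    exact congrArg (fun t : M4 => t.1.1) this
  let P : Fin 64 → Prop := fun k => sylMat k.val * sylMat k.val = 1
  have h := Nat.card_le_card_of_injective (fun x => (⟨i x, hmem x⟩ : {k // P k})) fun a b r => by
    have h2 : i a = i b := congrArg Subtype.val r
    have h3 : g * a.1 * g⁻¹ = g * b.1 * g⁻¹ := Subtype.ext (Subtype.ext (by rw [hi a, hi b, h2]))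
    exact Subtype.ext (by simpa using h3)
  rw [hS, Nat.card_eq_fintype_card, Fintype.card_subtype] at h
  exact absurd syl_count (not_lt.mpr h)

end Cfsg.Agent.U6Local
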