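import Cfsg.Agent.Lib.U6Local.Base

/-!
# A conjugate of `z` outside the core maps to a transvection

* `Coord.false_of_s1234`: no conjugate acts with two-dimensional fixed space;
* `Coord.s12_spec`: a conjugate `y` over `s12` commutes with all of `v₀^⊥`, and `y z` is no conjugate.
-/

set_option autoImplicit false

namespace Cfsg.Agent.U6Local

open LargeExtraspecial

theorem s12_theta : Commute s12 theta := by unfold Commute SemiconjBy; decide +kernel

theorem s1234_theta : Commute s1234 theta := by unfold Commute SemiconjBy; decide +kernel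

theorem s1324_s1234 : Commute s1324 s1234 := by unfold Commute SemiconjBy; decide +kernel

theorem rE3_s12 : Commute rE3 s12 := by unfold Commute SemiconjBy; decide +kernel

theorem rE4_s12 : Commute rE4 s12 := by unfold Commute SemiconjBy; decide +kernel

theorem fix_s1234 : ∀ l : V4, app s1234 l = l → l = ![l 0, l 0, l 2, l 2] := by decide +kernel

theorem fixed_s1234 : ∀ a b : K, app s1234 ![a, a, b, b] = ![a, a, b, b] ∧
    app s1234 ![a, 0, b, 0] + ![a, 0, b, 0] = ![a, a, b, b] := by decide +kernel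

theorem bb_fix_s1234 : ∀ a b c d : K, bb ![a, a, b, b] ![c, c, d, d] = 0 := by decide +kernel

theorem hh_fix_s1234 : ∀ a b : K, hh ![a, a, b, b] ![a, a, b, b] = 0 := by decide +kernel

theorem plane_cases : ∀ a b : K, ¬ (a = 0 ∧ b = 0) →
    bb ![a, 0, b, 0] (app theta ![a, a, b, b]) = 0 ∨
      (a + b ≠ 0 ∧ app s1324 ![a, a, b, b] + ![a, a, b, b] = ![a + b, a + b, a + b, a + b] ∧
        bb ![a + b, 0, a + b, 0] (app theta ![a + b, a + b, a + b, a + b]) = 0) := by decide +kernel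

theorem theta_ne : ∀ l : V4, app theta l = l → l = 0 := by decide +kernel

theorem fix_s12 : ∀ c d e : K, hh ![c, c, d, e] v0 = 0 := by decide +kernel

theorem perp_v0_form : ∀ l : V4, hh l v0 = 0 → l = ![l 0, l 0, l 2, l 3] := by decide +kernel

theorem shift_s12 (c : K) : app s12 ![c, 0, 0, 0] + ![c, 0, 0, 0] = c • v0 := by
  revert c; decide +kernel

variable {G : Type*} [Group G] {z : G}

namespace Coord

variable (C : Coord z)
include C

theorem mul_z_z (a b : G) : a * (b * z) * z = a * b := by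
  rw [mul_assoc a, mul_assoc b, C.z_sq, mul_one]

theorem not_core_of_P {y : G} (h : C.P y ≠ 1) : y ∉ coreAt z := fun hy => h (C.P_of_mem hy)

theorem ne_z_of_P {y : G} (h : C.P y ≠ 1) : y ≠ z := fun e => C.not_core_of_P h (e ▸ C.z_mem)

/-- Conjugation of `y` by the core, modulo `z`. -/
theorem exists_move {y i : G} (hy : Commute y z) (hy2 : C.P y * C.P y = 1) (hi : i ∈ coreAt z)
    {x : V4} (hx : app (C.P y) x + x = C.φ i) :
    ∃ k ∈ coreAt z, C.φ k = x ∧ (k * y * k⁻¹ = y * i ∨ k * y * k⁻¹ = y * (i * z)) := by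
  obtain ⟨k, hk, rfl⟩ := C.φ_surj x
  refine ⟨k, hk, rfl, ?_⟩
  set i' := y⁻¹ * k * y⁻¹⁻¹ * k⁻¹ with hi'_def
  have hi' : i' ∈ coreAt z := mul_mem (C.conj_mem hy.inv_left hk) (inv_mem hk)
  have hφ : C.φ i' = C.φ i := by
    rw [C.φ_commutator hy.inv_left hk, C.P_inv hy, inv_eq_of_mul_eq_one_right hy2, hx]
  have e : k * y * k⁻¹ = y * i' := by rw [hi'_def]; group
  rcases C.eq_or_of_φ hi hi' hφ.symm with h | h <;> rw [e, h]
  exacts [Or.inl rfl, Or.inr rfl]

theorem exists_lifts {α : Type*} [Fintype α] (e : α → V4) (he : Function.Injective e)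
    (S : Subgroup G) (hS : ∀ k, k ∈ S ↔ k ∈ coreAt z ∧ ∃ a, e a = C.φ k) :
    Nat.card S = 2 * Fintype.card α := by
  classical
  choose lift hlJ hlφ using fun a => C.φ_surj (e a)
  let f : α × Bool → S := fun p => ⟨if p.2 then lift p.1 * z else lift p.1, (hS _).2 <| by
    cases p.2
    · exact ⟨hlJ p.1, p.1, by simp [hlφ]⟩
    · exact ⟨mul_mem (hlJ p.1) C.z_mem, p.1, by simp [C.φ_mul_z (hlJ p.1), hlφ]⟩⟩
  have hf : Function.Bijective f := by
    constructor
    · rintro ⟨a, u⟩ ⟨b, v⟩ h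
      have h' : (if u then lift a * z else lift a) = if v then lift b * z else lift b :=
        congrArg Subtype.val h
      have hab : a = b := by
        refine he ?_
        have := congrArg C.φ h'
        cases u <;> cases v <;> simpa [C.φ_mul_z (hlJ _), hlφ] using this
      subst hab
      cases u <;> cases v <;> simp [C.z_ne] at h' ⊢
    · rintro ⟨k, hk⟩
      obtain ⟨hkJ, a, ha⟩ := (hS k).1 hk
      rcases C.eq_or_of_φ (hlJ a) hkJ ((hlφ a).trans ha) with h | h
      exacts [⟨(a, false), Subtype.ext h.symm⟩, ⟨(a, true), Subtype.ext h.symm⟩]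
  rw [← Nat.card_congr (Equiv.ofBijective f hf), Nat.card_prod, Nat.card_eq_fintype_card,
    Nat.card_eq_fintype_card, Fintype.card_bool, mul_comm]

/-- The preimage in the core of the vectors fixed by `m`. -/
def fixSub (m : M4) : Subgroup G where
  carrier := {k | k ∈ coreAt z ∧ app m (C.φ k) = C.φ k}
  one_mem' := ⟨one_mem _, by rw [C.φ_one, app_zero]⟩
  mul_mem' := fun {a b} ha hb => ⟨mul_mem ha.1 hb.1, by rw [C.φ_mul a ha.1 b hb.1, app_add, ha.2, hb.2]⟩
  inv_mem' := fun {a} ha => ⟨inv_mem ha.1, by rw [C.φ_inv ha.1, ha.2]⟩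

variable [Finite G]

/-- No conjugate of `z` acts like `(12)(34)`. -/
theorem false_of_s1234 {g : G} (hc : Commute (g * z * g⁻¹) z)
    (hP : C.P (g * z * g⁻¹) = s1234) : False := by
  classical
  set y := g * z * g⁻¹ with hy_def
  have hP1 : C.P y ≠ 1 := by rw [hP]; decide +kernel
  have hσ2 : C.P y * C.P y = 1 := by rw [hP]; decide +kernel
  have hne := C.ne_z_of_P hP1
  have hyJ := C.not_core_of_P hP1
  obtain ⟨t, ht, htθ, hto⟩ := C.exists_t
  obtain ⟨w, hw, hwP, htw⟩ := C.exists_fixed ht htθ hto (m := s1234) s1234_theta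
  have hw2 : w * w = 1 ∨ w * w = z := by
    have hm : w * w ∈ coreAt z := by
      rw [← C.P_ker _ (hw.mul_left hw), C.P_mul _ _ hw hw, hwP]; decide +kernel
    exact (C.φ_ker _ hm).1 (C.φ_eq_zero_of_fixed ht htθ hm (htw.mul_right htw))
  obtain ⟨j, hj, hyj, hjfix⟩ := C.fix_of_sq hw hc (hP.trans hwP.symm) (C.conj_sq g) hw2
  set L := C.fixSub s1234 with hL
  have hform : ∀ k ∈ L, ∃ a b : K, C.φ k = ![a, a, b, b] := fun k hk => ⟨_, _, fix_s1234 _ hk.2⟩
  have hLcomm : ∀ a ∈ L, ∀ b ∈ L, Commute a b := fun a ha b hb => by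
    refine (C.commute_iff ha.1 hb.1).2 ?_
    obtain ⟨p, q, hpq⟩ := hform a ha
    obtain ⟨r, u, hru⟩ := hform b hb
    rw [hpq, hru, bb_fix_s1234]
  have hLsq : ∀ a ∈ L, a * a = 1 := fun a ha => by
    obtain ⟨p, q, hpq⟩ := hform a ha
    exact (C.φ_sq a ha.1).2 (by rw [hpq, hh_fix_s1234])
  have hjL : j ∈ L := ⟨hj, by rw [← hwP]; exact hjfix⟩
  have hyL : ∀ k ∈ L, Commute k y := fun k hk => by
    rw [hyj]
    exact ((C.commute_fix ht htθ hw htw hk.1 (by rw [hwP]; exact hk.2)).symm).mul_right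
      (hLcomm k hk j hjL)
  -- the intersection with the core at `y` is nontrivial
  obtain ⟨d, hdL, hdQ, hd1⟩ : ∃ d ∈ L, d ∈ (coreAt z).map (MulAut.conj g).toMonoidHom ∧ d ≠ 1 := by
    by_contra hno
    push Not at hno
    obtain ⟨T, f, hf, hfT, hT⟩ := C.exists_embed L hyL hno
    have h32 : Nat.card L = 32 := by
      rw [C.exists_lifts (fun p : K × K => ![p.1, p.1, p.2, p.2]) (fun p q h => Prod.ext
        (congrFun h 0) (congrFun h 2)) L fun k => ⟨fun hk => ⟨hk.1, (C.φ k 0, C.φ k 2),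
          (fix_s1234 _ hk.2).symm⟩, fun ⟨hk, p, hp⟩ => ⟨hk, by
            rw [← hp]; exact (fixed_s1234 _ _).1⟩⟩, Fintype.card_prod, card_K']
    refine false_of_elementary_32 T (hT.trans h32) fun m hm => ?_
    rw [← hfT] at hm
    obtain ⟨k, rfl⟩ := hm
    rw [← map_mul, show k * k = 1 from Subtype.ext (hLsq k k.2), map_one]
  have hncl : ∀ {e : G}, e ∈ L → e ∈ (coreAt z).map (MulAut.conj g).toMonoidHom → e ≠ 1 →
      ∀ x, x * z * x⁻¹ ≠ y * e := fun he heQ he1 => C.ncl hne hyJ he.1 heQ he1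
  -- preimages under conjugation
  have horb : ∀ e ∈ L, e ∈ (coreAt z).map (MulAut.conj g).toMonoidHom → e ≠ 1 → ∀ a b : K,
      C.φ e = ![a, a, b, b] → ∃ k ∈ coreAt z, C.φ k = ![a, 0, b, 0] ∧ k * y * k⁻¹ = y * (e * z) := by
    intro e he heQ he1 a b hab
    obtain ⟨k, hk, hkx, h⟩ := C.exists_move hc hσ2 he.1 (x := ![a, 0, b, 0])
      (by rw [hP, hab, (fixed_s1234 a b).2])
    refine ⟨k, hk, hkx, h.resolve_left fun h' => hncl he heQ he1 (k * g) ?_⟩
    rw [← h', hy_def]; group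
  -- `y * z` is no conjugate
  have hyz : ∀ x, x * z * x⁻¹ ≠ y * z := by
    intro x hx
    obtain ⟨a, b, hab⟩ := hform d hdL
    obtain ⟨k, hk, -, hky⟩ := horb d hdL hdQ hd1 a b hab
    refine hncl hdL hdQ hd1 (k * x) ?_
    calc k * x * z * (k * x)⁻¹ = k * (x * z * x⁻¹) * k⁻¹ := by group
      _ = (k * y * k⁻¹) * (k * z * k⁻¹) := by rw [hx]; group
      _ = y * d := by
        rw [hky, (C.comm_z hk).eq, mul_inv_cancel_right, C.mul_z_z]
  -- the intersection is invariant under the centralizer of `s1234`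
  have hinv : ∀ m : M4, Commute m s1234 → ∀ e ∈ L,
      e ∈ (coreAt z).map (MulAut.conj g).toMonoidHom →
      ∃ e' ∈ L, e' ∈ (coreAt z).map (MulAut.conj g).toMonoidHom ∧ C.φ e' = app m (C.φ e) := by
    intro m hm e he heQ
    obtain ⟨c, hcz, rfl⟩ := C.P_surj m
    have hy' : Commute (c * y * c⁻¹) z := (hcz.mul_left hc).mul_left hcz.inv_left
    have hPy' : C.P (c * y * c⁻¹) = C.P w := by
      rw [C.P_conj hcz hc, hP, hm.eq, mul_inv_cancel_right, hwP]
    obtain ⟨j', hj', hyj', hj'fix⟩ := C.fix_of_sq hw hy' hPy'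
      (by rw [show c * y * c⁻¹ * (c * y * c⁻¹) = c * (y * y) * c⁻¹ by group, C.conj_sq g, mul_one,
        mul_inv_cancel]) hw2
    have hiJ : j⁻¹ * j' ∈ coreAt z := mul_mem (inv_mem hj) hj'
    have hiL : j⁻¹ * j' ∈ L := mul_mem (inv_mem hjL) ⟨hj', by rw [← hwP]; exact hj'fix⟩
    obtain ⟨a, b, hab⟩ := hform _ hiL
    obtain ⟨k, hk, -, hky⟩ := C.exists_move hc hσ2 hiJ (x := ![a, 0, b, 0])
      (by rw [hP, hab, (fixed_s1234 a b).2])
    have e1 : y * (j⁻¹ * j') = c * y * c⁻¹ := by rw [hyj', hyj]; group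
    have hcy : k * y * k⁻¹ = c * y * c⁻¹ := by
      rcases hky with h | h
      · rw [h, e1]
      exfalso
      refine hyz (k⁻¹ * c * g) ?_
      calc k⁻¹ * c * g * z * (k⁻¹ * c * g)⁻¹ = k⁻¹ * (c * y * c⁻¹) * k := by rw [hy_def]; group
        _ = k⁻¹ * ((k * y * k⁻¹) * z⁻¹) * k := by rw [h, ← e1]; group
        _ = y * (k⁻¹ * z * k) := by rw [C.z_inv]; group
        _ = y * z := by rw [mul_assoc k⁻¹, ← (C.comm_z hk).eq, inv_mul_cancel_left]
    have hc'z : Commute (k⁻¹ * c) z := (C.comm_z hk).inv_left.mul_left hcz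
    have hc'y : Commute (k⁻¹ * c) y := mul_inv_eq_iff_eq_mul.1 (by
      calc k⁻¹ * c * y * (k⁻¹ * c)⁻¹ = k⁻¹ * (c * y * c⁻¹) * k := by group
        _ = y := by rw [← hcy]; group)
    have h' : Hub _ y := C.hub.conj g
    have hφ : C.φ (k⁻¹ * c * e * (k⁻¹ * c)⁻¹) = app (C.P c) (C.φ e) := by
      rw [C.φ_conj _ hc'z e he.1, C.P_mul _ _ (C.comm_z hk).inv_left hcz, C.P_inv (C.comm_z hk),
        C.P_of_mem hk, inv_one, one_mul]
    refine ⟨_, ⟨C.conj_mem hc'z he.1, ?_⟩, h'.normalizes _ hc'y e heQ, hφ⟩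
    rw [hφ, ← app_mul, ← hm.eq, app_mul, he.2]
  -- two elements
  have key : ∀ e ∈ L, e ∈ (coreAt z).map (MulAut.conj g).toMonoidHom → e ≠ 1 → ∀ a b : K,
      C.φ e = ![a, a, b, b] → bb ![a, 0, b, 0] (app theta ![a, a, b, b]) ≠ 0 := by
    intro e he heQ he1 a b hab
    obtain ⟨e', he', he'Q, hφ'⟩ := hinv theta s1234_theta.symm e he heQ
    rw [hab] at hφ'
    have hne0 : C.φ e ≠ 0 :=
      C.φ_ne_zero he.1 he1 fun r => C.not_mem hne (r ▸ heQ)
    have he'1 : e' ≠ 1 := fun r => by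
      rw [r, C.φ_one, ← app_zero theta] at hφ'
      exact hne0 (hab.trans (app_inj hφ').symm)
    have hee : e * e' ≠ 1 := fun r => by
      have := congrArg C.φ r
      rw [C.φ_mul e he.1 e' he'.1, C.φ_one, hab, hφ'] at this
      refine hne0 (hab.trans (theta_ne _ ?_))
      calc app theta ![a, a, b, b] = ![a, a, b, b] + (![a, a, b, b] + app theta ![a, a, b, b]) := by
            rw [← add_assoc, vec_add_self, zero_add]
        _ = ![a, a, b, b] := by rw [this, add_zero]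
    obtain ⟨a', b', hab'⟩ := hform e' he'
    obtain ⟨k1, hk1, hk1x, hk1y⟩ := horb e he heQ he1 a b hab
    obtain ⟨k2, hk2, hk2x, hk2y⟩ := horb e' he' he'Q he'1 a' b' hab'
    intro hb
    have hcm : Commute k1 e' := (C.commute_iff hk1 he'.1).2 (by rw [hk1x, hφ', hb])
    refine hncl (mul_mem he he') (mul_mem heQ he'Q) hee (k1 * k2 * g) ?_
    calc k1 * k2 * g * z * (k1 * k2 * g)⁻¹ = k1 * (k2 * y * k2⁻¹) * k1⁻¹ := by rw [hy_def]; group
      _ = (k1 * y * k1⁻¹) * (k1 * e' * k1⁻¹) * (k1 * z * k1⁻¹) := by rw [hk2y]; group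
      _ = y * (e * e') := by
        rw [hk1y, hcm.eq, mul_inv_cancel_right, (C.comm_z hk1).eq, mul_inv_cancel_right]
        rw [mul_assoc y (e * z) e', mul_assoc e z e', ← (C.comm_z he'.1).eq, ← mul_assoc e,
          mul_assoc y, mul_assoc (e * e') z z, C.z_sq, mul_one]
  obtain ⟨a, b, hab⟩ := hform d hdL
  have hab0 : ¬ (a = 0 ∧ b = 0) := fun h => by
    apply C.φ_ne_zero hdL.1 hd1 fun r => C.not_mem hne (r ▸ hdQ)
    rw [hab, h.1, h.2]
    decide +kernel
  rcases plane_cases a b hab0 with h | ⟨hs, hsum, h⟩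
  · exact key d hdL hdQ hd1 a b hab h
  obtain ⟨e', he', he'Q, hφ'⟩ := hinv s1324 s1324_s1234 d hdL hdQ
  have hφs : C.φ (e' * d) = ![a + b, a + b, a + b, a + b] := by
    rw [C.φ_mul e' he'.1 d hdL.1, hφ', hab, hsum]
  exact key _ (mul_mem he' hdL) (mul_mem he'Q hdQ) (fun r => by
    rw [r, C.φ_one] at hφs
    exact hs (congrFun hφs 0).symm) _ _ hφs h

/-- A conjugate over `s12`. -/
theorem s12_spec {g : G} (hc : Commute (g * z * g⁻¹) z) (hP : C.P (g * z * g⁻¹) = s12) :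
    (∀ k ∈ coreAt z, hh (C.φ k) v0 = 0 → Commute (g * z * g⁻¹) k) ∧
      ∀ x, x * z * x⁻¹ ≠ g * z * g⁻¹ * z := by
  classical
  set y := g * z * g⁻¹ with hy_def
  have hP1 : C.P y ≠ 1 := by rw [hP]; decide +kernel
  have hσ2 : C.P y * C.P y = 1 := by rw [hP]; decide +kernel
  have hne := C.ne_z_of_P hP1
  have hyJ := C.not_core_of_P hP1
  have h' : Hub _ y := C.hub.conj g
  obtain ⟨t, ht, htθ, hto⟩ := C.exists_t
  obtain ⟨w, hw, hwP, htw⟩ := C.exists_fixed ht htθ hto (m := s12) s12_theta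
  have hw2 : w * w = 1 ∨ w * w = z := by
    have hm : w * w ∈ coreAt z := by
      rw [← C.P_ker _ (hw.mul_left hw), C.P_mul _ _ hw hw, hwP]; decide +kernel
    exact (C.φ_ker _ hm).1 (C.φ_eq_zero_of_fixed ht htθ hm (htw.mul_right htw))
  obtain ⟨j, hj, hyj, hjfix⟩ := C.fix_of_sq hw hc (hP.trans hwP.symm) (C.conj_sq g) hw2
  have fix_iff : ∀ x : V4, app s12 x = x ↔ hh x v0 = 0 := by
    intro x
    rw [app_s12, add_eq_left, smul_eq_zero]
    exact or_iff_left (by decide +kernel)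
  set x := C.φ j with hx_def
  have hx0 : hh x v0 = 0 := (fix_iff x).1 (by rw [← hwP]; exact hjfix)
  set L1 := C.fixSub s12 with hL1
  have hwL : ∀ k ∈ L1, Commute w k := fun k hk =>
    C.commute_fix ht htθ hw htw hk.1 (by rw [hwP]; exact hk.2)
  have h128 : Nat.card L1 = 128 := by
    rw [C.exists_lifts (fun p : K × K × K => ![p.1, p.1, p.2.1, p.2.2]) (fun p q h => Prod.ext
      (congrFun h 0) (Prod.ext (congrFun h 2) (congrFun h 3))) L1 fun k =>
      ⟨fun hk => ⟨hk.1, (C.φ k 0, C.φ k 2, C.φ k 3), (perp_v0_form _ ((fix_iff _).1 hk.2)).symm⟩,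
        fun ⟨hk, p, hp⟩ => ⟨hk, by rw [← hp]; exact (fix_iff _).2 (fix_s12 _ _ _)⟩⟩,
      Fintype.card_prod, Fintype.card_prod, card_K']
  -- conjugation by the core moves `y` by multiples of `v0`
  have horb : ∀ i ∈ coreAt z, (∃ c : K, C.φ i = c • v0) →
      ∃ k ∈ coreAt z, k * y * k⁻¹ = y * i ∨ k * y * k⁻¹ = y * (i * z) := by
    rintro i hi ⟨c, hic⟩
    obtain ⟨k, hk, -, h⟩ := C.exists_move hc hσ2 hi (x := ![c, 0, 0, 0])
      (by rw [hP, hic, shift_s12])
    exact ⟨k, hk, h⟩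
  by_cases hxv : ∃ c : K, x = c • v0
  · obtain ⟨c, hxc⟩ := hxv
    have hall : ∀ k ∈ L1, Commute k y := fun k hk => by
      rw [hyj]
      refine ((hwL k hk).symm).mul_right ((C.commute_iff hk.1 hj).2 ?_)
      rw [← hx_def, bb_eq_trace, hxc, hh_smul_right, (fix_iff _).1 hk.2]; ring
    refine ⟨fun k hk h0 => (hall k ⟨hk, (fix_iff _).2 h0⟩).symm, fun u hu => ?_⟩
    obtain ⟨d, hdL, hdQ, hd1⟩ :
        ∃ d ∈ L1, d ∈ (coreAt z).map (MulAut.conj g).toMonoidHom ∧ d ≠ 1 := by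
      by_contra hno
      push Not at hno
      obtain ⟨T, f, hf, hfT, hT⟩ := C.exists_embed L1 hall hno
      have hdvd := Subgroup.card_subgroup_dvd_card T
      rw [hT, h128, card_M4] at hdvd
      omega
    obtain ⟨a, ha⟩ := eq_smul_of_bb (u := C.φ d) fun m hm => by
      obtain ⟨k, hk, rfl⟩ := C.φ_surj m
      rw [bb_comm]
      exact (C.commute_iff hk hdL.1).1
        (C.commute_of_radical hne hdL.1 hdQ hk (hall k ⟨hk, (fix_iff _).2 hm⟩))
    obtain ⟨k, hk, h⟩ := horb d hdL.1 ⟨a, ha⟩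
    rcases h with h | h
    · exact C.ncl hne hyJ hdL.1 hdQ hd1 (k * g) (by rw [← h, hy_def]; group)
    · refine C.ncl hne hyJ hdL.1 hdQ hd1 (k * u) ?_
      calc k * u * z * (k * u)⁻¹ = k * (u * z * u⁻¹) * k⁻¹ := by group
        _ = (k * y * k⁻¹) * (k * z * k⁻¹) := by rw [hu]; group
        _ = y * d := by
          rw [h, (C.comm_z hk).eq, mul_inv_cancel_right, C.mul_z_z]
  exfalso
  obtain ⟨k0, hk0, hk0x⟩ : ∃ k ∈ L1, bb (C.φ k) x ≠ 0 := by
    by_contra hno
    push Not at hno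
    apply hxv
    refine eq_smul_of_bb fun m hm => ?_
    obtain ⟨k, hk, rfl⟩ := C.φ_surj m
    rw [bb_comm]
    exact hno k ⟨hk, (fix_iff _).2 hm⟩
  -- the centralizer of `y` in the core
  set L := L1 ⊓ Subgroup.centralizer ({y} : Set G) with hL
  have hLmem : ∀ k, k ∈ L ↔ k ∈ L1 ∧ bb (C.φ k) x = 0 := by
    intro k
    rw [hL, Subgroup.mem_inf, Subgroup.mem_centralizer_singleton_iff]
    refine and_congr_right fun hk => ?_
    rw [← C.commute_iff hk.1 hj]
    constructor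
    · intro h
      have h2 : Commute k (w * j) := hyj ▸ h
      have h3 := ((hwL k hk).symm.inv_right).mul_right h2
      rwa [inv_mul_cancel_left] at h3
    · intro h
      rw [hyj]; exact (hwL k hk).symm.mul_right h
  have hk0y : k0 * y * k0⁻¹ = y * z := by
    rw [hyj]
    calc k0 * (w * j) * k0⁻¹ = (k0 * w * k0⁻¹) * (k0 * j * k0⁻¹) := by group
      _ = w * j * z := by
        rw [(hwL k0 hk0).symm.eq, mul_inv_cancel_right, C.conj_eq_mul_z hk0.1 hj hk0x, ← mul_assoc]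
  -- elements over multiples of `v0`
  have horb' : ∀ i ∈ coreAt z, (∃ c : K, C.φ i = c • v0) → ∃ k ∈ coreAt z, k * y * k⁻¹ = y * i := by
    intro i hi hic
    obtain ⟨k, hk, h⟩ := horb i hi hic
    rcases h with h | h
    · exact ⟨k, hk, h⟩
    refine ⟨k * k0, mul_mem hk hk0.1, ?_⟩
    calc k * k0 * y * (k * k0)⁻¹ = k * (k0 * y * k0⁻¹) * k⁻¹ := by group
      _ = (k * y * k⁻¹) * (k * z * k⁻¹) := by rw [hk0y]; group
      _ = y * i := by
        rw [h, (C.comm_z hk).eq, mul_inv_cancel_right, C.mul_z_z]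
  have hLy : ∀ k ∈ L, Commute k y := fun k hk =>
    Subgroup.mem_centralizer_singleton_iff.1 (Subgroup.mem_inf.1 hk).2
  have hdiag : ∀ d ∈ coreAt z, d ∈ (coreAt z).map (MulAut.conj g).toMonoidHom → d ≠ 1 →
      ¬ ∃ c : K, C.φ d = c • v0 := fun d hd hdQ hd1 hc' => by
    obtain ⟨k, hk, h⟩ := horb' d hd hc'
    exact C.ncl hne hyJ hd hdQ hd1 (k * g) (by rw [← h, hy_def]; group)
  have hrad : ∀ d ∈ L, d ∈ (coreAt z).map (MulAut.conj g).toMonoidHom → d ≠ 1 →
      ∃ c : K, C.φ d = x + c • v0 := by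
    intro d hd hdQ hd1
    have hperp : ∀ k ∈ L, bb (C.φ d) (C.φ k) = 0 := fun k hk => by
      rw [bb_comm]
      exact (C.commute_iff hk.1.1 hd.1.1).1
        (C.commute_of_radical hne hd.1.1 hdQ hk.1.1 (hLy k hk))
    have hlin : ∀ k ∈ L1, bb (C.φ d) (C.φ k) =
        (if bb (C.φ k) x = 0 then 0 else bb (C.φ d) (C.φ k0)) := by
      intro k hk
      split
      · next h => exact hperp k ((hLmem k).2 ⟨hk, h⟩)
      · next h =>
        have h2 : bb (C.φ d) (C.φ (k * k0)) = 0 := by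
          refine hperp _ ((hLmem _).2 ⟨mul_mem hk hk0, ?_⟩)
          rw [C.φ_mul k hk.1 k0 hk0.1, bb_add_left, (bb_cases _ _).resolve_left h,
            (bb_cases _ _).resolve_left hk0x, k4_add_self]
        rw [C.φ_mul k hk.1 k0 hk0.1, bb_add_right] at h2
        calc bb (C.φ d) (C.φ k) = bb (C.φ d) (C.φ k) + (bb (C.φ d) (C.φ k0) + bb (C.φ d) (C.φ k0)) :=
              by rw [k4_add_self, add_zero]
          _ = _ := by rw [← add_assoc, h2, zero_add]
    rcases bb_cases (C.φ d) (C.φ k0) with h | h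
    · exfalso
      apply hdiag d hd.1.1 hdQ hd1
      refine eq_smul_of_bb fun m hm => ?_
      obtain ⟨k, hk, rfl⟩ := C.φ_surj m
      rw [hlin k ⟨hk, (fix_iff _).2 hm⟩, h, ite_self]
    · obtain ⟨c, hc'⟩ := eq_smul_of_bb (u := C.φ d + x) fun m hm => by
        obtain ⟨k, hk, rfl⟩ := C.φ_surj m
        rw [bb_add_left, hlin k ⟨hk, (fix_iff _).2 hm⟩, h, bb_comm x]
        rcases bb_cases (C.φ k) x with e | e <;> simp [e, k4_add_self]
      refine ⟨c, ?_⟩
      rw [← hc', add_left_comm, vec_add_self, add_zero]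
  by_cases hD : ∃ d ∈ L, d ∈ (coreAt z).map (MulAut.conj g).toMonoidHom ∧ d ≠ 1
  · obtain ⟨d, hdL, hdQ, hd1⟩ := hD
    obtain ⟨c, hdc⟩ := hrad d hdL hdQ hd1
    apply hxv
    refine ⟨c + (x 0 + c), ?_⟩
    have rad : ∀ (r : M4) (v : V4), app r v0 = v0 → Commute r s12 →
        (∀ u, hh u v0 = 0 → app r u = u + hh u v • v0) → hh x v = 0 := by
      intro r v hr0 hrs hr
      obtain ⟨c', hc'z, rfl⟩ := C.P_surj r
      have hw'z : Commute (c' * w * c'⁻¹) z := (hc'z.mul_left hw).mul_left hc'z.inv_left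
      have hPw' : C.P (c' * w * c'⁻¹) = C.P w := by
        rw [C.P_conj hc'z hw, hwP, hrs.eq, mul_inv_cancel_right]
      set i := w⁻¹ * (c' * w * c'⁻¹) with hi_def
      have hiJ : i ∈ coreAt z := by
        rw [← C.P_ker _ (hw.inv_left.mul_left hw'z), C.P_mul _ _ hw.inv_left hw'z, C.P_inv hw, hPw',
          inv_mul_cancel]
      have hφi : ∃ a : K, C.φ i = a • v0 := by
        refine eq_smul_of_bb fun m hm => ?_
        obtain ⟨k, hk, rfl⟩ := C.φ_surj m
        refine (C.commute_iff hiJ hk).1 ?_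
        have hk' : c'⁻¹ * k * c' ∈ L1 := by
          have := C.conj_mem hc'z.inv_left hk
          rw [inv_inv] at this
          refine ⟨this, (fix_iff _).2 ?_⟩
          rw [show c'⁻¹ * k * c' = c'⁻¹ * k * c'⁻¹⁻¹ by group, C.φ_conj _ hc'z.inv_left k hk]
          have e0 : app (C.P c'⁻¹) v0 = v0 := by
            rw [C.P_inv hc'z]
            conv_lhs => rw [← hr0]
            exact app_inv_app _ _
          rw [← hm]
          conv_lhs => rw [← e0]
          exact hh_app _ _ _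
        have h1 : Commute (c' * w * c'⁻¹) k := by
          have := (hwL _ hk').map (MulAut.conj c').toMonoidHom
          simpa [mul_assoc] using this
        exact (hwL k ⟨hk, (fix_iff _).2 hm⟩).inv_left.mul_left h1
      obtain ⟨a, ha⟩ := hφi
      have hjc := C.conj_mem hc'z hj
      set i' := j⁻¹ * i * (c' * j * c'⁻¹) with hi'_def
      have hi'J : i' ∈ coreAt z := mul_mem (mul_mem (inv_mem hj) hiJ) hjc
      have e1 : c' * y * c'⁻¹ = y * i' := by rw [hi'_def, hi_def, hyj]; group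
      have hφi' : ∃ b : K, C.φ i' = b • v0 := by
        refine ⟨a + hh x v, ?_⟩
        rw [hi'_def, C.φ_mul _ (mul_mem (inv_mem hj) hiJ) _ hjc, C.φ_mul _ (inv_mem hj) _ hiJ,
          C.φ_inv hj, C.φ_conj c' hc'z j hj, ← hx_def, hr x hx0, ha, add_smul]
        calc x + a • v0 + (x + hh x v • v0) = x + x + (a • v0 + hh x v • v0) := by abel
          _ = _ := by rw [vec_add_self, zero_add]
      obtain ⟨k, hk, hky⟩ := horb' i' hi'J hφi'
      set c'' := k⁻¹ * c'
      have hc''z : Commute c'' z := (C.comm_z hk).inv_left.mul_left hc'z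
      have hc''y : Commute c'' y := mul_inv_eq_iff_eq_mul.1 (by
        show k⁻¹ * c' * y * (k⁻¹ * c')⁻¹ = y
        calc k⁻¹ * c' * y * (k⁻¹ * c')⁻¹ = k⁻¹ * (c' * y * c'⁻¹) * k := by group
          _ = y := by rw [e1, ← hky]; group)
      have hPc'' : C.P c'' = C.P c' := by
        rw [C.P_mul _ _ (C.comm_z hk).inv_left hc'z, C.P_inv (C.comm_z hk), C.P_of_mem hk, inv_one,
          one_mul]
      have hd'J := C.conj_mem hc''z hdL.1.1
      have hd'Q := h'.normalizes c'' hc''y d hdQ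
      have hd'L : c'' * d * c''⁻¹ ∈ L := Subgroup.mem_inf.2 ⟨⟨hd'J, by
          rw [C.φ_conj c'' hc''z d hdL.1.1, hPc'', ← app_mul, ← hrs.eq, app_mul, hdL.1.2]⟩,
        Subgroup.mem_centralizer_singleton_iff.2 <| by
          exact ((hc''y.mul_left (hLy d hdL)).mul_left hc''y.inv_left).eq⟩
      have hd'1 : c'' * d * c''⁻¹ ≠ 1 := fun e => hd1 (conj_eq_one_iff.1 e)
      obtain ⟨a', ha'⟩ := hrad _ hd'L hd'Q hd'1
      -- the two intersection elements coincide
      have hsame : c'' * d * c''⁻¹ = d := by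
        by_contra hdd
        apply hdiag _ (mul_mem (inv_mem hdL.1.1) hd'J) (mul_mem (inv_mem hdQ) hd'Q)
          (fun e => hdd (inv_mul_eq_one.1 e).symm)
        refine ⟨c + a', ?_⟩
        rw [C.φ_mul _ (inv_mem hdL.1.1) _ hd'J, C.φ_inv hdL.1.1, hdc, ha', add_smul]
        calc x + c • v0 + (x + a' • v0) = x + x + (c • v0 + a' • v0) := by abel
          _ = _ := by rw [vec_add_self, zero_add]
      have e2 := C.φ_conj c'' hc''z d hdL.1.1
      rw [hsame, hPc'', hdc, app_add, app_smul, hr0, hr x hx0, add_assoc, add_right_inj] at e2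
      have e3 : hh x v • v0 = 0 := by
        calc hh x v • v0 = hh x v • v0 + c • v0 + c • v0 := by
              rw [add_assoc, vec_add_self, add_zero]
          _ = 0 := by rw [← e2, vec_add_self]
      exact (smul_eq_zero.1 e3).resolve_right (by decide +kernel)
    have h3 := rad rE3 ![0, 0, 1, 0] (by decide +kernel) rE3_s12
      (fun u hu => by rw [app_rE3, hu]; simp)
    have h4 := rad rE4 ![0, 0, 0, 1] (by decide +kernel) rE4_s12
      (fun u hu => by rw [app_rE4, hu]; simp)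
    rw [show c + (x 0 + c) = x 0 by rw [add_comm (x 0), ← add_assoc, k4_add_self, zero_add]]
    have hxf := perp_v0_form x hx0
    have hx2 : x 2 = 0 := by simpa [hh, Cfsg.hermForm, Fin.sum_univ_four] using h3
    have hx3 : x 3 = 0 := by simpa [hh, Cfsg.hermForm, Fin.sum_univ_four] using h4
    rw [hx2, hx3] at hxf
    funext i
    rw [hxf]
    fin_cases i <;> simp [v0]
  push Not at hD
  obtain ⟨T, f, hf, hfT, hT⟩ := C.exists_embed L hLy hD
  have h64 : Nat.card L = 64 := by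
    have hidx : (L.subgroupOf L1).index = 2 := by
      refine Subgroup.index_eq_two_iff.2 ⟨⟨k0, hk0⟩, fun b => ?_⟩
      simp only [Subgroup.mem_subgroupOf, hLmem, Subgroup.coe_mul, b.2, mul_mem b.2 hk0, true_and]
      rw [C.φ_mul _ b.2.1 k0 hk0.1, bb_add_left, (bb_cases _ _).resolve_left hk0x]
      rcases bb_cases (C.φ b) x with e | e <;> simp [e, k4_add_self, Xor']
    have h := Subgroup.card_mul_index (L.subgroupOf L1)
    rw [hidx, Nat.card_congr (Subgroup.subgroupOfEquivOfLe (inf_le_left : L ≤ L1)).toEquiv,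
      h128] at h
    exact Nat.eq_of_mul_eq_mul_right Nat.two_pos (h.trans (by norm_num))
  have hzL : z ∈ L := (hLmem z).2
    ⟨⟨C.z_mem, by rw [C.φ_z, app_zero]⟩, by rw [C.φ_z, bb_comm]; simp [bb, hh, Cfsg.hermForm]⟩
  refine false_of_card_64 T (hT.trans h64) ⟨f ⟨z, hzL⟩, fun a ha b hb => ?_⟩
  rw [← hfT] at ha hb
  obtain ⟨p, rfl⟩ := ha
  obtain ⟨q, rfl⟩ := hb
  rw [← map_inv, ← map_inv, ← map_mul, ← map_mul, ← map_mul]
  rcases C.hub.comm p p.2.1.1 q q.2.1.1 with e | e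
  · left
    rw [show p * q * p⁻¹ * q⁻¹ = 1 from Subtype.ext (by
      show (p : G) * q * (p : G)⁻¹ * (q : G)⁻¹ = 1
      rw [e, mul_inv_cancel]), map_one]
  · right
    congr 1
    refine Subtype.ext ?_
    show (p : G) * q * (p : G)⁻¹ * (q : G)⁻¹ = z
    rw [e, (C.comm_z q.2.1.1).eq, mul_inv_cancel_right]

end Coord

end Cfsg.Agent.U6Local
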