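import Cfsg.Agent.Lib.U6Local.Members
import Cfsg.Agent.Lib.U6Local.Code

/-!
# The local data of `U6Recog` in the natural case

`Coord.nonempty_loc`: a further conjugate of `z` in `C(z)` gives the structure `U6Recog.Loc`.
-/

set_option autoImplicit false

namespace Cfsg.Agent.U6Local

open LargeExtraspecial

theorem v0_ne : v0 ≠ 0 := by decide +kernel

theorem transvection_indep {u w : V4} (h : ∀ x, hh x u • u = hh x w • w) (hu : u ≠ 0)
    (hw : hh w w = 0) (huu : hh u u = 0) : ∃ a : K, u = a • w := by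
  obtain ⟨m, rfl⟩ := exists_app_eq hu huu
  have h1 := h (app m ![1, 0, 0, 0])
  rw [hh_app, hh_v0_shift, one_smul] at h1
  exact ⟨_, h1⟩

theorem kd_sq_surj (c : K) : ∃ a, a < 4 ∧ kd a ^ 2 = c := by
  obtain ⟨h1, h2⟩ := kd_val (c ^ 2)
  exact ⟨_, h1, by rw [h2, k4_four]⟩

theorem k4_sq_inj : ∀ a b : K, a ^ 2 = b ^ 2 → a = b := by decide +kernel

variable {G : Type*} [Group G] [Finite G] {z : G}

namespace Coord

variable (C : Coord z)
include C

theorem exists_member_at {g : G} (hc : Commute (g * z * g⁻¹) z) (hne : g * z * g⁻¹ ≠ z) {v : V4}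
    (hv : v ≠ 0) (hvv : hh v v = 0) : ∃ y, C.Member v y := by
  obtain ⟨u, hu, huu, hm⟩ := C.exists_member hc hne
  obtain ⟨m1, hm1⟩ := exists_app_eq hu huu
  obtain ⟨m2, hm2⟩ := exists_app_eq hv hvv
  obtain ⟨c, hcz, hP⟩ := C.P_surj (m2 * m1⁻¹)
  refine ⟨c * (g * z * g⁻¹) * c⁻¹, ?_⟩
  have := hm.map C hcz
  rwa [hP, app_mul, ← hm1, app_inv_app, hm2] at this

theorem commute_same {v : V4} (hv : v ≠ 0) (hvv : hh v v = 0) {y y' : G} (h : C.Member v y)
    (h' : C.Member v y') : Commute y y' := by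
  obtain ⟨hi, a, ha⟩ := h.diff C hv hvv h'
  have h1 := (h.spec C hv hvv).1 _ hi (by rw [ha, hh_smul_left, hvv, mul_zero])
  have := (Commute.refl y).mul_right h1
  rwa [mul_inv_cancel_left] at this

theorem commute_perp {u w : V4} (hu : u ≠ 0) (hw : w ≠ 0) (huu : hh u u = 0) (hww : hh w w = 0)
    (huw : hh u w = 0) {y y' : G} (h : C.Member u y) (h' : C.Member w y') : Commute y y' := by
  by_cases hc : ∃ c : K, w = c • u
  · obtain ⟨c, hc⟩ := hc
    subst hc
    have hc0 : c ≠ 0 := fun e => hw (by rw [e, zero_smul])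
    exact C.commute_same hw hww (h.scale C hc0) h'
  push Not at hc
  obtain ⟨g, a, b, ha, hb, h0, h1⟩ := exists_app_eq_pair hu hw huu hww huw hc
  obtain ⟨c, hcz, hP⟩ := C.P_surj g⁻¹
  have e0 : app g⁻¹ (a • u) = v0 := by rw [← h0, app_inv_app]
  have e1 : app g⁻¹ (b • w) = v1 := by rw [← h1, app_inv_app]
  have k0 := (h.scale C ha).map C hcz
  have k1 := (h'.scale C hb).map C hcz
  rw [hP, e0] at k0
  rw [hP, e1] at k1
  have := (C.commute_v0_v1 k0 k1).map (MulAut.conj c⁻¹).toMonoidHom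
  simpa [mul_assoc] using this

theorem not_commute {u w : V4} (hu : u ≠ 0) (hw : w ≠ 0) (huu : hh u u = 0)
    (huw : hh u w ≠ 0) {y y' : G} (h : C.Member u y) (h' : C.Member w y') : ¬ Commute y y' := by
  intro hc
  obtain ⟨m, rfl⟩ := exists_app_eq hu huu
  set x := app m ![1, 0, 0, 0]
  have hx : hh x (app m v0) = 1 := by rw [hh_app, hh_v0_shift]
  have e : app (C.P y) (app (C.P y') x) = app (C.P y') (app (C.P y) x) := by
    have hPc : C.P y * C.P y' = C.P y' * C.P y := by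
      rw [← C.P_mul _ _ h.comm h'.comm, ← C.P_mul _ _ h'.comm h.comm, hc.eq]
    exact (app_mul _ _ x).symm.trans ((congrArg (app · x) hPc).trans (app_mul _ _ x))
  rw [h.act, h'.act, h'.act, h.act, hh_add_left, hh_add_left, hh_smul_left, hh_smul_left, hx,
    one_mul, add_smul, add_smul, one_smul] at e
  have e2 : (hh x w * hh w (app m v0)) • app m v0 = hh (app m v0) w • w := by
    have e' := congrArg (fun t => x + hh x w • w + app m v0 + t) e
    have h2 : ∀ v : V4, (2 : ℤ) • v = 0 := fun v => by rw [two_zsmul, vec_add_self]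
    abel_nf at e'
    simp [h2] at e' ⊢
    exact e'
  obtain ⟨b, hb⟩ : ∃ b : K, w = b • app m v0 :=
    ⟨(hh (app m v0) w)⁻¹ * (hh x w * hh w (app m v0)),
      by rw [mul_smul, e2, smul_smul, inv_mul_cancel₀ huw, one_smul]⟩
  apply huw
  rw [hb, hh_smul_right, huu, mul_zero]

/-- An element of `C(z)` commuting with all transvection members lies in the core. -/
theorem mem_core_of_commute {g0 : G} (hg0 : Commute (g0 * z * g0⁻¹) z) (hne : g0 * z * g0⁻¹ ≠ z)
    {g : G} (hg : Commute g z)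
    (h : ∀ v y, v ≠ 0 → hh v v = 0 → C.Member v y → Commute g y) : g ∈ coreAt z := by
  haveI := simple_M4
  refine (C.P_ker g hg).1 ?_
  have hle : Subgroup.normalClosure ({s12} : Set M4) ≤ Subgroup.centralizer ({C.P g} : Set M4) := by
    refine (Subgroup.closure_le _).2 fun m hm => ?_
    obtain ⟨s, hs, hconj⟩ := Group.mem_conjugatesOfSet_iff.1 hm
    rw [Set.mem_singleton_iff] at hs
    subst hs
    obtain ⟨b, rfl⟩ := isConj_iff.1 hconj
    obtain ⟨y, hy⟩ := C.exists_member_at hg0 hne v0_ne hh_v0_self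
    obtain ⟨c, hc, rfl⟩ := C.P_surj b
    have hy' := hy.map C hc
    have hv : app (C.P c) v0 ≠ 0 := fun e => v0_ne (app_inj (e.trans (app_zero _).symm))
    have hgy := h _ _ hv (by rw [hh_app]; exact hh_v0_self) hy'
    rw [SetLike.mem_coe, Subgroup.mem_centralizer_singleton_iff, ← (C.member_v0.1 hy).2.2,
      ← C.P_conj hc hy.comm, ← C.P_mul _ _ hy'.comm hg, ← C.P_mul _ _ hg hy'.comm, hgy.eq]
  rcases (Subgroup.normalClosure_normal (s := ({s12} : Set M4))).eq_bot_or_eq_top with e | e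
  · have : s12 ∈ Subgroup.normalClosure ({s12} : Set M4) := Subgroup.subset_normalClosure rfl
    rw [e, Subgroup.mem_bot] at this
    exact absurd this (by decide +kernel)
  · have hc : C.P g ∈ Subgroup.center M4 := Subgroup.mem_center_iff.2 fun m =>
      Subgroup.mem_centralizer_singleton_iff.1 (hle (by rw [e]; trivial))
    rwa [center_M4, Subgroup.mem_bot] at hc

/-- The local data. -/
theorem nonempty_loc {g0 : G} (hg0 : Commute (g0 * z * g0⁻¹) z) (hne0 : g0 * z * g0⁻¹ ≠ z) :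
    Nonempty (U6Recog.Loc {x : G | ∃ g, g * z * g⁻¹ = x} z) := by
  classical
  set u : ℕ → V4 := fun i => vec (U6Recog.ptV i) with hu_def
  have hu0 : ∀ {i}, i < 45 → u i ≠ 0 := fun hi => (pt_spec _ hi).1
  have huu : ∀ {i}, i < 45 → hh (u i) (u i) = 0 := fun hi => (pt_spec _ hi).2
  have hm : ∀ i, ∃ y, i < 45 → C.Member (u i) y := fun i => by
    by_cases hi : i < 45
    · obtain ⟨y, hy⟩ := C.exists_member_at hg0 hne0 (hu0 hi) (huu hi)
      exact ⟨y, fun _ => hy⟩
    · exact ⟨1, fun h => absurd h hi⟩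
  choose m hm using hm
  have hk : ∀ i a, ∃ k, i < 45 → k ∈ coreAt z ∧ hh (C.φ k) (u i) = kd a ^ 2 := fun i a => by
    by_cases hi : i < 45
    · obtain ⟨k, hk⟩ := C.exists_shift (hu0 hi) (huu hi) (kd a ^ 2)
      exact ⟨k, fun _ => hk⟩
    · exact ⟨1, fun h => absurd h hi⟩
  choose k hk using hk
  set p : ℕ → ℕ → G := fun i a => k i a * m i * (k i a)⁻¹ with hp_def
  have hp : ∀ {i}, i < 45 → ∀ a, C.Member (u i) (p i a) ∧
      C.φ ((m i)⁻¹ * p i a) = kd a ^ 2 • u i := fun {i} hi a => by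
    obtain ⟨h1, -, h3⟩ := (hm i hi).shift C (huu hi) (hk i a hi).1
    exact ⟨h1, by rw [h3, (hk i a hi).2]⟩
  have hDp : ∀ {i}, i < 45 → ∀ a, ∃ g, g * z * g⁻¹ = p i a := fun hi a => (hp hi a).1.conj
  -- the action of a translation
  have htr : ∀ {i}, i < 45 → ∀ {a}, a < 4 → ∀ (v : ℕ) {j}, j ∈ coreAt z → C.φ j = vec v →
      j * p i a * j⁻¹ = p i (a ^^^ U6Recog.hN (U6Recog.ptV i) v) := by
    intro i hi a ha v j hj hjv
    obtain ⟨h1, h2⟩ := hp hi a
    obtain ⟨h3, h4, h5⟩ := h1.shift C (huu hi) hj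
    refine (hm i hi).eq_of_φ C (hu0 hi) (huu hi) h3 (hp hi _).1 ?_
    rw [(hp hi _).2, show (m i)⁻¹ * (j * p i a * j⁻¹) =
        ((m i)⁻¹ * p i a) * ((p i a)⁻¹ * (j * p i a * j⁻¹)) by group,
      C.φ_mul _ ((hm i hi).diff C (hu0 hi) (huu hi) h1).1 _ h4, h2, h5, ← add_smul, hjv,
      kd_xor ha (hN_lt _ _), k4_sq_add, kd_hN, ← hh_swap]
  refine ⟨{
    p := p
    mem := ⟨1, by group⟩
    inv := ?_, conj_mem := ?_, trans := fun a ha => ha, p_mem := ?_, p_surj := ?_, p_inj := ?_,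
    comm := ?_, transl := ?_, ker := ?_, sq := ?_ }⟩
  · rintro a ⟨g, rfl⟩
    refine orderOf_eq_prime (hp := ⟨Nat.prime_two⟩) ?_ fun e => C.z_ne (conj_eq_one_iff.1 e)
    rw [pow_two, C.conj_sq]
  · rintro g a ⟨g', rfl⟩
    exact ⟨g * g', by group⟩
  · intro i a hi ha
    refine ⟨hDp hi a, (hp hi a).1.comm.symm, fun e => ?_⟩
    have h1 : C.P (p i a) = 1 := by rw [e]; exact C.P_of_mem C.z_mem
    obtain ⟨x, hx, hxv⟩ := C.exists_shift (hu0 hi) (huu hi) 1
    have := (hp hi a).1.act (C.φ x)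
    rw [h1, app_one, hxv, one_smul, left_eq_add] at this
    exact hu0 hi this
  · rintro x ⟨g, rfl⟩ hc hne
    obtain ⟨v, hv, hvv, hmv⟩ := C.exists_member hc.symm hne
    obtain ⟨i, hi, a, ha, rfl⟩ := pt_cover v hv hvv
    have hmi : C.Member (u i) (g * z * g⁻¹) := by
      have := hmv.scale C (inv_ne_zero ha)
      rwa [smul_smul, inv_mul_cancel₀ ha, one_smul] at this
    obtain ⟨-, c, hcφ⟩ := (hm i hi).diff C (hu0 hi) (huu hi) hmi
    obtain ⟨b, hb, hbc⟩ := kd_sq_surj c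
    exact ⟨i, b, hi, hb, (hm i hi).eq_of_φ C (hu0 hi) (huu hi) (hp hi b).1 hmi
      (by rw [(hp hi b).2, hcφ, hbc])⟩
  · intro i j a b hi hj ha hb e
    have hij : i = j := by
      obtain ⟨c, hc⟩ := transvection_indep (u := u i) (w := u j) (fun x => by
        have h1 := (hp hi a).1.act x
        rw [e, (hp hj b).1.act x] at h1
        exact (add_left_cancel h1).symm) (hu0 hi) (huu hj) (huu hi)
      exact pt_distinct i hi j hj c hc
    subst hij
    refine ⟨rfl, kd_inj a ha b hb ?_⟩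
    have h1 := (hp hi a).2
    rw [e, (hp hi b).2] at h1
    exact k4_sq_inj _ _ (smul_left_injective _ (hu0 hi) h1.symm)
  · intro i j a b hi hj ha hb
    rw [U6Recog.perpB, beq_iff_eq, hN_eq_zero_iff]
    constructor
    · intro hc
      by_contra hne
      exact C.not_commute (hu0 hi) (hu0 hj) (huu hi) hne (hp hi a).1 (hp hj b).1 hc
    · intro h
      exact C.commute_perp (hu0 hi) (hu0 hj) (huu hi) (huu hj) h (hp hi a).1 (hp hj b).1
  · intro v _
    obtain ⟨j, hj, hjv⟩ := C.φ_surj (vec v)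
    exact ⟨j, C.comm_z hj, fun i a hi ha => htr hi ha v hj hjv⟩
  · intro g hg hfix
    have hgJ : g ∈ coreAt z := C.mem_core_of_commute hg0 hne0 hg fun v y hv hvv hy => by
      obtain ⟨i, hi, a, ha, rfl⟩ := pt_cover v hv hvv
      have hyi : C.Member (u i) y := by
        have := hy.scale C (inv_ne_zero ha)
        rwa [smul_smul, inv_mul_cancel₀ ha, one_smul] at this
      obtain ⟨-, c, hcφ⟩ := (hm i hi).diff C (hu0 hi) (huu hi) hyi
      obtain ⟨b, hb, hbc⟩ := kd_sq_surj c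
      rw [← (hm i hi).eq_of_φ C (hu0 hi) (huu hi) (hp hi b).1 hyi (by rw [(hp hi b).2, hcφ, hbc])]
      exact hfix i b hi hb
    refine (C.φ_ker g hgJ).1 (eq_zero_of_perp _ fun i hi => ?_)
    obtain ⟨h1, h2, h3⟩ := (hp hi 0).1.shift C (huu hi) hgJ
    rw [(hfix i 0 hi (by norm_num)).eq, mul_inv_cancel_right, inv_mul_cancel, C.φ_one] at h3
    exact (smul_eq_zero.1 h3.symm).resolve_right (hu0 hi)
  · intro v g hv hvv hg hact
    obtain ⟨j, hj, hjv⟩ := C.φ_surj (vec v)
    have hfix : ∀ i a, i < 45 → a < 4 → Commute (j⁻¹ * g) (p i a) := fun i a hi ha => by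
      refine mul_inv_eq_iff_eq_mul.1 ?_
      calc j⁻¹ * g * p i a * (j⁻¹ * g)⁻¹ = j⁻¹ * (g * p i a * g⁻¹) * j := by group
        _ = p i a := by rw [hact i a hi ha, ← htr hi ha v hj hjv]; group
    have hd : j⁻¹ * g ∈ coreAt z := C.mem_core_of_commute hg0 hne0
      ((C.comm_z hj).inv_left.mul_left hg) fun w y hw hww hy => by
      obtain ⟨i, hi, a, ha, rfl⟩ := pt_cover w hw hww
      have hyi : C.Member (u i) y := by
        have := hy.scale C (inv_ne_zero ha)
        rwa [smul_smul, inv_mul_cancel₀ ha, one_smul] at this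
      obtain ⟨-, c, hcφ⟩ := (hm i hi).diff C (hu0 hi) (huu hi) hyi
      obtain ⟨b, hb, hbc⟩ := kd_sq_surj c
      rw [← (hm i hi).eq_of_φ C (hu0 hi) (huu hi) (hp hi b).1 hyi (by rw [(hp hi b).2, hcφ, hbc])]
      exact hfix i b hi hb
    have hφd : C.φ (j⁻¹ * g) = 0 := eq_zero_of_perp _ fun i hi => by
      obtain ⟨h1, h2, h3⟩ := (hp hi 0).1.shift C (huu hi) hd
      rw [(hfix i 0 hi (by norm_num)).eq, mul_inv_cancel_right, inv_mul_cancel, C.φ_one] at h3
      exact (smul_eq_zero.1 h3.symm).resolve_right (hu0 hi)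
    have hgJ : g ∈ coreAt z := by
      have := mul_mem hj hd
      rwa [mul_inv_cancel_left] at this
    have hφg : C.φ g = vec v := by
      calc C.φ g = C.φ (j * (j⁻¹ * g)) := by rw [mul_inv_cancel_left]
        _ = vec v := by rw [C.φ_mul j hj _ hd, hφd, add_zero, hjv]
    intro e
    apply hvv
    rw [hN_eq_zero_iff, ← hφg]
    exact (C.φ_sq g hgJ).1 e

end Coord

end Cfsg.Agent.U6Local
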