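import Cfsg.Agent.Lib.U6Local.Fusion

/-!
# The conjugates of `z` in `C(z)`

`Coord.Member v y`: `y` is a conjugate of `z` in `C(z)` acting as the transvection at `v`.
-/

set_option autoImplicit false

namespace Cfsg.Agent.U6Local

open LargeExtraspecial

theorem hh_v0_shift : ∀ c : K, hh ![c, 0, 0, 0] v0 = c := by decide +kernel

theorem k4_cube : ∀ a : K, a ≠ 0 → a ^ 2 * a = 1 := by decide +kernel

theorem v1_fix : app theta v1 = om ^ 2 • v1 := by decide +kernel

variable {G : Type*} [Group G] {z : G}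

namespace Coord

variable (C : Coord z)
include C

/-- A conjugate of `z` in `C(z)` acting as the transvection at `v`. -/
structure Member (v : V4) (y : G) : Prop where
  conj : ∃ g, g * z * g⁻¹ = y
  comm : Commute y z
  act : ∀ x, app (C.P y) x = x + hh x v • v

theorem Member.map {v : V4} {y c : G} (h : C.Member v y) (hc : Commute c z) :
    C.Member (app (C.P c) v) (c * y * c⁻¹) := by
  obtain ⟨g, hg⟩ := h.conj
  refine ⟨⟨c * g, by rw [← hg]; group⟩, (hc.mul_left h.comm).mul_left hc.inv_left, fun x => ?_⟩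
  rw [C.P_conj hc h.comm, app_mul, app_mul, h.act, app_add, app_smul, app_app_inv]
  congr 2
  conv_rhs => rw [← app_app_inv (C.P c) x, hh_app]

theorem Member.scale {v : V4} {y : G} (h : C.Member v y) {a : K} (ha : a ≠ 0) :
    C.Member (a • v) y := by
  refine ⟨h.conj, h.comm, fun x => ?_⟩
  rw [h.act, hh_smul_right, smul_smul, mul_assoc, mul_comm (hh x v), ← mul_assoc, k4_cube a ha,
    one_mul]

theorem member_v0 {y : G} : C.Member v0 y ↔ (∃ g, g * z * g⁻¹ = y) ∧ Commute y z ∧ C.P y = s12 :=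
  ⟨fun h => ⟨h.conj, h.comm, ext_app fun i => by rw [h.act, app_s12]⟩,
    fun ⟨h1, h2, h3⟩ => ⟨h1, h2, fun x => by rw [h3, app_s12]⟩⟩

variable [Finite G]

/-- Every conjugate in `C(z)` other than `z` is a member. -/
theorem exists_member {g : G} (hc : Commute (g * z * g⁻¹) z) (hne : g * z * g⁻¹ ≠ z) :
    ∃ v, v ≠ 0 ∧ hh v v = 0 ∧ C.Member v (g * z * g⁻¹) := by
  set y := g * z * g⁻¹ with hy_def
  have h1 : C.P y ≠ 1 := fun e => hne (C.conj_eq_of_mem ((C.P_ker y hc).1 e))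
  have h2 : C.P y * C.P y = 1 := by rw [← C.P_mul _ _ hc hc, C.conj_sq g, C.P_one]
  obtain ⟨m, hm⟩ := involution_cases h2 h1
  obtain ⟨c, hcz, rfl⟩ := C.P_surj m
  have hy' : Commute (c * g * z * (c * g)⁻¹) z := by
    rw [show c * g * z * (c * g)⁻¹ = c * y * c⁻¹ by rw [hy_def]; group]
    exact (hcz.mul_left hc).mul_left hcz.inv_left
  have hP : C.P (c * g * z * (c * g)⁻¹) = C.P c * C.P y * (C.P c)⁻¹ := by
    rw [← C.P_conj hcz hc]; congr 1; rw [hy_def]; group
  rcases hm with e | e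
  · refine ⟨app (C.P c⁻¹) v0, fun h => ?_, by rw [hh_app]; exact hh_v0_self, ?_⟩
    · rw [← app_zero (C.P c⁻¹)] at h
      exact absurd (app_inj h) (by decide +kernel)
    · have := (C.member_v0.2 ⟨⟨c * g, rfl⟩, hy', hP.trans e⟩).map C hcz.inv_left
      rwa [show c⁻¹ * (c * g * z * (c * g)⁻¹) * c⁻¹⁻¹ = y by rw [hy_def]; group] at this
  · exact (C.false_of_s1234 hy' (hP.trans e)).elim

/-- The preimage of `v^⊥` centralises a member, whose product with `z` is no conjugate. -/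
theorem Member.spec {v : V4} (hv : v ≠ 0) (hvv : hh v v = 0) {y : G} (h : C.Member v y) :
    (∀ k ∈ coreAt z, hh (C.φ k) v = 0 → Commute y k) ∧ ∀ x, x * z * x⁻¹ ≠ y * z := by
  obtain ⟨m, hm⟩ := exists_app_eq hv hvv
  obtain ⟨c, hc, rfl⟩ := C.P_surj m
  have h0 : C.Member v0 (c⁻¹ * y * c⁻¹⁻¹) := by
    have := h.map C hc.inv_left
    rwa [C.P_inv hc, ← hm, app_inv_app] at this
  obtain ⟨⟨g, hg⟩, hcm, hP⟩ := C.member_v0.1 h0
  obtain ⟨s1, s2⟩ := C.s12_spec (g := g) (hg ▸ hcm) (hg ▸ hP)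
  rw [hg] at s1 s2
  constructor
  · intro k hk h0k
    have h1 := s1 _ (C.conj_mem hc.inv_left hk) (by
      rw [C.φ_conj _ hc.inv_left k hk, C.P_inv hc]
      rw [← h0k, ← hm]
      conv_lhs => rw [← app_inv_app (C.P c) v0]
      exact hh_app _ _ _)
    have h2 := h1.map (MulAut.conj c).toMonoidHom
    simpa [mul_assoc] using h2
  · intro x hx
    refine s2 (c⁻¹ * x) ?_
    calc c⁻¹ * x * z * (c⁻¹ * x)⁻¹ = c⁻¹ * (x * z * x⁻¹) * c := by group
      _ = (c⁻¹ * y * c⁻¹⁻¹) * (c⁻¹ * z * c) := by rw [hx]; group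
      _ = _ := by rw [show c⁻¹ * z * c = z by rw [mul_assoc, ← hc.eq, inv_mul_cancel_left]]

omit [Finite G] in
/-- Orthogonal to `v^⊥` means a multiple of `v`. -/
theorem eq_smul_of_bb' {u v : V4} (hv : v ≠ 0) (hvv : hh v v = 0)
    (h : ∀ m, hh m v = 0 → bb u m = 0) : ∃ c : K, u = c • v := by
  obtain ⟨m, rfl⟩ := exists_app_eq hv hvv
  obtain ⟨c, hc⟩ := eq_smul_of_bb (u := app m⁻¹ u) fun x hx => by
    have := h (app m x) (by rwa [hh_app])
    rw [bb] at this ⊢
    rwa [← app_app_inv m u, hh_app, hh_app] at this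
  exact ⟨c, by rw [← app_smul, ← hc, app_app_inv]⟩

omit [Finite G] in
/-- Conjugation of a member by the core. -/
theorem Member.shift {v : V4} (hvv : hh v v = 0) {y k : G} (h : C.Member v y)
    (hk : k ∈ coreAt z) : C.Member v (k * y * k⁻¹) ∧
      y⁻¹ * (k * y * k⁻¹) ∈ coreAt z ∧ C.φ (y⁻¹ * (k * y * k⁻¹)) = hh (C.φ k) v • v := by
  refine ⟨?_, ?_, ?_⟩
  · have := h.map C (C.comm_z hk)
    rwa [C.P_of_mem hk, app_one] at this
  · rw [show y⁻¹ * (k * y * k⁻¹) = y⁻¹ * k * y⁻¹⁻¹ * k⁻¹ by group]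
    exact mul_mem (C.conj_mem h.comm.inv_left hk) (inv_mem hk)
  · rw [show y⁻¹ * (k * y * k⁻¹) = y⁻¹ * k * y⁻¹⁻¹ * k⁻¹ by group,
      C.φ_commutator h.comm.inv_left hk, C.P_inv h.comm]
    have e : app (C.P y) (C.φ k + hh (C.φ k) v • v) = C.φ k := by
      rw [h.act, hh_add_left, hh_smul_left, hvv, mul_zero, add_zero, add_assoc, vec_add_self,
        add_zero]
    conv_lhs => rw [← e, app_inv_app, e]
    rw [add_comm (C.φ k), add_assoc, vec_add_self, add_zero]

omit [Finite G] in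
theorem exists_shift {v : V4} (hv : v ≠ 0) (hvv : hh v v = 0) (c : K) :
    ∃ k ∈ coreAt z, hh (C.φ k) v = c := by
  obtain ⟨m, rfl⟩ := exists_app_eq hv hvv
  obtain ⟨k, hk, hkx⟩ := C.φ_surj (app m ![c, 0, 0, 0])
  exact ⟨k, hk, by rw [hkx, hh_app, hh_v0_shift]⟩

/-- Two members at `v` differ by a multiple of `v`. -/
theorem Member.diff {v : V4} (hv : v ≠ 0) (hvv : hh v v = 0) {y y' : G} (h : C.Member v y)
    (h' : C.Member v y') : y⁻¹ * y' ∈ coreAt z ∧ ∃ c : K, C.φ (y⁻¹ * y') = c • v := by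
  have hi : y⁻¹ * y' ∈ coreAt z := by
    rw [← C.P_ker _ (h.comm.inv_left.mul_left h'.comm), C.P_mul _ _ h.comm.inv_left h'.comm,
      C.P_inv h.comm, inv_mul_eq_one]
    exact ext_app fun i => by rw [h.act, h'.act]
  refine ⟨hi, C.eq_smul_of_bb' hv hvv fun m hm => ?_⟩
  obtain ⟨k, hk, rfl⟩ := C.φ_surj m
  exact (C.commute_iff hi hk).1
    (((h.spec C hv hvv).1 k hk hm).inv_left.mul_left ((h'.spec C hv hvv).1 k hk hm))

/-- A member at `v` is determined by its displacement. -/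
theorem Member.eq_of_φ {v : V4} (hv : v ≠ 0) (hvv : hh v v = 0) {y y' y'' : G}
    (h : C.Member v y) (h' : C.Member v y') (h'' : C.Member v y'')
    (e : C.φ (y⁻¹ * y') = C.φ (y⁻¹ * y'')) : y' = y'' := by
  rcases C.eq_or_of_φ (h.diff C hv hvv h').1 (h.diff C hv hvv h'').1 e with r | r
  · exact (mul_left_cancel r).symm
  · exfalso
    obtain ⟨g, hg⟩ := h''.conj
    refine (h'.spec C hv hvv).2 g (hg.trans ?_)
    calc y'' = y * (y⁻¹ * y'') := by group
      _ = y' * z := by rw [r]; group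

/-- Members at orthogonal points commute, at least the canonical pair. -/
theorem commute_v0_v1 {y y' : G} (h : C.Member v0 y) (h' : C.Member v1 y') : Commute y y' := by
  obtain ⟨t, ht, htθ, hto⟩ := C.exists_t
  have base : ∀ {v : V4}, v ≠ 0 → hh v v = 0 → ∀ {y : G}, C.Member v y → Commute (C.P y) theta →
      ∃ u, C.Member v u ∧ Commute t u := by
    intro v hv hvv y hy hyθ
    obtain ⟨w, hw, hwP, htw⟩ := C.exists_fixed ht htθ hto (m := C.P y) hyθ
    have hw2 : w * w = 1 ∨ w * w = z := by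
      have hm : w * w ∈ coreAt z := by
        obtain ⟨g, hg⟩ := hy.conj
        rw [← C.P_ker _ (hw.mul_left hw), C.P_mul _ _ hw hw, hwP,
          ← C.P_mul _ _ hy.comm hy.comm, ← hg, C.conj_sq g, C.P_one]
      exact (C.φ_ker _ hm).1 (C.φ_eq_zero_of_fixed ht htθ hm (htw.mul_right htw))
    obtain ⟨j, hj, hyj, hjfix⟩ := C.fix_of_sq hw hy.comm hwP.symm
      (by obtain ⟨g, hg⟩ := hy.conj; rw [← hg]; exact C.conj_sq g) hw2
    have hjv : ∃ c : K, C.φ j = c • v := C.eq_smul_of_bb' hv hvv fun m hm => by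
      obtain ⟨k, hk, rfl⟩ := C.φ_surj m
      refine (C.commute_iff hj hk).1 ?_
      have h1 := C.commute_fix ht htθ hw htw hk (by rw [hwP, hy.act, hm, zero_smul, add_zero])
      have h2 := h1.inv_left.mul_left ((hy.spec C hv hvv).1 k hk hm)
      rwa [hyj, inv_mul_cancel_left] at h2
    obtain ⟨c, hc⟩ := hjv
    obtain ⟨k, hk, hkc⟩ := C.exists_shift hv hvv c
    obtain ⟨hm', hiJ, hi⟩ := hy.shift C hvv hk
    rw [hkc] at hi
    refine ⟨k * y * k⁻¹, hm', ?_⟩
    have e : k * y * k⁻¹ = w * (j * (y⁻¹ * (k * y * k⁻¹))) := by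
      rw [← mul_assoc, ← hyj]; group
    rw [e]
    refine htw.mul_right ?_
    have hjj := mul_mem hj hiJ
    have h0 : C.φ (j * (y⁻¹ * (k * y * k⁻¹))) = 0 := by
      rw [C.φ_mul j hj _ hiJ, hi, hc, vec_add_self]
    rcases (C.φ_ker _ hjj).1 h0 with r | r <;> rw [r]
    exacts [Commute.one_right t, ht]
  have hv0 : v0 ≠ 0 := by decide +kernel
  have hv1 : v1 ≠ 0 := by decide +kernel
  have hh1 : hh v1 v1 = 0 := by decide +kernel
  have h10 : hh v1 v0 = 0 := by decide +kernel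
  have h01 : hh v0 v1 = 0 := by decide +kernel
  have hθ0 : app theta v0 = om • v0 := by decide +kernel
  have cth : ∀ {v : V4} {y : G}, C.Member v y → (∃ a : K, a ≠ 0 ∧ app theta v = a • v) →
      Commute (C.P y) theta := by
    rintro v y hy ⟨a, ha, he⟩
    refine ext_app fun i => ?_
    rw [app_mul, app_mul, hy.act, hy.act, app_add, app_smul, he, smul_smul]
    congr 2
    rw [← hh_app theta (Pi.single i 1) v, he, hh_smul_right]
    rw [mul_comm (a ^ 2), mul_assoc, k4_cube a ha, mul_one]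
  obtain ⟨u, hu, htu⟩ := base hv0 hh_v0_self h (cth h ⟨om, by decide +kernel, hθ0⟩)
  obtain ⟨u', hu', htu'⟩ := base hv1 hh1 h' (cth h' ⟨om ^ 2, by decide +kernel, v1_fix⟩)
  have hcom : Commute u u' := by
    have hP : C.P u * C.P u' = C.P u' * C.P u := ext_app fun i => by
      rw [app_mul, app_mul, hu.act, hu'.act, hu'.act, hu.act]
      rw [hh_add_left, hh_smul_left, h10, mul_zero, add_zero, hh_add_left, hh_smul_left, h01,
        mul_zero, add_zero]
      abel
    have hm : u * u' * u⁻¹ * u'⁻¹ ∈ coreAt z := by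
      rw [← C.P_ker _ (((hu.comm.mul_left hu'.comm).mul_left hu.comm.inv_left).mul_left
        hu'.comm.inv_left), C.P_mul _ _ ((hu.comm.mul_left hu'.comm).mul_left hu.comm.inv_left)
        hu'.comm.inv_left, C.P_mul _ _ (hu.comm.mul_left hu'.comm) hu.comm.inv_left,
        C.P_mul _ _ hu.comm hu'.comm, C.P_inv hu.comm, C.P_inv hu'.comm, hP]
      group
    rcases (C.φ_ker _ hm).1 (C.φ_eq_zero_of_fixed ht htθ hm
      (((htu.mul_right htu').mul_right htu.inv_right).mul_right htu'.inv_right)) with r | r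
    · exact mul_inv_eq_iff_eq_mul.1 (mul_inv_eq_one.1 r)
    · exfalso
      obtain ⟨g, hg⟩ := hu'.conj
      refine (hu'.spec C hv1 hh1).2 (u * g) ?_
      calc u * g * z * (u * g)⁻¹ = (u * u' * u⁻¹ * u'⁻¹) * u' := by rw [← hg]; group
        _ = u' * z := by rw [r, ← hu'.comm.eq]
  obtain ⟨hi, a, ha⟩ := hu.diff C hv0 hh_v0_self h
  obtain ⟨hi', b, hb⟩ := hu'.diff C hv1 hh1 h'
  have e1 : Commute u' (u⁻¹ * y) :=
    (hu'.spec C hv1 hh1).1 _ hi (by rw [ha, hh_smul_left, h01, mul_zero])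
  have e2 : Commute u (u'⁻¹ * y') :=
    (hu.spec C hv0 hh_v0_self).1 _ hi' (by rw [hb, hh_smul_left, h10, mul_zero])
  have e3 : Commute (u⁻¹ * y) (u'⁻¹ * y') := (C.commute_iff hi hi').2 (by
    rw [ha, hb, bb_eq_trace, hh_smul_left, hh_smul_right, h01]; ring)
  have := (hcom.mul_right e2).mul_left (e1.symm.mul_right e3)
  rwa [mul_inv_cancel_left, mul_inv_cancel_left] at this

end Coord

end Cfsg.Agent.U6Local
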