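import Cfsg.Agent.Lib.G2Four.Field
import Cfsg.Agent.Lib.SU4Presentation.Main
import Cfsg.Agent.S0822
import Cfsg.Agent.S0283

/-!
# `U₄(2)` as `SU(4,2)` over `G2Four.K4`

* `M4`, its natural action `app` on `V4`, the form `hh`;
* `ofMat`: elements from explicit matrices, conditions by `decide +kernel`;
* `card_M4`, `center_M4`, `simple_M4`, `nonempty_iso` (`PSp₄(3) ≅ M4`).
-/

set_option autoImplicit false

namespace Cfsg.Agent.U6Local

open Matrix

abbrev K := G2Four.K4

/-- Vectors of `GF(4)⁴`. -/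
abbrev V4 := Fin 4 → K

/-- `SU(4,2) = U₄(2)`. -/
abbrev M4 := ↥(Cfsg.SU 4 K 2)

/-- The Hermitian form. -/
def hh (x y : V4) : K := Cfsg.hermForm 4 K 2 x y

/-- The natural action. -/
def app (g : M4) (x : V4) : V4 := g.1.1 *ᵥ x

theorem card_K : Fintype.card K = 2 ^ 2 := by rw [G2Four.card_K4]; norm_num

theorem card_K' : Fintype.card K = 4 := G2Four.card_K4

theorem app_one (x : V4) : app 1 x = x := one_mulVec x

theorem app_mul (g h : M4) (x : V4) : app (g * h) x = app g (app h x) := (mulVec_mulVec ..).symm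

theorem app_add (g : M4) (x y : V4) : app g (x + y) = app g x + app g y := mulVec_add ..

theorem app_smul (g : M4) (c : K) (x : V4) : app g (c • x) = c • app g x := mulVec_smul ..

theorem app_zero (g : M4) : app g 0 = 0 := mulVec_zero _

theorem app_inv_app (g : M4) (x : V4) : app g⁻¹ (app g x) = x := by
  rw [← app_mul, inv_mul_cancel, app_one]

theorem app_app_inv (g : M4) (x : V4) : app g (app g⁻¹ x) = x := by
  rw [← app_mul, mul_inv_cancel, app_one]

theorem app_inj {g : M4} {x y : V4} (h : app g x = app g y) : x = y := by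
  rw [← app_inv_app g x, h, app_inv_app]

theorem hh_app (g : M4) (x y : V4) : hh (app g x) (app g y) = hh x y := g.2 x y

theorem hh_add_left (x y w : V4) : hh (x + y) w = hh x w + hh y w := by
  simp only [hh, Cfsg.hermForm, Pi.add_apply, add_mul, Finset.sum_add_distrib]

theorem hh_smul_left (c : K) (x w : V4) : hh (c • x) w = c * hh x w := by
  simp only [hh, Cfsg.hermForm, Pi.smul_apply, smul_eq_mul, Finset.mul_sum, mul_assoc]

theorem k4_add_self : ∀ a : K, a + a = 0 := by decide +kernel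

theorem k4_sq_add : ∀ a b : K, (a + b) ^ 2 = a ^ 2 + b ^ 2 := by decide +kernel

theorem k4_four : ∀ a : K, (a ^ 2) ^ 2 = a := by decide +kernel

theorem hh_swap (x y : V4) : hh y x = hh x y ^ 2 := by
  simp only [hh, Cfsg.hermForm, Fin.sum_univ_four, k4_sq_add, mul_pow, k4_four]
  ring

theorem hh_add_right (x y w : V4) : hh w (x + y) = hh w x + hh w y := by
  rw [hh_swap (x + y), hh_add_left, k4_sq_add, ← hh_swap, ← hh_swap]

theorem hh_smul_right (c : K) (x w : V4) : hh w (c • x) = c ^ 2 * hh w x := by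
  rw [hh_swap (c • x), hh_smul_left, mul_pow, ← hh_swap]

theorem vec_add_self (x : V4) : x + x = 0 := funext fun i => k4_add_self (x i)

/-- An element of `M4` is determined by the images of the four unit vectors. -/
theorem ext_app {g h : M4} (e : ∀ i, app g (Pi.single i 1) = app h (Pi.single i 1)) : g = h := by
  refine Subtype.ext (Subtype.ext (Matrix.ext fun i j => ?_))
  have := congrFun (e j) i
  simpa [app, mulVec_single] using this

/-- An element of `M4` from a matrix. -/
def ofMat (M : Matrix (Fin 4) (Fin 4) K) (hd : M.det = 1) (hu : Mᵀ * M.map (· ^ 2) = 1) : M4 :=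
  ⟨⟨M, hd⟩, by
    intro x y
    show Cfsg.hermForm 4 K 2 (M *ᵥ x) (M *ᵥ y) = Cfsg.hermForm 4 K 2 x y
    have hy : ∀ i, (M *ᵥ y) i ^ 2 = (M.map (· ^ 2) *ᵥ fun k => y k ^ 2) i := fun i => by
      simp only [mulVec, dotProduct, Fin.sum_univ_four, Matrix.map_apply, k4_sq_add, mul_pow]
    show (M *ᵥ x) ⬝ᵥ (fun i => (M *ᵥ y) i ^ 2) = x ⬝ᵥ fun k => y k ^ 2
    rw [funext hy, dotProduct_mulVec, ← vecMul_transpose, vecMul_vecMul, hu, vecMul_one]⟩

theorem app_ofMat {M : Matrix (Fin 4) (Fin 4) K} {hd : M.det = 1}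
    {hu : Mᵀ * M.map (· ^ 2) = 1} (x : V4) : app (ofMat M hd hu) x = M *ᵥ x := rfl

theorem card_M4 : Nat.card M4 = 25920 := by
  rw [SU4Presentation.card_SU_four card_K]; norm_num

theorem center_M4 : Subgroup.center M4 = ⊥ := by
  rw [← Subgroup.card_eq_one, Forms.card_center_SU card_K (by norm_num)]
  decide

/-- `PSU(4,2) = SU(4,2)`. -/
noncomputable def psuEquiv : Cfsg.PSU 4 K 2 ≃* M4 :=
  (QuotientGroup.quotientMulEquivOfEq center_M4).trans QuotientGroup.quotientBot

theorem simple_M4 : IsSimpleGroup M4 :=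
  haveI := S0283.result card_K 4 (by norm_num) (by norm_num)
  psuEquiv.symm.isSimpleGroup

theorem nonempty_iso {F : Type*} [Field F] [Fintype F] (hF : Fintype.card F = 3) :
    Nonempty (Cfsg.PSp 2 F ≃* M4) := by
  obtain ⟨e⟩ := S0822.result (F := K) card_K' hF
  exact ⟨e.symm.trans psuEquiv⟩

/-- The monomial matrix of a permutation, scaled by rows. -/
def monMat (d : Fin 4 → K) (σ : Fin 4 → Fin 4) : Matrix (Fin 4) (Fin 4) K :=
  Matrix.of fun i j => if σ i = j then d i else 0

/-- A primitive element. -/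
def om : K := ⟨2⟩

/-- `diag(ω, ω, ω, 1)`. -/
def dLast : M4 := ofMat (monMat ![om, om, om, 1] id) (by decide +kernel) (by decide +kernel)

/-- `diag(ω, ω, ω², ω²)`, fixed-point-free, commuting with `(12)` and `(12)(34)`. -/
def theta : M4 :=
  ofMat (monMat ![om, om, om ^ 2, om ^ 2] id) (by decide +kernel) (by decide +kernel)

/-- The transposition `(12)`: the transvection at `(1,1,0,0)`. -/
def s12 : M4 := ofMat (monMat 1 ![1, 0, 2, 3]) (by decide +kernel) (by decide +kernel)

/-- `(12)(34)`: an involution with two-dimensional fixed space. -/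
def s1234 : M4 := ofMat (monMat 1 ![1, 0, 3, 2]) (by decide +kernel) (by decide +kernel)

/-- `(13)(24)`. -/
def s1324 : M4 := ofMat (monMat 1 ![2, 3, 0, 1]) (by decide +kernel) (by decide +kernel)

/-- The singular vector `(1,1,0,0)`. -/
def v0 : V4 := ![1, 1, 0, 0]

/-- The singular vector `(0,0,1,1)`, orthogonal to `v0`. -/
def v1 : V4 := ![0, 0, 1, 1]

/-- The radical element of the stabiliser of `v0` belonging to `e₃`. -/
def rE3 : M4 :=
  ofMat !![1 + om, om, 1, 0; om, 1 + om, 1, 0; 1, 1, 1, 0; 0, 0, 0, 1]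
    (by decide +kernel) (by decide +kernel)

/-- The radical element of the stabiliser of `v0` belonging to `e₄`. -/
def rE4 : M4 :=
  ofMat !![1 + om, om, 0, 1; om, 1 + om, 0, 1; 0, 0, 1, 0; 1, 1, 0, 1]
    (by decide +kernel) (by decide +kernel)

theorem app_s12 : ∀ x : V4, app s12 x = x + hh x v0 • v0 := by decide +kernel

theorem app_rE3 : ∀ x : V4, app rE3 x =
    x + hh x v0 • ![0, 0, 1, 0] + (hh x ![0, 0, 1, 0] + om * hh x v0) • v0 := by decide +kernel

theorem app_rE4 : ∀ x : V4, app rE4 x =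
    x + hh x v0 • ![0, 0, 0, 1] + (hh x ![0, 0, 0, 1] + om * hh x v0) • v0 := by decide +kernel

end Cfsg.Agent.U6Local
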