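import Cfsg.Agent.Lib.U6Local.Weights

/-!
# The natural module from a weight in the orbit of four

`Rep.natural`: such a representation on 256 vectors is `SU(4,2)` on `GF(4)⁴` with `q = hh`.
-/

set_option autoImplicit false

namespace Cfsg.Agent.U6Local

/-- The four weights. -/
def natE : Fin 4 → TT := ![(1, 0, 0), (0, 1, 0), (0, 0, 1), (2, 2, 2)]

/-- Elements of value one. -/
def natY : Fin 4 → TT := ![(1, 0, 0), (0, 1, 0), (0, 0, 1), (2, 0, 0)]

theorem natE_indep : ∀ i j, i ≠ j → ∀ w, ∃ t, chi (natE j) t = 0 ∧ chi (natE i) t = chi (natE i) w := by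
  decide +kernel

theorem natE_chi : ∀ i, chi (natE i) (natY i) = 1 := by decide +kernel

theorem chi_natE : ∀ i x, chi (natE i) x = expo x i := by decide +kernel

/-- The permutations of the coordinates. -/
def swp : Fin 3 → Fin 4 ≃ Fin 4 := ![Equiv.swap 0 1, Equiv.swap 1 2, Equiv.swap 2 3]

theorem tau_natE : ∀ s i, tau s (natE i) = natE (swp s i) := by decide +kernel

theorem sig_natY : ∀ s i, chi (natE (swp s i)) (sig s (natY i)) = 1 := by decide +kernel

theorem app_dd (x : TT) (c : V4) : app (dd x) c = fun i => omp (expo x i) * c i := by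
  funext i
  simp [app, dd, ofMat, monMat, Matrix.mulVec, dotProduct]

theorem app_gs : ∀ (s : Fin 3) (c : V4), app (gs s) c = fun i => c (swp s i) := by decide +kernel

/-- The representatives carrying the first coordinate to the `i`-th. -/
def pis : Fin 4 → M4 := ![1, s12, s23 * s12, s34 * (s23 * s12)]

/-- The stabiliser part of a transposition times a representative. -/
def hst : Fin 3 → Fin 4 → M4 := ![![1, 1, s23, s23], ![s23, 1, 1, s34], ![s34, s34, 1, 1]]

theorem gs_pis : ∀ s i, gs s * pis i = pis (swp s i) * hst s i := by decide +kernel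

theorem parity_count : ∀ c : V4, (∑ i, if c i = 0 then (0 : ZMod 2) else 1) =
    if hh c c = 0 then 0 else 1 := by decide +kernel

/-- A linear map of `K` from the images of `1` and `ω`. -/
def lin2 (a b c : K) : K := ![0, a, b, a + b] c.v

/-- A map commuting with the permutations. -/
def tcand (a b c d : K) (x : V4) : V4 :=
  fun i => lin2 a b (x i) + ∑ j, if j = i then 0 else lin2 c d (x j)

/-- The tests on a candidate. -/
def tcOK (a b c d : K) : Prop :=
  (∀ k : K, k ≠ 0 → hh (tcand a b c d (Pi.single 0 k)) (tcand a b c d (Pi.single 0 k)) = 1) ∧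
  (∀ k : K, tcand a b c d (tcand a b c d (Pi.single 0 k)) = Pi.single 0 k) ∧
  (∀ (i : Fin 4) (k : K), (fun v => tcand a b c d (app (dd (0, 0, 1)) (tcand a b c d
    (app (dd (0, 1, 0)) (tcand a b c d (app (dd (1, 0, 0)) v))))))^[3] (Pi.single i k) = Pi.single i k)

theorem tcand_cases : ∀ a b c d : K, tcOK a b c d →
    (a = 0 ∧ b = 0 ∧ c = 1 ∧ d = om) ∨ (a = 1 ∧ b = om ∧ c = 0 ∧ d = 0) := by
  unfold tcOK
  decide +kernel

theorem tcand_nat : ∀ x : V4, tcand 0 0 1 om x = app tt x := by decide +kernel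

theorem tcand_id : ∀ x : V4, tcand 1 om 0 0 x = x := by decide +kernel

theorem hh_self_cases' : ∀ x : V4, hh x x = 0 ∨ hh x x = 1 := by decide +kernel

theorem k4_split_bits : ∀ c : K, c = 0 ∨ c = 1 ∨ c = om ∨ c = 1 + om := by decide +kernel

theorem lin2_values : ∀ a b : K, lin2 a b 0 = 0 ∧ lin2 a b 1 = a ∧ lin2 a b om = b ∧
    lin2 a b (1 + om) = a + b := by decide +kernel

theorem lin2_of_add (g : K → K) (h : ∀ x y, g (x + y) = g x + g y) (x : K) :
    g x = lin2 (g 1) (g om) x := by
  obtain ⟨h0, h1, h2, h3⟩ := lin2_values (g 1) (g om)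
  rcases k4_split_bits x with r | r | r | r <;> subst r
  · rw [h0]
    have := h 0 0
    rw [add_zero] at this
    exact left_eq_add.1 this
  · rw [h1]
  · rw [h2]
  · rw [h3, h]

namespace Rep

variable {V : Type*} [AddCommGroup V] (R : Rep V)
include R

theorem psi_congr {e y y' : TT} (hy : chi e y = 1) (hy' : chi e y' = 1) {v : V} (hv : R.prE e v = v)
    (c : K) : R.psi y' v c = R.psi y v c := by
  have hd : ∀ a, R.d y' (R.psi y v a) = R.d y (R.psi y v a) := fun a => by
    rw [R.d_psi hy hv, R.d_psi hy hv, hy, hy']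
  have h1 : R.d y' v = R.d y v := by
    have := hd 1
    rwa [R.psi_one] at this
  have h2 : R.d y' (R.d y v) = R.d y (R.d y v) := by
    have := hd om
    rwa [(R.psi_values y v).2.2.1] at this
  rw [psi, psi, h1, h2]

theorem gs_psi (s : Fin 3) (y : TT) (v : V) (c : K) :
    R.ρ (gs s) (R.psi y v c) = R.psi (sig s y) (R.ρ (gs s) v) c := by
  have hd : ∀ u, R.ρ (gs s) (R.d y u) = R.d (sig s y) (R.ρ (gs s) u) := fun u => by
    rw [d, d, ← R.ρ_mul, ← R.ρ_mul, gs_dd]
  unfold psi
  split_ifs with a b c'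
  · exact map_zero _
  · rfl
  · exact hd v
  · rw [hd, hd]

/-- A nontrivial representation is faithful. -/
theorem injective (hne : ∃ m v, R.ρ m v ≠ v) {m : M4} (h : ∀ v, R.ρ m v = v) : m = 1 := by
  haveI := simple_M4
  let N : Subgroup M4 :=
    { carrier := {g | ∀ v, R.ρ g v = v}
      one_mem' := R.ρ_one
      mul_mem' := fun {a b} ha hb v => by rw [R.ρ_mul, hb, ha]
      inv_mem' := fun {a} ha v => by
        conv_lhs => rw [← ha v, ← R.ρ_mul, inv_mul_cancel, R.ρ_one] }
  have hN : N.Normal := ⟨fun n hn g v => by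
    rw [R.ρ_mul, R.ρ_mul, hn, ← R.ρ_mul, mul_inv_cancel, R.ρ_one]⟩
  rcases hN.eq_bot_or_eq_top with e | e
  · exact Subgroup.mem_bot.1 (e ▸ (show m ∈ N from h))
  · obtain ⟨g, v, hg⟩ := hne
    exact absurd ((show g ∈ N by rw [e]; trivial) v) hg

end Rep

/-- The polar form. -/
def polar {V : Type*} [AddCommGroup V] (q : V → ZMod 2) (u v : V) : ZMod 2 := q (u + v) + q u + q v

/-- A representation with an invariant quadratic form. -/
structure QRep (V : Type*) [AddCommGroup V] extends Rep V where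
  q : V → ZMod 2
  hbil : ∀ u v w, q (u + v + w) + q u + q v + q w = q (u + v) + q (u + w) + q (v + w)
  hnd : ∀ v, v ≠ 0 → ∃ w, q (v + w) ≠ q v + q w
  hq : ∀ m v, q (ρ m v) = q v
  hne : ∃ m v, ρ m v ≠ v

theorem zmod2_add_self (a : ZMod 2) : a + a = 0 := CharTwo.add_self_eq_zero a

namespace QRep

variable {V : Type*} [AddCommGroup V] (R : QRep V)
include R

theorem q_zero : R.q 0 = 0 := by
  have h := R.hbil 0 0 0
  simp only [add_zero] at h
  calc R.q 0 = R.q 0 + R.q 0 + R.q 0 := by rw [zmod2_add_self, zero_add]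
    _ = R.q 0 + R.q 0 + R.q 0 + R.q 0 := h.symm
    _ = 0 := by rw [zmod2_add_self, zero_add, zmod2_add_self]

/-- The polar form of `q`. -/
def B (u v : V) : ZMod 2 := polar R.q u v

theorem B_comm (u v : V) : R.B u v = R.B v u := by
  rw [B, B, polar, polar, add_comm u v]; ring

theorem B_self (u : V) : R.B u u = 0 := by
  rw [B, polar, R.two, R.q_zero, zero_add, zmod2_add_self]

theorem B_add_left (u v w : V) : R.B (u + v) w = R.B u w + R.B v w := by
  have key : ∀ a b c d e f g : ZMod 2, a + b + c + d = e + f + g →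
      a + e + d = (f + b + d) + (g + c + d) := by decide
  exact key _ _ _ _ _ _ _ (R.hbil u v w)

theorem B_add_right (u v w : V) : R.B w (u + v) = R.B w u + R.B w v := by
  rw [R.B_comm, R.B_add_left, R.B_comm u, R.B_comm v]

theorem B_zero_left (w : V) : R.B 0 w = 0 := by
  have := R.B_add_left 0 0 w
  rw [add_zero] at this
  exact left_eq_add.1 this

theorem q_add (u v : V) : R.q (u + v) = R.q u + R.q v + R.B u v := by
  have key : ∀ a b c : ZMod 2, a = b + c + (a + b + c) := by decide
  exact key _ _ _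

theorem B_d (x : TT) (u v : V) : R.B (R.d x u) v = R.B u (R.d (-x) v) := by
  have h : ∀ m a b, R.B (R.ρ m a) (R.ρ m b) = R.B a b := fun m a b => by
    simp only [B, polar, ← map_add, R.hq]
  conv_lhs => rw [show v = R.d x (R.d (-x) v) by rw [← R.d_add, add_neg_cancel, R.d_zero]]
  exact h _ _ _

theorem B_piE (e : TT) (u v : V) : R.B (R.piE e u) v = R.B u (R.piE e v) := by
  have hl := map_sum (AddMonoidHom.mk' (fun a => R.B a v) fun a b => R.B_add_left a b v)
    (fun x => R.d x u) (kerF e)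
  have hr := map_sum (AddMonoidHom.mk' (R.B u) fun a b => R.B_add_right a b u)
    (fun x => R.d x v) (kerF e)
  refine hl.trans (Eq.trans ?_ hr.symm)
  have hn : ∀ e x : TT, chi e x = 0 → chi e (-x) = 0 := by decide +kernel
  refine Finset.sum_nbij' (fun x => -x) (fun x => -x) (fun x hx => ?_) (fun x hx => ?_)
    (fun x _ => neg_neg x) (fun x _ => neg_neg x) (fun x _ => R.B_d x u v)
  · simp only [kerF, Finset.mem_filter, Finset.mem_univ, true_and] at hx ⊢; exact hn e x hx
  · simp only [kerF, Finset.mem_filter, Finset.mem_univ, true_and] at hx ⊢; exact hn e x hx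

theorem B_prE (e : TT) (u v : V) : R.B (R.prE e u) v = R.B u (R.prE e v) := by
  rw [Rep.prE, Rep.prE, R.B_add_left, R.B_add_right, R.B_piE, R.B_piE]

/-- Weight vectors of different pairs are orthogonal. -/
theorem B_orth {e e' : TT} (h : ∀ w, ∃ t, chi e' t = 0 ∧ chi e t = chi e w) {u v : V}
    (hu : R.prE e u = u) (hv : R.prE e' v = v) : R.B u v = 0 := by
  rw [← hu, ← hv, R.B_prE, R.prE_prE_indep h, R.B_comm, R.B_zero_left]

/-- The natural case. -/
theorem natural [Finite V] (hV : Nat.card V = 256) {v : V} (hv : R.prE (1, 0, 0) v ≠ 0) :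
    ∃ f : V4 ≃+ V, (∀ m x, R.ρ m (f x) = f (app m x)) ∧
      ∀ x, R.q (f x) = if hh x x = 0 then 0 else 1 := by
  classical
  set x0 := R.prE (1, 0, 0) v with hx0_def
  have hx0 : R.prE (1, 0, 0) x0 = x0 := R.prE_prE _ v
  set X : Fin 4 → V := fun i => R.ρ (pis i) x0 with hX_def
  have hX : ∀ i, R.prE (natE i) (X i) = X i := by
    have t12 : ∀ w, R.ρ s12 (R.prE (1, 0, 0) w) = R.prE (0, 1, 0) (R.ρ s12 w) :=
      fun w => R.gs_prE 0 (1, 0, 0) w
    have t23 : ∀ w, R.ρ s23 (R.prE (0, 1, 0) w) = R.prE (0, 0, 1) (R.ρ s23 w) :=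
      fun w => R.gs_prE 1 (0, 1, 0) w
    have t34 : ∀ w, R.ρ s34 (R.prE (0, 0, 1) w) = R.prE (2, 2, 2) (R.ρ s34 w) :=
      fun w => (R.gs_prE 2 (0, 0, 1) w).trans
        (by rw [show tau 2 (0, 0, 1) = (2, 2, 2) by decide +kernel]; rfl)
    intro i
    fin_cases i
    · show R.prE (1, 0, 0) (R.ρ 1 x0) = R.ρ 1 x0
      rw [R.ρ_one, hx0]
    · show R.prE (0, 1, 0) (R.ρ s12 x0) = R.ρ s12 x0
      rw [← t12, hx0]
    · show R.prE (0, 0, 1) (R.ρ (s23 * s12) x0) = R.ρ (s23 * s12) x0
      rw [R.ρ_mul, ← hx0, t12, t23, R.prE_prE]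
    · show R.prE (2, 2, 2) (R.ρ (s34 * (s23 * s12)) x0) = R.ρ (s34 * (s23 * s12)) x0
      rw [R.ρ_mul, R.ρ_mul, ← hx0, t12, t23, t34, R.prE_prE]
  have hinvρ : ∀ m (w : V), R.ρ m w = 0 → w = 0 := fun m w h => by
    rw [← R.ρ_one w, ← inv_mul_cancel m, R.ρ_mul, h, map_zero]
  have hXne : ∀ i, X i ≠ 0 := fun i h => hv (hinvρ _ _ h)
  let F : V4 → V := fun c => ∑ i, R.psi (natY i) (X i) (c i)
  have hFadd : ∀ a b, F (a + b) = F a + F b := fun a b => by
    simp only [F, Pi.add_apply, R.psi_add (natE_chi _) (hX _), Finset.sum_add_distrib]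
  have hFinj : Function.Injective F :=
    R.psi_sum_injective natE natE_indep natY natE_chi X hX hXne
  have hFbij : Function.Bijective F := (Nat.bijective_iff_injective_and_card F).2
    ⟨hFinj, by rw [hV]; simp [card_K']⟩
  let f : V4 ≃+ V := AddEquiv.mk' (Equiv.ofBijective F hFbij) hFadd
  have hf : ∀ c, f c = F c := fun c => rfl
  have hF : ∀ (i : Fin 4) (a : K), f (Pi.single i a) = R.psi (natY i) (X i) a := fun i a => by
    rw [hf]
    show ∑ j, R.psi (natY j) (X j) ((Pi.single i a : V4) j) = _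
    rw [Finset.sum_eq_single i (fun j _ hj => by
      rw [Pi.single_eq_of_ne hj]; exact (R.psi_values _ _).1) (by simp), Pi.single_eq_same]
  -- the torus
  have hdd : ∀ x c, R.ρ (dd x) (f c) = f (app (dd x) c) := fun x c => by
    rw [hf, hf, app_dd]
    show R.ρ (dd x) (∑ i, _) = ∑ i, _
    rw [map_sum]
    refine Finset.sum_congr rfl fun i _ => ?_
    show R.d x _ = _
    rw [R.d_psi (natE_chi i) (hX i), chi_natE]
  -- the point stabiliser fixes `x0`
  have hfix : ∀ s : Fin 3, swp s 0 = 0 → R.ρ (gs s) x0 = x0 := by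
    intro s hs
    have hw : R.prE (1, 0, 0) (R.ρ (gs s) x0) = R.ρ (gs s) x0 := by
      have h1 := R.gs_prE s (natE 0) x0
      rw [tau_natE, hs, show natE 0 = ((1, 0, 0) : TT) from rfl, hx0] at h1
      exact h1.symm
    have hX0 : X 0 = x0 := R.ρ_one x0
    obtain ⟨c, hc⟩ := hFbij.2 (R.ρ (gs s) x0)
    have h1 : R.ρ (gs s) x0 = R.psi (natY 0) x0 (c 0) := by
      rw [← hw, ← hc]
      show R.prE (natE 0) (∑ i, R.psi (natY i) (X i) (c i)) = _
      rw [show R.prE (natE 0) (∑ i, R.psi (natY i) (X i) (c i)) =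
          ∑ i, R.prE (natE 0) (R.psi (natY i) (X i) (c i)) from
            map_sum (AddMonoidHom.mk' (R.prE (natE 0)) (R.prE_add _)) _ _,
        Finset.sum_eq_single 0 (fun j _ hj => by
          rw [← R.prE_psi (hX j), R.prE_prE_indep (natE_indep 0 j (Ne.symm hj))]) (by simp),
        R.prE_psi (hX 0), hX0]
    have hys : chi (1, 0, 0) (sig s (natY 0)) = 1 := by
      have := sig_natY s 0
      rwa [hs] at this
    have h2 : x0 = R.psi (natY 0) (R.ρ (gs s) x0) (c 0) := by
      conv_lhs => rw [← R.gs_gs s x0, h1, R.gs_psi]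
      exact R.psi_congr (natE_chi 0) hys hw _
    have h3 : x0 = R.psi (natY 0) x0 (c 0 * c 0) := by
      refine h2.trans ?_
      rw [h1]
      have hall : ∀ a : K, a = 0 ∨ a = 1 ∨ a = om ∨ a = om ^ 2 := by decide +kernel
      obtain ⟨p0, p1, p2, p3⟩ := R.psi_values (natY 0) x0
      have hd : ∀ a, R.d (natY 0) (R.psi (natY 0) x0 a) = R.psi (natY 0) x0 (om * a) := fun a => by
        rw [R.d_psi (natE_chi 0) hx0, natE_chi]; rfl
      rcases hall (c 0) with r | r | r | r <;> rw [r]
      · rw [mul_zero, (R.psi_values _ _).1, p0]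
      · rw [mul_one, p1, p1]
      · rw [(R.psi_values (natY 0) _).2.2.1, hd]
      · rw [(R.psi_values (natY 0) _).2.2.2, hd, hd, ← mul_assoc, ← pow_two]
    have hc1 : c 0 * c 0 = 1 := by
      have h4 : R.psi (natY 0) x0 (c 0 * c 0 + 1) = 0 := by
        rw [R.psi_add (natE_chi 0) hx0, ← h3, R.psi_one, R.two]
      have h5 := R.psi_eq_zero hv h4
      calc c 0 * c 0 = c 0 * c 0 + (1 + 1) := by rw [k4_add_self, add_zero]
        _ = 1 := by rw [← add_assoc, h5, zero_add]
    have hsq : ∀ a : K, a * a = 1 → a = 1 := by decide +kernel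
    rw [h1, hsq _ hc1, R.psi_one]
  have hfix23 : R.ρ s23 x0 = x0 := hfix 1 (by decide)
  have hfix34 : R.ρ s34 x0 = x0 := hfix 2 (by decide)
  have hperm : ∀ s c, R.ρ (gs s) (f c) = f (app (gs s) c) := by
    intro s c
    rw [hf, hf, app_gs]
    show R.ρ (gs s) (∑ i, _) = ∑ i, _
    rw [map_sum]
    refine Fintype.sum_equiv (swp s) _ _ fun i => ?_
    have hsx : R.ρ (gs s) (X i) = X (swp s i) := by
      show R.ρ (gs s) (R.ρ (pis i) x0) = R.ρ (pis (swp s i)) x0
      rw [← R.ρ_mul, gs_pis, R.ρ_mul]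
      congr 1
      fin_cases s <;> fin_cases i <;> first | exact R.ρ_one x0 | exact hfix23 | exact hfix34
    rw [R.gs_psi, hsx]
    have hswp : ∀ s i, swp s (swp s i) = i := by decide +kernel
    simp only [hswp]
    exact R.psi_congr (natE_chi _) (sig_natY s i) (hX _) _
  -- the quadratic form
  have horth : ∀ i j, i ≠ j → ∀ a b, R.B (R.psi (natY i) (X i) a) (R.psi (natY j) (X j) b) = 0 :=
    fun i j hij a b => R.B_orth (natE_indep i j hij) (R.prE_psi (hX i) a) (R.prE_psi (hX j) b)
  have hqX : ∀ i, R.q (X i) = 1 := by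
    intro i
    by_contra h1
    have h0 : R.q (X i) = 0 := by
      have : ∀ a : ZMod 2, a ≠ 1 → a = 0 := by decide
      exact this _ h1
    have hline : ∀ a, R.q (R.psi (natY i) (X i) a) = 0 := fun a => by
      rw [Rep.psi]
      split_ifs
      exacts [R.q_zero, h0, (R.hq _ _).trans h0, (R.hq _ _).trans ((R.hq _ _).trans h0)]
    obtain ⟨w, hw⟩ := R.hnd (X i) (hXne i)
    obtain ⟨c, rfl⟩ := hFbij.2 w
    apply hw
    have hB : R.B (X i) (F c) = 0 := by
      show R.B (X i) (∑ j, _) = 0
      rw [show R.B (X i) (∑ j, R.psi (natY j) (X j) (c j)) =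
        ∑ j, R.B (X i) (R.psi (natY j) (X j) (c j)) from
          map_sum (AddMonoidHom.mk' (R.B (X i)) fun a b => R.B_add_right a b _) _ _]
      refine Finset.sum_eq_zero fun j _ => ?_
      have h1' := R.psi_one (natY i) (X i)
      by_cases hij : i = j
      · subst hij
        have h2 := R.q_add (R.psi (natY i) (X i) 1) (R.psi (natY i) (X i) (c i))
        rw [← R.psi_add (natE_chi i) (hX i), hline, hline, hline, h1', zero_add, zero_add] at h2
        exact h2.symm
      · rw [← h1']; exact horth i j hij _ _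
    rw [R.q_add, hB, add_zero]
  have hqline : ∀ i a, R.q (R.psi (natY i) (X i) a) = if a = 0 then 0 else 1 := fun i a => by
    rw [Rep.psi]
    split_ifs
    exacts [R.q_zero, hqX i, (R.hq _ _).trans (hqX i), (R.hq _ _).trans ((R.hq _ _).trans (hqX i))]
  have hquad : ∀ c, R.q (f c) = if hh c c = 0 then 0 else 1 := fun c => by
    rw [hf, ← parity_count, Fin.sum_univ_four]
    show R.q (∑ i, R.psi (natY i) (X i) (c i)) = _
    rw [Fin.sum_univ_four, R.q_add, R.q_add, R.q_add, R.B_add_left, R.B_add_left, R.B_add_left,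
      hqline, hqline, hqline, hqline, horth 0 1 (by decide), horth 0 2 (by decide),
      horth 1 2 (by decide), horth 0 3 (by decide), horth 1 3 (by decide), horth 2 3 (by decide)]
    simp only [add_zero]
  -- the transvection
  set T : V4 → V4 := fun c => f.symm (R.ρ tt (f c)) with hT_def
  have hTρ : ∀ c, R.ρ tt (f c) = f (T c) := fun c => (f.apply_symm_apply _).symm
  have hTadd : ∀ a b, T (a + b) = T a + T b := fun a b => by simp [T, map_add]
  have hTs : ∀ s c, T (fun i => c (swp s i)) = fun i => T c (swp s i) := fun s c => by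
    apply f.injective
    rw [← hTρ, ← app_gs, ← hperm, ← R.ρ_mul, tt_s, R.ρ_mul, hTρ, hperm, app_gs]
  set a := T (Pi.single 0 1) 0
  set b := T (Pi.single 0 om) 0
  set c := T (Pi.single 0 1) 1
  set d := T (Pi.single 0 om) 1
  have hcol : ∀ k : K, T (Pi.single 0 k) = tcand a b c d (Pi.single 0 k) := by
    intro k
    have e23 := hTs 1 (Pi.single 0 k)
    have e34 := hTs 2 (Pi.single 0 k)
    have f0 : ∀ s : Fin 3, swp s 0 = 0 →
        (fun i => (Pi.single 0 k : V4) (swp s i)) = Pi.single 0 k := fun s hs => by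
      funext i
      by_cases hi : i = 0
      · rw [hi, hs]
      · rw [Pi.single_eq_of_ne hi, Pi.single_eq_of_ne fun h =>
          hi ((swp s).injective (h.trans hs.symm))]
    rw [f0 1 (by decide)] at e23
    rw [f0 2 (by decide)] at e34
    have h12 : T (Pi.single 0 k) 2 = T (Pi.single 0 k) 1 := congrFun e23 2
    have h23 : T (Pi.single 0 k) 3 = T (Pi.single 0 k) 2 := congrFun e34 3
    have hP : T (Pi.single 0 k) 0 = lin2 a b k := lin2_of_add (fun k => T (Pi.single 0 k) 0)
      (fun x y => by simp only [Pi.single_add, hTadd, Pi.add_apply]) k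
    have hR : T (Pi.single 0 k) 1 = lin2 c d k := lin2_of_add (fun k => T (Pi.single 0 k) 1)
      (fun x y => by simp only [Pi.single_add, hTadd, Pi.add_apply]) k
    have z0 : ∀ p r : K, lin2 p r 0 = 0 := fun p r => (lin2_values p r).1
    funext i
    fin_cases i <;>
      simp [tcand, Fin.sum_univ_four, Pi.single_apply, z0, hP, hR, h12, h23]
  have hT : ∀ x, T x = tcand a b c d x := by
    intro x
    have tc_perm : ∀ (s : Fin 3) (y : V4),
        tcand a b c d (fun i => y (swp s i)) = fun i => tcand a b c d y (swp s i) := fun s y => by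
      funext i
      simp only [tcand]
      congr 1
      exact Fintype.sum_equiv (swp s) _ _ fun j => by simp [(swp s).injective.eq_iff]
    have hsing : ∀ (i : Fin 4) (k : K), T (Pi.single i k) = tcand a b c d (Pi.single i k) := by
      have mv : ∀ (s : Fin 3) (i j : Fin 4) (k : K), swp s j = i →
          T (Pi.single i k) = tcand a b c d (Pi.single i k) →
          T (Pi.single j k) = tcand a b c d (Pi.single j k) := fun s i j k hij hi => by
        have e : (Pi.single j k : V4) = fun l => (Pi.single i k : V4) (swp s l) := by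
          funext l
          by_cases hl : l = j
          · rw [hl, hij, Pi.single_eq_same, Pi.single_eq_same]
          · rw [Pi.single_eq_of_ne hl, Pi.single_eq_of_ne fun h =>
              hl ((swp s).injective (h.trans hij.symm))]
        rw [e, hTs, tc_perm, hi]
      intro i k
      have h1 := mv 0 0 1 k (by decide) (hcol k)
      have h2 := mv 1 1 2 k (by decide) h1
      fin_cases i
      exacts [hcol k, h1, h2, mv 2 2 3 k (by decide) h2]
    have hadd : ∀ p r : K, ∀ y w : K, lin2 p r (y + w) = lin2 p r y + lin2 p r w := by decide +kernel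
    have tc_add : ∀ y w, tcand a b c d (y + w) = tcand a b c d y + tcand a b c d w := fun y w => by
      funext i
      simp only [tcand, Pi.add_apply, hadd]
      rw [Fin.sum_univ_four, Fin.sum_univ_four, Fin.sum_univ_four]
      fin_cases i <;> simp <;> abel
    have hx : x = Pi.single 0 (x 0) + Pi.single 1 (x 1) + Pi.single 2 (x 2) + Pi.single 3 (x 3) := by
      funext i; fin_cases i <;> simp
    rw [hx]
    simp only [hTadd, tc_add, hsing]
  have hTT : ∀ x, T (T x) = x := fun x => by
    apply f.injective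
    rw [← hTρ, ← hTρ, ← R.ρ_mul, show tt * tt = 1 by decide +kernel, R.ρ_one]
  have hok : tcOK a b c d := by
    refine ⟨fun k hk => ?_, fun k => by rw [← hT, ← hT, hTT], fun i k => ?_⟩
    · have h1 := hquad (T (Pi.single 0 k))
      rw [← hTρ, R.hq, hquad, hT] at h1
      have hn : ∀ k : K, k ≠ 0 → hh (Pi.single 0 k : V4) (Pi.single 0 k) ≠ 0 := by decide +kernel
      rw [if_neg (hn k hk)] at h1
      rcases hh_self_cases' (tcand a b c d (Pi.single 0 k)) with e | e
      · rw [if_pos e] at h1; exact absurd h1 (by decide)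
      · exact e
    · set g := tt * dd (0, 0, 1) * (tt * dd (0, 1, 0)) * (tt * dd (1, 0, 0)) with hg_def
      have hg : ∀ w, R.ρ g (f w) = f (tcand a b c d (app (dd (0, 0, 1)) (tcand a b c d
          (app (dd (0, 1, 0)) (tcand a b c d (app (dd (1, 0, 0)) w)))))) := fun w => by
        rw [hg_def, R.ρ_mul, R.ρ_mul, R.ρ_mul, R.ρ_mul, R.ρ_mul, hdd, hTρ, hdd, hTρ, hdd, hTρ,
          hT, hT, hT]
      have hn : ∀ (n : ℕ) w, R.ρ (g ^ n) (f w) = f ((fun v => tcand a b c d (app (dd (0, 0, 1))
          (tcand a b c d (app (dd (0, 1, 0)) (tcand a b c d (app (dd (1, 0, 0)) v))))))^[n] w) := by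
        intro n
        induction n with
        | zero => intro w; rw [pow_zero, R.ρ_one]; rfl
        | succ n ih => intro w; rw [pow_succ, R.ρ_mul, hg, ih, Function.iterate_succ_apply]
      apply f.injective
      rw [← hn, hg_def, tt_rel, R.ρ_one]
  have htt : ∀ x, R.ρ tt (f x) = f (app tt x) := by
    rcases tcand_cases a b c d hok with ⟨ha, hb, hc, hd⟩ | ⟨ha, hb, hc, hd⟩
    · intro x; rw [hTρ, hT, ha, hb, hc, hd, tcand_nat]
    · exfalso
      refine tt_ne (R.injective R.hne fun w => ?_)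
      obtain ⟨x, rfl⟩ := f.surjective w
      rw [hTρ, hT, ha, hb, hc, hd, tcand_id]
  refine ⟨f, fun m => ?_, hquad⟩
  let S : Subgroup M4 :=
    { carrier := {m | ∀ x, R.ρ m (f x) = f (app m x)}
      one_mem' := fun x => by rw [R.ρ_one, app_one]
      mul_mem' := fun {m n} hm hn x => by rw [R.ρ_mul, hn, hm, app_mul]
      inv_mem' := fun {m} hm x => by
        conv_lhs => rw [← app_app_inv m x, ← hm, ← R.ρ_mul, inv_mul_cancel, R.ρ_one] }
  have : S = ⊤ := eq_top_of_gens S hdd hperm htt
  intro x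
  exact (show m ∈ S by rw [this]; trivial) x

end QRep

end Cfsg.Agent.U6Local
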