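import Cfsg.Agent.Lib.U6Local.Coord
import Cfsg.Agent.Lib.U6Local.Facts

/-!
# No other conjugate of `z` lies in `O₂(C(z))`

`Coord.conj_eq_of_mem`: in the natural case `z` is the only conjugate of itself in its core.
-/

set_option autoImplicit false

namespace Cfsg.Agent.U6Local

open LargeExtraspecial

variable {G : Type*} [Group G]

theorem k4_split : ∀ a b : K, a + b = 1 → a * a ^ 2 + b * b ^ 2 = 1 →
    (a = 1 ∧ b = 0) ∨ (a = 0 ∧ b = 1) := by decide +kernel

theorem perp_v0_cases : ∀ u : V4, hh u v0 = 0 → (∃ c : K, u = c • v0) ∨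
    ∃ x : V4, hh x v0 = 0 ∧ hh x u = om := by
  have key : ∀ u : V4, hh u v0 = 0 → (u = u 0 • v0) ∨
      (hh (if u 2 = 0 then ![0, 0, 0, om * u 3] else ![0, 0, om * u 2, 0]) v0 = 0 ∧
        hh (if u 2 = 0 then ![0, 0, 0, om * u 3] else ![0, 0, om * u 2, 0]) u = om) := by
    decide +kernel
  exact fun u hu => (key u hu).imp (fun h => ⟨_, h⟩) fun h => ⟨_, h⟩

/-- An element of the stabiliser of `v0` fixing `e₃` and `e₄` is `1` or `s12`. -/
theorem eq_of_fix_perp {a : M4} (h0 : app a v0 = v0) (h2 : app a ![0, 0, 1, 0] = ![0, 0, 1, 0])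
    (h3 : app a ![0, 0, 0, 1] = ![0, 0, 0, 1]) : a = 1 ∨ a = s12 := by
  set t := app a ![1, 0, 0, 0] with ht
  have t2 : t 2 = 0 := by
    have e := hh_app a ![1, 0, 0, 0] ![0, 0, 1, 0]
    rw [h2, ← ht] at e
    simpa [hh, Cfsg.hermForm, Fin.sum_univ_four] using e
  have t3 : t 3 = 0 := by
    have e := hh_app a ![1, 0, 0, 0] ![0, 0, 0, 1]
    rw [h3, ← ht] at e
    simpa [hh, Cfsg.hermForm, Fin.sum_univ_four] using e
  have t01 : t 0 + t 1 = 1 := by
    have e := hh_app a ![1, 0, 0, 0] v0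
    rw [h0, ← ht] at e
    simpa [hh, v0, Cfsg.hermForm, Fin.sum_univ_four] using e
  have tn : t 0 * t 0 ^ 2 + t 1 * t 1 ^ 2 = 1 := by
    have e := hh_app a ![1, 0, 0, 0] ![1, 0, 0, 0]
    rw [← ht] at e
    simpa [hh, Cfsg.hermForm, Fin.sum_univ_four, t2, t3] using e
  have e2 : app a ![0, 1, 0, 0] = v0 + t := by
    rw [ht]
    conv_rhs => rw [← h0, ← app_add]
    congr 1
    funext i; fin_cases i <;> simp [v0]
    exact (k4_add_self 1).symm
  rcases k4_split _ _ t01 tn with ⟨a0, a1⟩ | ⟨a0, a1⟩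
  · left
    refine ext_app fun i => ?_
    rw [app_one]
    fin_cases i
    · convert (show t = ![1, 0, 0, 0] by funext k; fin_cases k <;> simp [a0, a1, t2, t3]) using 2 <;>
        (first | rfl | (funext k; fin_cases k <;> rfl))
    · convert (show app a ![0, 1, 0, 0] = ![0, 1, 0, 0] by
        rw [e2]; funext k; fin_cases k <;> simp [v0, a0, a1, t2, t3, k4_add_self]) using 2 <;>
        (first | rfl | (funext k; fin_cases k <;> rfl))
    · convert h2 using 2 <;> (first | rfl | (funext k; fin_cases k <;> rfl))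
    · convert h3 using 2 <;> (first | rfl | (funext k; fin_cases k <;> rfl))
  · right
    have hs : ∀ i, app s12 (Pi.single i (1 : K)) =
        ![![0, 1, 0, 0], ![1, 0, 0, 0], ![0, 0, 1, 0], ![0, 0, 0, 1]] i := by decide +kernel
    refine ext_app fun i => ?_
    rw [hs]
    fin_cases i
    · convert (show t = ![0, 1, 0, 0] by funext k; fin_cases k <;> simp [a0, a1, t2, t3]) using 2 <;>
        (first | rfl | (funext k; fin_cases k <;> rfl))
    · convert (show app a ![0, 1, 0, 0] = ![1, 0, 0, 0] by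
        rw [e2]; funext k; fin_cases k <;> simp [v0, a0, a1, t2, t3, k4_add_self]) using 2 <;>
        (first | rfl | (funext k; fin_cases k <;> rfl))
    · convert h2 using 2 <;> (first | rfl | (funext k; fin_cases k <;> rfl))
    · convert h3 using 2 <;> (first | rfl | (funext k; fin_cases k <;> rfl))

theorem mul_scalar_eq_om : ∀ c : K, c ≠ 0 → ∃ m : K, m * c = om := by decide +kernel

/-- The key elements: `a` or its commutator with a radical element moves some vector by `ω v0`. -/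
theorem exists_good {a : M4} (h0 : app a v0 = v0) (h1 : a ≠ 1) (h12 : a ≠ s12) :
    (∃ x, hh x v0 = 0 ∧ app a x + x = om • v0) ∨
      ∃ r : M4, app r v0 = v0 ∧ ∃ x, hh x v0 = 0 ∧ app (a * r * a⁻¹ * r⁻¹) x + x = om • v0 := by
  -- the radical step
  have step : ∀ (r : M4) (w : V4), hh w v0 = 0 → app r v0 = v0 →
      (∀ x, hh x v0 = 0 → app r x = x + hh x w • v0) →
      (¬ ∃ c : K, app a w + w = c • v0) →
      ∃ x, hh x v0 = 0 ∧ app (a * r * a⁻¹ * r⁻¹) x + x = om • v0 := by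
    intro r w hw hr0 hr hu
    have hu0 : hh (app a w + w) v0 = 0 := by
      rw [hh_add_left, hw, add_zero, ← hw]
      conv_lhs => rw [← h0]
      exact hh_app a w v0
    rcases perp_v0_cases _ hu0 with hc | ⟨x, hx0, hxu⟩
    · exact absurd hc hu
    refine ⟨x, hx0, ?_⟩
    have hai0 : app a⁻¹ v0 = v0 := by
      conv_lhs => rw [← h0]
      exact app_inv_app a v0
    have hri : app r⁻¹ x = x + hh x w • v0 := by
      refine app_inj (g := r) ?_
      rw [app_app_inv, app_add, app_smul, hr0, hr x hx0, add_assoc, vec_add_self, add_zero]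
    have hax0 : hh (app a⁻¹ x) v0 = 0 := by
      rw [← hx0]
      conv_lhs => rw [← hai0]
      exact hh_app a⁻¹ x v0
    have hmove : hh (app a⁻¹ x) w = hh x (app a w) := by
      conv_rhs => rw [← app_app_inv a x]
      exact (hh_app a _ _).symm
    rw [app_mul, hri, app_add, app_smul]
    rw [app_mul, app_mul, app_mul, app_mul, hai0, hr0, h0, hr _ hax0, app_add, app_smul, h0,
      app_app_inv, hmove, ← hxu, hh_add_right, add_smul]
    abel_nf
    have h2 : ∀ y : V4, (2 : ℤ) • y = 0 := fun y => by rw [two_zsmul, vec_add_self]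
    simp [h2]
  have h3' : hh (![0, 0, 1, 0] : V4) v0 = 0 := by decide +kernel
  have h4' : hh (![0, 0, 0, 1] : V4) v0 = 0 := by decide +kernel
  by_cases hA : ∃ c : K, app a ![0, 0, 1, 0] + ![0, 0, 1, 0] = c • v0
  swap
  · exact Or.inr ⟨rE3, by decide +kernel, step rE3 _ h3' (by decide +kernel)
      (fun x hx => by rw [app_rE3, hx]; simp) hA⟩
  by_cases hB : ∃ c : K, app a ![0, 0, 0, 1] + ![0, 0, 0, 1] = c • v0
  swap
  · exact Or.inr ⟨rE4, by decide +kernel, step rE4 _ h4' (by decide +kernel)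
      (fun x hx => by rw [app_rE4, hx]; simp) hB⟩
  left
  have scale : ∀ (w : V4) (c : K), hh w v0 = 0 → c ≠ 0 → app a w + w = c • v0 →
      ∃ x, hh x v0 = 0 ∧ app a x + x = om • v0 := by
    intro w c hw hc e
    obtain ⟨m, hm⟩ := mul_scalar_eq_om c hc
    exact ⟨m • w, by rw [hh_smul_left, hw, mul_zero],
      by rw [app_smul, ← smul_add, e, smul_smul, hm]⟩
  obtain ⟨c, hc⟩ := hA
  obtain ⟨d, hd⟩ := hB
  by_cases hc0 : c = 0
  swap
  · exact scale _ c h3' hc0 hc
  by_cases hd0 : d = 0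
  swap
  · exact scale _ d h4' hd0 hd
  exfalso
  have fix : ∀ w : V4, app a w + w = 0 → app a w = w := fun w h => by
    calc app a w = app a w + (w + w) := by rw [vec_add_self, add_zero]
      _ = w := by rw [← add_assoc, h, zero_add]
  rcases eq_of_fix_perp h0 (fix _ (by rw [hc, hc0, zero_smul]))
    (fix _ (by rw [hd, hd0, zero_smul])) with e | e
  exacts [h1 e, h12 e]

namespace Coord

variable {z : G} (C : Coord z)
include C

theorem φ_ne_zero {y : G} (hy : y ∈ coreAt z) (h1 : y ≠ 1) (hz : y ≠ z) : C.φ y ≠ 0 :=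
  fun h => ((C.φ_ker y hy).1 h).elim h1 hz

theorem exists_not_commute_mem {y : G} (hy : y ∈ coreAt z) (h1 : y ≠ 1) (hz : y ≠ z) :
    ∃ q ∈ coreAt z, q * y * q⁻¹ = y * z := by
  obtain ⟨q, hq, hn⟩ := C.hub.exists_not_commute h1 hz
  exact ⟨q, hq, (C.hub.comm q hq y hy).resolve_left fun e =>
    hn (mul_inv_eq_iff_eq_mul.1 e).symm⟩

/-- The stabiliser of `φ y` lifts to the centralizer of `y` and `z`. -/
theorem exists_lift_fix {y : G} (hy : y ∈ coreAt z) (h1 : y ≠ 1) (hz : y ≠ z) {m : M4}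
    (hm : app m (C.φ y) = C.φ y) : ∃ c, Commute c z ∧ Commute c y ∧ C.P c = m := by
  obtain ⟨c, hc, rfl⟩ := C.P_surj m
  have hcy : C.φ (c * y * c⁻¹) = C.φ y := by rw [C.φ_conj c hc y hy, hm]
  rcases C.eq_or_of_φ hy (C.conj_mem hc hy) hcy.symm with e | e
  · exact ⟨c, hc, mul_inv_eq_iff_eq_mul.1 e, rfl⟩
  obtain ⟨q, hq, hqy⟩ := C.exists_not_commute_mem hy h1 hz
  refine ⟨q * c, (C.comm_z hq).mul_left hc, mul_inv_eq_iff_eq_mul.1 ?_, ?_⟩
  · calc q * c * y * (q * c)⁻¹ = q * (c * y * c⁻¹) * q⁻¹ := by group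
      _ = (q * y * q⁻¹) * (q * z * q⁻¹) := by rw [e]; group
      _ = y := by
        rw [hqy, (C.comm_z hq).eq, mul_inv_cancel_right, mul_assoc, C.z_sq, mul_one]
  · rw [C.P_mul _ _ (C.comm_z hq) hc, C.P_of_mem hq, one_mul]

variable [Finite G]

theorem noncommuting {y : G} (hy : y ∈ coreAt z) (hy2 : y * y = 1) :
    ∃ p₁ ∈ coreAt z, ∃ p₂ ∈ coreAt z, Commute p₁ y ∧ Commute p₂ y ∧ ¬ Commute p₁ p₂ :=
  C.hub.exists_noncommuting_pair (by rw [C.card_core]; norm_num) hy hy2

theorem conj_sq (g : G) : g * z * g⁻¹ * (g * z * g⁻¹) = 1 := by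
  rw [show g * z * g⁻¹ * (g * z * g⁻¹) = g * (z * z) * g⁻¹ by group, C.z_sq, mul_one, mul_inv_cancel]

/-- `z` in the core at a conjugate in the core of `z`. -/
theorem self_mem_conj' {g : G} (hy : g * z * g⁻¹ ∈ coreAt z) (hne : g * z * g⁻¹ ≠ z) :
    z ∈ (coreAt z).map (MulAut.conj g).toMonoidHom :=
  C.hub.self_mem_conj g hy hne (C.noncommuting hy (C.conj_sq g))

theorem false_of_conj_v0 {g : G} (hy : g * z * g⁻¹ ∈ coreAt z) (hne : g * z * g⁻¹ ≠ z)
    (hv : C.φ (g * z * g⁻¹) = v0) : False := by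
  classical
  set y := g * z * g⁻¹ with hy_def
  have hy1 : y ≠ 1 := fun e => C.z_ne (conj_eq_one_iff.1 e)
  set Q' := (coreAt z).map (MulAut.conj g).toMonoidHom with hQ'
  have h' : Hub Q' y := C.hub.conj g
  have hzQ : z ∈ Q' := C.self_mem_conj' hy hne
  have hzy : Commute z y := (C.comm_z hy).symm
  have hy2 : y * y = 1 := h'.sq
  -- an element of `C_{Q'}(z)` acting outside `{1, s12}`
  obtain ⟨b, hb, hbz, hb1, hb12⟩ :
      ∃ b ∈ Q', Commute b z ∧ C.P b ≠ 1 ∧ C.P b ≠ s12 := by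
    by_contra hno
    push Not at hno
    obtain ⟨k0, hk0, hk0z⟩ : ∃ k ∈ Q', ¬ Commute z k := h'.exists_not_commute C.z_ne hne.symm
    have hcosetB : ∀ w ∈ Q', Commute w z ∨ Commute (k0⁻¹ * w) z := by
      intro w hw
      by_cases hwz : Commute w z
      · exact Or.inl hwz
      right
      have e1 := (h'.comm k0 hk0 z hzQ).resolve_left fun e =>
        hk0z (mul_inv_eq_iff_eq_mul.1 e).symm
      have e2 := (h'.comm w hw z hzQ).resolve_left fun e => hwz (mul_inv_eq_iff_eq_mul.1 e)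
      refine mul_inv_eq_iff_eq_mul.1 ?_
      calc k0⁻¹ * w * z * (k0⁻¹ * w)⁻¹ = k0⁻¹ * (w * z * w⁻¹) * k0 := by group
        _ = k0⁻¹ * (k0 * z * k0⁻¹) * k0 := by rw [e1, e2]
        _ = z := by group
    obtain ⟨b0, hb0Q, hb0z, hb0⟩ : ∃ b0 ∈ Q', Commute b0 z ∧
        ∀ w ∈ Q', Commute w z → w ∈ coreAt z ∨ b0⁻¹ * w ∈ coreAt z := by
      by_cases hall : ∀ w ∈ Q', Commute w z → w ∈ coreAt z
      · exact ⟨1, one_mem _, Commute.one_left z, fun w hw hwz => Or.inl (hall w hw hwz)⟩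
      push Not at hall
      obtain ⟨b0, hb0Q, hb0z, hb0J⟩ := hall
      refine ⟨b0, hb0Q, hb0z, fun w hw hwz => ?_⟩
      by_cases hwJ : w ∈ coreAt z
      · exact Or.inl hwJ
      right
      have e1 := hno b0 hb0Q hb0z (fun e => hb0J ((C.P_ker b0 hb0z).1 e))
      have e2 := hno w hw hwz (fun e => hwJ ((C.P_ker w hwz).1 e))
      rw [← C.P_ker _ (hb0z.inv_left.mul_left hwz), C.P_mul _ _ hb0z.inv_left hwz, C.P_inv hb0z,
        e1, e2, inv_mul_cancel]
    have hE : ∀ e ∈ Q', ∀ f ∈ Q', e ∈ coreAt z → f ∈ coreAt z → Commute e f := by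
      intro e he f hf heJ hfJ
      rcases C.hub.comm e heJ f hfJ with r | r
      · exact mul_inv_eq_iff_eq_mul.1 r
      rcases h'.comm e he f hf with r' | r'
      · exact mul_inv_eq_iff_eq_mul.1 r'
      exact absurd (mul_left_cancel (r.symm.trans r')) hne.symm
    have hZB : ∀ e ∈ Q', e ∈ coreAt z → Commute e b0 → e ∈ ({1, y, z, y * z} : Finset G) := by
      intro e he heJ heb
      have hcl := h'.centralizer_of_self hzQ he fun w hw hwz => by
        rcases hb0 w hw hwz with hwJ | hwJ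
        · exact hE e he w hw heJ hwJ
        · have := heb.mul_right (hE e he _ (mul_mem (inv_mem hb0Q) hw) heJ hwJ)
          rwa [mul_inv_cancel_left] at this
      rcases mem_four hy2 C.z_sq hzy.symm hcl with r | r | r | r <;> simp [r]
    obtain ⟨e0, hcosetE⟩ : ∃ e0 : G, ∀ e ∈ Q', e ∈ coreAt z →
        e ∈ ({1, y, z, y * z} : Finset G) ∨ e0⁻¹ * e ∈ ({1, y, z, y * z} : Finset G) := by
      by_cases hall : ∀ e ∈ Q', e ∈ coreAt z → Commute e b0
      · exact ⟨1, fun e he heJ => Or.inl (hZB e he heJ (hall e he heJ))⟩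
      push Not at hall
      obtain ⟨e0, he0, he0J, he0b⟩ := hall
      refine ⟨e0, fun e he heJ => ?_⟩
      by_cases heb : Commute e b0
      · exact Or.inl (hZB e he heJ heb)
      refine Or.inr (hZB _ (mul_mem (inv_mem he0) he) (mul_mem (inv_mem he0J) heJ) ?_)
      have e1 := (h'.comm e0 he0 b0 hb0Q).resolve_left fun r => he0b (mul_inv_eq_iff_eq_mul.1 r)
      have e2 := (h'.comm e he b0 hb0Q).resolve_left fun r => heb (mul_inv_eq_iff_eq_mul.1 r)
      refine mul_inv_eq_iff_eq_mul.1 ?_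
      calc e0⁻¹ * e * b0 * (e0⁻¹ * e)⁻¹ = e0⁻¹ * (e * b0 * e⁻¹) * e0 := by group
        _ = e0⁻¹ * (e0 * b0 * e0⁻¹) * e0 := by rw [e1, e2]
        _ = b0 := by group
    set T : Finset G := ({1, y, z, y * z} : Finset G)
    set F : Finset G :=
      Finset.image₂ (· * ·) {1, k0} (Finset.image₂ (· * ·) {1, b0} (Finset.image₂ (· * ·) {1, e0} T))
    have hsub : ∀ w ∈ Q', w ∈ F := by
      intro w hw
      have hE' : ∀ e ∈ Q', e ∈ coreAt z → e ∈ Finset.image₂ (· * ·) {1, e0} T := fun e he heJ => by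
        rcases hcosetE e he heJ with r | r
        · exact Finset.mem_image₂.2 ⟨1, by simp, e, r, one_mul e⟩
        · exact Finset.mem_image₂.2 ⟨e0, by simp, _, r, mul_inv_cancel_left e0 e⟩
      have hB : ∀ v ∈ Q', Commute v z →
          v ∈ Finset.image₂ (· * ·) {1, b0} (Finset.image₂ (· * ·) {1, e0} T) := fun v hv hvz => by
        rcases hb0 v hv hvz with r | r
        · exact Finset.mem_image₂.2 ⟨1, by simp, v, hE' v hv r, one_mul v⟩
        · exact Finset.mem_image₂.2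
            ⟨b0, by simp, _, hE' _ (mul_mem (inv_mem hb0Q) hv) r, mul_inv_cancel_left b0 v⟩
      rcases hcosetB w hw with r | r
      · exact Finset.mem_image₂.2 ⟨1, by simp, w, hB w hw r, one_mul w⟩
      · exact Finset.mem_image₂.2
          ⟨k0, by simp, _, hB _ (mul_mem (inv_mem hk0) hw) r, mul_inv_cancel_left k0 w⟩
    have h512 : Nat.card ↥Q' = 512 := by
      rw [hQ', Subgroup.card_map_of_injective (MulAut.conj g).injective, C.card_core]
    have hle : Nat.card ↥Q' ≤ F.card := by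
      rw [← Nat.card_eq_finsetCard]
      exact Nat.card_le_card_of_injective (fun w : Q' => (⟨w, hsub w w.2⟩ : F))
        fun a b e => Subtype.ext (congrArg (fun u : F => (u : G)) e)
    have h2 : ∀ a : G, ({1, a} : Finset G).card ≤ 2 := fun a => Finset.card_le_two
    have hT : T.card ≤ 4 := Finset.card_le_four
    have hF : F.card ≤ 32 := by
      refine (Finset.card_image₂_le _ _ _).trans
        ((Nat.mul_le_mul (h2 k0) ?_).trans (le_of_eq (show 2 * 16 = 32 by norm_num)))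
      refine (Finset.card_image₂_le _ _ _).trans
        ((Nat.mul_le_mul (h2 b0) ?_).trans (le_of_eq (show 2 * 8 = 16 by norm_num)))
      exact (Finset.card_image₂_le _ _ _).trans (Nat.mul_le_mul (h2 e0) hT)
    omega
  set a := C.P b
  have hby : Commute b y := h'.central b hb
  have ha0 : app a v0 = v0 := by
    rw [← hv, ← C.φ_conj b hbz y hy, hby.eq, mul_inv_cancel_right]
  -- an element of the intersection over `ω v0`
  obtain ⟨p0, hp0J, hp0Q, hp0⟩ : ∃ p ∈ coreAt z, p ∈ Q' ∧ C.φ p = om • v0 := by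
    have take : ∀ w ∈ Q', Commute w z → ∀ x, hh x v0 = 0 → app (C.P w) x + x = om • v0 →
        ∃ p ∈ coreAt z, p ∈ Q' ∧ C.φ p = om • v0 := by
      intro w hw hwz x hx e
      obtain ⟨j, hj, rfl⟩ := C.φ_surj x
      have hjy : Commute j y := (C.commute_iff hj hy).2 (by rw [hv, bb_eq_trace, hx]; ring)
      refine ⟨w * j * w⁻¹ * j⁻¹, mul_mem (C.conj_mem hwz hj) (inv_mem hj), ?_,
        (C.φ_commutator hwz hj).trans e⟩
      rw [show w * j * w⁻¹ * j⁻¹ = w * (j * w⁻¹ * j⁻¹) by group]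
      exact mul_mem hw (h'.normalizes j hjy _ (inv_mem hw))
    rcases exists_good ha0 hb1 hb12 with ⟨x, hx, e⟩ | ⟨r, hr0, x, hx, e⟩
    · exact take b hb hbz x hx e
    obtain ⟨c, hcz, hcy, hcr⟩ := C.exists_lift_fix hy hy1 hne (m := r) (by rw [hv, hr0])
    have hmem : b * c * b⁻¹ * c⁻¹ ∈ Q' := by
      rw [show b * c * b⁻¹ * c⁻¹ = b * (c * b⁻¹ * c⁻¹) by group]
      exact mul_mem hb (h'.normalizes c hcy _ (inv_mem hb))
    refine take _ hmem (((hbz.mul_left hcz).mul_left hbz.inv_left).mul_left hcz.inv_left) x hx ?_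
    rwa [C.P_mul _ _ ((hbz.mul_left hcz).mul_left hbz.inv_left) hcz.inv_left,
      C.P_mul _ _ (hbz.mul_left hcz) hbz.inv_left, C.P_mul _ _ hbz hcz, C.P_inv hbz,
      C.P_inv hcz, hcr]
  -- a conjugate `p` of `z` there
  obtain ⟨c, hcz, hc⟩ : ∃ c, Commute c z ∧ app (C.P c) v0 = om • v0 := by
    obtain ⟨m, hm⟩ := exists_app_eq (u := om • v0) (by decide +kernel) (by decide +kernel)
    obtain ⟨c, hc, rfl⟩ := C.P_surj m
    exact ⟨c, hc, hm⟩
  set g' := c * g with hg'
  set p := g' * z * g'⁻¹ with hp_def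
  have hpy : p = c * y * c⁻¹ := by rw [hp_def, hg', hy_def]; group
  have hpJ : p ∈ coreAt z := hpy ▸ C.conj_mem hcz hy
  have hφp : C.φ p = om • v0 := by rw [hpy, C.φ_conj c hcz y hy, hv, hc]
  have hpQ : p ∈ Q' := by
    rcases C.eq_or_of_φ hp0J hpJ (hp0.trans hφp.symm) with e | e <;> rw [e]
    exacts [hp0Q, mul_mem hp0Q hzQ]
  have hpz : p ≠ z := fun e => by
    rw [e, C.φ_z] at hφp
    exact absurd hφp (by decide +kernel)
  have hyp : p ≠ y := fun e => by
    rw [e, hv] at hφp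
    exact absurd hφp (by decide +kernel)
  set Q'' := (coreAt z).map (MulAut.conj g').toMonoidHom with hQ''
  have h'' : Hub Q'' p := C.hub.conj g'
  have hzQ'' : z ∈ Q'' := C.self_mem_conj' hpJ hpz
  have hyQ'' : y ∈ Q'' := by
    have e : g' * g⁻¹ * y * (g' * g⁻¹)⁻¹ = p := by rw [hy_def, hp_def]; group
    have h1 := h'.self_mem_conj (g' * g⁻¹) (e.symm ▸ hpQ) (e.symm ▸ hyp)
      (e.symm ▸ h'.exists_noncommuting_pair
        (by rw [hQ', Subgroup.card_map_of_injective (MulAut.conj g).injective, C.card_core]; norm_num)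
        hpQ h''.sq)
    rw [mem_conj_iff, mem_conj_iff] at h1
    rw [mem_conj_iff]
    convert h1 using 1
    group
  obtain ⟨k, hk, hkz, hky⟩ : ∃ k ∈ Q'', Commute k z ∧ k * y * k⁻¹ = y * p := by
    by_contra hno
    push Not at hno
    have hcl := h''.centralizer_of_self hzQ'' hyQ'' fun w hw hwz => by
      rcases h''.comm w hw y hyQ'' with r | r
      · exact (mul_inv_eq_iff_eq_mul.1 r).symm
      · exact absurd r (hno w hw hwz)
    rcases mem_four h''.sq C.z_sq (C.comm_z hpJ) hcl with r | r | r | r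
    · exact hy1 r
    · exact hyp r.symm
    · exact hne r
    · have := congrArg C.φ r
      rw [hv, C.φ_mul_z hpJ, hφp] at this
      exact absurd this (by decide +kernel)
  have h1 : app (C.P k) v0 = v0 + om • v0 := by
    rw [← hv, ← C.φ_conj k hkz y hy, hky, C.φ_mul y hy p hpJ, hφp, hv]
  have h2 : app (C.P k) (om • v0) = om • v0 := by
    rw [← hφp, ← C.φ_conj k hkz p hpJ, (h''.central k hk).eq, mul_inv_cancel_right]
  rw [app_smul, h1] at h2
  exact absurd h2 (by decide +kernel)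

/-- `z` is the only conjugate of itself in `O₂(C(z))`. -/
theorem conj_eq_of_mem {g : G} (hy : g * z * g⁻¹ ∈ coreAt z) : g * z * g⁻¹ = z := by
  by_contra hne
  have hy1 : g * z * g⁻¹ ≠ 1 := fun e => C.z_ne (conj_eq_one_iff.1 e)
  obtain ⟨m, hm⟩ := exists_app_eq (C.φ_ne_zero hy hy1 hne)
    ((C.φ_sq _ hy).1 (C.conj_sq g))
  obtain ⟨c, hc, rfl⟩ := C.P_surj m
  have e : c⁻¹ * g * z * (c⁻¹ * g)⁻¹ = c⁻¹ * (g * z * g⁻¹) * c⁻¹⁻¹ := by group
  refine C.false_of_conj_v0 (g := c⁻¹ * g) ?_ ?_ ?_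
  · rw [e]; exact C.conj_mem hc.inv_left hy
  · intro h
    apply hne
    rw [e] at h
    calc g * z * g⁻¹ = c * (c⁻¹ * (g * z * g⁻¹) * c⁻¹⁻¹) * c⁻¹ := by group
      _ = z := by rw [h, hc.eq, mul_inv_cancel_right]
  · rw [e, C.φ_conj _ hc.inv_left _ hy, ← hm, C.P_inv hc, app_inv_app]

end Coord

end Cfsg.Agent.U6Local
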