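import Cfsg.Agent.Lib.U6Local.Degenerate
import Cfsg.Agent.Lib.LargeExtraspecial.SmithMain

/-!
# A plane of `O₂(C(z))` normalised by `C(z)`, fixed by a subgroup of index 2

`Plane.isolated`: then `z` is isolated. The transfers of the commutation flags make every conjugate
of `z` in `O₂(C(z))` equal to `z`; the transfer of the sign and the flags make every conjugate in
`C(z)` centralise the plane `Y`; and two conjugates centralising the planes of each other agree.
-/

set_option autoImplicit false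

namespace Cfsg.Agent.U6Local

open Subgroup LargeExtraspecial
open scoped commutatorElement

variable {G : Type*} [Group G]

/-- Elements of a Sylow 2-subgroup decide a homomorphism of exponent 2. -/
theorem exists_commute_value_ne [Finite G] {z : G} (h : Hub (coreAt z) z)
    (h2 : IsPGroup 2 ↥(coreAt z)) {A : Type*} [CommGroup A] (T : G →* A)
    (hsq : ∀ g, T g * T g = 1) (hT : ∃ g, T g ≠ 1) : ∃ c, Commute c z ∧ T c ≠ 1 := by
  have : Fact (Nat.Prime 2) := ⟨Nat.prime_two⟩
  obtain ⟨g, hg⟩ := hT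
  obtain ⟨S, hJS⟩ := h2.exists_le_sylow
  have hSz : ∀ c ∈ (S : Subgroup G), Commute c z := by
    have hSne : Nontrivial ↥(S : Subgroup G) :=
      ⟨⟨⟨z, hJS h.mem⟩, 1, fun e => h.ne_one (congrArg Subtype.val e)⟩⟩
    obtain ⟨⟨w, hw⟩, hw1⟩ := Subgroup.nontrivial_iff_exists_ne_one _ |>.1
      (S.isPGroup'.center_nontrivial) |>.imp fun w h => h
    have hwS : ∀ c ∈ (S : Subgroup G), Commute c w := fun c hc =>
      congrArg Subtype.val (Subgroup.mem_center_iff.1 hw1.1 ⟨c, hc⟩)
    rcases h.self w (fun q hq => (hwS q (hJS hq)).symm) with e | e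
    · exact absurd (Subtype.ext e) hw1.2
    · intro c hc; exact e ▸ hwS c hc
  by_contra hno
  push Not at hno
  have hle : (S : Subgroup G) ≤ T.ker := fun c hc => hno c (hSz c hc)
  have hodd : Odd T.ker.index := by
    rcases Nat.even_or_odd T.ker.index with h' | h'
    · exact absurd (h'.two_dvd.trans (Subgroup.index_dvd_of_le hle)) S.not_dvd_index
    · exact h'
  have h1 : T g ^ T.ker.index = 1 := by
    rw [← map_pow]; exact Subgroup.pow_index_mem T.ker g
  obtain ⟨k, hk⟩ := hodd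
  rw [hk, pow_succ, pow_mul, pow_two, hsq, one_pow, one_mul] at h1
  exact hg h1

/-- The setting. -/
structure Plane (z : G) where
  hub : Hub (coreAt z) z
  le_cent : coreAt z ≤ centralizer ({z} : Set G)
  isTwo : IsPGroup 2 ↥(coreAt z)
  card_core : 128 ≤ Nat.card ↥(coreAt z)
  /-- the subgroup fixing the plane pointwise modulo `z` -/
  H1 : Subgroup G
  H1_le : ∀ c ∈ H1, Commute c z
  core_le : coreAt z ≤ H1
  half : ∀ c d : G, Commute c z → Commute d z → c ∉ H1 → d ∉ H1 → c * d ∈ H1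
  outer : ∃ c, Commute c z ∧ c ∉ H1
  /-- the plane -/
  Y : Subgroup G
  Y_le : Y ≤ coreAt z
  z_mem : z ∈ Y
  card_Y : Nat.card ↥Y = 8
  /-- two noncommuting elements -/
  a : G
  b : G
  a_mem : a ∈ Y
  b_mem : b ∈ Y
  not_comm : ¬ Commute a b
  fix : ∀ c ∈ H1, ∀ y ∈ Y, c * y * c⁻¹ = y ∨ c * y * c⁻¹ = y * z
  norm : ∀ c, Commute c z → ∀ y ∈ Y, c * y * c⁻¹ ∈ Y
  perf : H1 ≤ Y ⊔ ⁅H1, H1⁆

namespace Plane

variable {z : G} (P : Plane z)
include P

theorem a_core : P.a ∈ coreAt z := P.Y_le P.a_mem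

theorem b_core : P.b ∈ coreAt z := P.Y_le P.b_mem

theorem moves {e d : G} (he : e ∈ coreAt z) (hd : d ∈ coreAt z) (hn : ¬ Commute e d) :
    e * d * e⁻¹ = d * z :=
  (P.hub.comm e he d hd).resolve_left fun r => hn (mul_inv_eq_iff_eq_mul.1 r)

/-- The derived group of `H1` centralises `Y`. -/
theorem derived_commute {d y : G} (hd : d ∈ ⁅P.H1, P.H1⁆) (hy : y ∈ P.Y) : Commute d y := by
  have hle : ⁅P.H1, P.H1⁆ ≤ centralizer ({y} : Set G) := by
    rw [Subgroup.commutator_le]
    intro c hc d hd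
    rw [mem_centralizer_singleton_iff]
    have hcd : ∀ {u v : G}, u ∈ P.H1 → v ∈ P.H1 →
        flagAt y (u * v) = flagAt y u * flagAt y v := fun hu hv =>
      flagAt_mul P.hub (P.fix _ hu y hy) (P.fix _ hv y hy) (P.H1_le _ hu)
    refine (flagAt_eq_one.1 ?_).eq
    rw [commutatorElement_def, hcd (mul_mem (mul_mem hc hd) (inv_mem hc)) (inv_mem hd),
      hcd (mul_mem hc hd) (inv_mem hc), hcd hc hd, mul_right_comm (flagAt y c) (flagAt y d),
      mul_assoc, ← hcd hc (inv_mem hc), ← hcd hd (inv_mem hd), mul_inv_cancel, mul_inv_cancel,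
      flagAt_eq_one.2 (Commute.one_left y), one_mul]
  exact mem_centralizer_singleton_iff.1 (hle hd)

variable [Finite G]

theorem center_Y {y : G} (hy : y ∈ P.Y) (ha : Commute y P.a) (hb : Commute y P.b) :
    y = 1 ∨ y = z := by
  classical
  let K1 : Subgroup G := P.Y ⊓ centralizer ({P.a} : Set G)
  let K2 : Subgroup G := K1 ⊓ centralizer ({P.b} : Set G)
  have hK1 : K1 < P.Y := inf_le_left.lt_of_ne fun e => P.not_comm
    (mem_centralizer_singleton_iff.1 (show P.b ∈ K1 from (congrArg (P.b ∈ ·) e).mpr P.b_mem).2).symm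
  have hK2 : K2 < K1 := inf_le_left.lt_of_ne fun e => P.not_comm
    (mem_centralizer_singleton_iff.1 (show P.a ∈ K2 from (congrArg (P.a ∈ ·) e).mpr
      ⟨P.a_mem, mem_centralizer_singleton_iff.2 rfl⟩).2)
  have d1 := Subgroup.card_dvd_of_le hK1.le
  have d2 := Subgroup.card_dvd_of_le hK2.le
  have n1 : Nat.card ↥K1 ≠ Nat.card ↥P.Y := fun e =>
    hK1.ne (Subgroup.eq_of_le_of_card_ge hK1.le e.ge)
  have n2 : Nat.card ↥K2 ≠ Nat.card ↥K1 := fun e =>
    hK2.ne (Subgroup.eq_of_le_of_card_ge hK2.le e.ge)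
  rw [P.card_Y] at d1 n1
  have hK1' : Nat.card ↥K1 ∣ 4 := by
    obtain ⟨i, hi, e⟩ := (Nat.dvd_prime_pow Nat.prime_two).1 (show _ ∣ 2 ^ 3 from d1)
    rw [e] at n1 ⊢
    have : i ≠ 3 := fun r => n1 (by rw [r]; norm_num)
    exact pow_dvd_pow 2 (show i ≤ 2 by omega)
  have hK2' : Nat.card ↥K2 ≤ 2 := by
    obtain ⟨i, hi, e⟩ := (Nat.dvd_prime_pow Nat.prime_two).1 (show _ ∣ 2 ^ 2 from hK1')
    obtain ⟨j, hj, e'⟩ := (Nat.dvd_prime_pow Nat.prime_two).1 (e ▸ d2)
    rw [e, e'] at n2
    have : j ≠ i := fun r => n2 (by rw [r])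
    rw [e']
    exact (Nat.pow_le_pow_right (by norm_num) (show j ≤ 1 by omega)).trans (by norm_num)
  have mem : ∀ {w : G}, w ∈ P.Y → Commute w P.a → Commute w P.b → w ∈ K2 := fun hw wa wb =>
    ⟨⟨hw, mem_centralizer_singleton_iff.2 wa.eq⟩, mem_centralizer_singleton_iff.2 wb.eq⟩
  by_contra hno
  push Not at hno
  let f : Fin 3 → ↥K2 :=
    ![1, ⟨z, mem P.z_mem (P.hub.central _ P.a_core).symm (P.hub.central _ P.b_core).symm⟩,
      ⟨y, mem hy ha hb⟩]
  have hf : Function.Injective f := by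
    intro i j e
    have e' := congrArg Subtype.val e
    fin_cases i <;> fin_cases j <;>
      simp [f, P.hub.ne_one, P.hub.ne_one.symm, hno.1, hno.1.symm, hno.2, hno.2.symm] at e' ⊢
  have := Nat.card_le_card_of_injective f hf
  simp at this
  omega

/-- Every element of the core is an element of the plane times one centralising the plane. -/
theorem exists_split {j : G} (hj : j ∈ coreAt z) :
    ∃ m ∈ P.Y, (m = 1 ∨ m = P.a ∨ m = P.b ∨ m = P.a * P.b) ∧
      Commute (m⁻¹ * j) P.a ∧ Commute (m⁻¹ * j) P.b := by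
  have key : ∀ {m e : G}, m ∈ coreAt z → e ∈ coreAt z → ¬ Commute m e → ¬ Commute j e →
      Commute (m⁻¹ * j) e := fun {m e} hm he hn hnj => mul_inv_eq_iff_eq_mul.1 (by
    calc m⁻¹ * j * e * (m⁻¹ * j)⁻¹ = m⁻¹ * (j * e * j⁻¹) * m := by group
      _ = m⁻¹ * (m * e * m⁻¹) * m := by rw [P.moves hj he hnj, P.moves hm he hn]
      _ = e := by group)
  have keep : ∀ {m e : G}, Commute m e → Commute j e → Commute (m⁻¹ * j) e :=
    fun hm hje => hm.inv_left.mul_left hje
  have nab : ¬ Commute (P.a * P.b) P.a := fun r => P.not_comm (by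
    have := ((Commute.refl P.a).inv_left.mul_left r)
    rw [inv_mul_cancel_left] at this; exact this.symm)
  have nab' : ¬ Commute (P.a * P.b) P.b := fun r => P.not_comm (by
    have := r.mul_left (Commute.refl P.b).inv_left
    rwa [mul_inv_cancel_right] at this)
  have hba : ¬ Commute P.b P.a := fun r => P.not_comm r.symm
  by_cases ha : Commute j P.a <;> by_cases hb : Commute j P.b
  · exact ⟨1, one_mem _, Or.inl rfl, by simpa using ha, by simpa using hb⟩
  · exact ⟨P.a, P.a_mem, Or.inr (Or.inl rfl), keep (Commute.refl _) ha, key P.a_core P.b_core P.not_comm hb⟩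
  · exact ⟨P.b, P.b_mem, Or.inr (Or.inr (Or.inl rfl)), key P.b_core P.a_core hba ha, keep (Commute.refl _) hb⟩
  · exact ⟨P.a * P.b, mul_mem P.a_mem P.b_mem, Or.inr (Or.inr (Or.inr rfl)),
      key (mul_mem P.a_core P.b_core) P.a_core nab ha,
      key (mul_mem P.a_core P.b_core) P.b_core nab' hb⟩

theorem commute_all {c : G} (hcz : Commute c z) (ha : Commute c P.a) (hb : Commute c P.b) :
    ∀ e ∈ P.Y, Commute c e := by
  intro e he
  obtain ⟨m, hm, hm', h1, h2⟩ := P.exists_split (P.Y_le he)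
  have hcm : Commute c m := by
    rcases hm' with rfl | rfl | rfl | rfl
    exacts [Commute.one_right c, ha, hb, ha.mul_right hb]
  have hcr : Commute c (m⁻¹ * e) := by
    rcases P.center_Y (mul_mem (inv_mem hm) he) h1 h2 with r | r <;> rw [r]
    exacts [Commute.one_right c, hcz]
  have := hcm.mul_right hcr
  rwa [mul_inv_cancel_left] at this

theorem exists_rep {e : G} (he : e ∈ P.Y) :
    ∃ m, (m = 1 ∨ m = P.a ∨ m = P.b ∨ m = P.a * P.b) ∧ (e = m ∨ e = m * z) := by
  obtain ⟨m, hm, hm', h1, h2⟩ := P.exists_split (P.Y_le he)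
  refine ⟨m, hm', ?_⟩
  rcases P.center_Y (mul_mem (inv_mem hm) he) h1 h2 with r | r
  · exact Or.inl (inv_mul_eq_one.1 r).symm
  · exact Or.inr (inv_mul_eq_iff_eq_mul.1 r)

theorem exists_partner {u : G} (hu : u ∈ P.Y) (h1 : u ≠ 1) (hz : u ≠ z) :
    ∃ e ∈ P.Y, ¬ Commute u e := by
  by_contra hno
  push Not at hno
  exact (P.center_Y hu (hno _ P.a_mem) (hno _ P.b_mem)).elim h1 hz

/-- An element of `H1` is an element of the plane times one centralising it. -/
theorem exists_split_H1 {x : G} (hx : x ∈ P.H1) :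
    ∃ y ∈ P.Y, y⁻¹ * x ∈ P.H1 ∧ (∀ e ∈ P.Y, Commute (y⁻¹ * x) e) ∧
      ∀ {A : Type} [CommGroup A] (T : G →* A), T x = T y := by
  let S : Subgroup G :=
    { carrier := {x | ∃ y ∈ P.Y, y⁻¹ * x ∈ P.H1 ∧ (∀ e ∈ P.Y, Commute (y⁻¹ * x) e) ∧
        ∀ {A : Type} [CommGroup A] (T : G →* A), T x = T y}
      one_mem' := ⟨1, one_mem _, by simp [one_mem], fun e _ => by simp,
        fun {A} _ T => rfl⟩
      mul_mem' := by
        rintro x w ⟨y, hy, c1, c2, c3⟩ ⟨v, hv, d1, d2, d3⟩
        have e : (y * v)⁻¹ * (x * w) = (y⁻¹ * x) * (v⁻¹ * w) := by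
          calc (y * v)⁻¹ * (x * w) = v⁻¹ * ((y⁻¹ * x) * v) * (v⁻¹ * w) := by group
            _ = _ := by rw [(c2 v hv).eq, inv_mul_cancel_left]
        exact ⟨y * v, mul_mem hy hv, e ▸ mul_mem c1 d1, fun u hu => e ▸ (c2 u hu).mul_left (d2 u hu),
          fun {A} _ T => by rw [map_mul, map_mul, c3 T, d3 T]⟩
      inv_mem' := by
        rintro x ⟨y, hy, c1, c2, c3⟩
        have e : y⁻¹⁻¹ * x⁻¹ = (y⁻¹ * x)⁻¹ := by
          calc y⁻¹⁻¹ * x⁻¹ = y * ((y⁻¹ * x)⁻¹ * y⁻¹) := by group
            _ = y * (y⁻¹ * (y⁻¹ * x)⁻¹) := by rw [((c2 y hy).inv_left.inv_right).eq]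
            _ = _ := by rw [mul_inv_cancel_left]
        exact ⟨y⁻¹, inv_mem hy, e ▸ inv_mem c1, fun u hu => e ▸ (c2 u hu).inv_left,
          fun {A} _ T => by rw [map_inv, map_inv, c3 T]⟩ }
  have hY : P.Y ≤ S := fun y hy => ⟨y, hy, by simp [one_mem], fun e _ => by simp, fun {A} _ T => rfl⟩
  have hD : ⁅P.H1, P.H1⁆ ≤ S := fun d hd => ⟨1, one_mem _, by
      simpa using Subgroup.commutator_le_self P.H1 hd,
    fun e he => by simpa using P.derived_commute hd he, fun {A} _ T => by
      have hc : ∀ g k : G, T ⁅g, k⁆ = 1 := fun g k => by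
        simp [commutatorElement_def, mul_comm (T g)]
      have : ⁅P.H1, P.H1⁆ ≤ T.ker := Subgroup.commutator_le.2 fun g _ k _ => hc g k
      rw [map_one]; exact this hd⟩
  exact (P.perf.trans (sup_le hY hD)) hx

/-- Homomorphisms into abelian groups kill `z`. -/
theorem map_z {A : Type*} [CommGroup A] (T : G →* A) : T z = 1 := by
  have e := congrArg T (P.moves P.a_core P.b_core P.not_comm)
  rw [map_mul, map_mul, map_mul, map_inv, mul_comm (T P.a), mul_inv_cancel_right] at e
  exact mul_eq_left.mp e.symm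

/-- They kill the centraliser of the plane in `H1`. -/
theorem map_eq_one {A : Type} [CommGroup A] (T : G →* A) {x : G} (hx : x ∈ P.H1)
    (hc : ∀ e ∈ P.Y, Commute x e) : T x = 1 := by
  obtain ⟨y, hy, -, c2, c3⟩ := P.exists_split_H1 hx
  have hyc : ∀ e ∈ P.Y, Commute y e := fun e he => by
    have := (hc e he).mul_left (c2 e he).inv_left
    rwa [show x * (y⁻¹ * x)⁻¹ = y by group] at this
  rw [c3 T]
  rcases P.center_Y hy (hyc _ P.a_mem) (hyc _ P.b_mem) with r | r <;> rw [r]
  exacts [map_one T, P.map_z T]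

/-- A square root of `z` centralising the plane. -/
theorem exists_root : ∃ w ∈ coreAt z, w * w = z ∧ ∀ e ∈ P.Y, Commute w e := by
  classical
  by_contra hno
  push Not at hno
  have inv : ∀ w ∈ coreAt z, (∀ e ∈ P.Y, Commute w e) → w * w = 1 := fun w hw hc =>
    (P.hub.sq_cases w hw).resolve_right fun r => by
      obtain ⟨e, he, hn⟩ := hno w hw r
      exact hn (hc e he)
  have com : ∀ p ∈ coreAt z, ∀ q ∈ coreAt z, (∀ e ∈ P.Y, Commute p e) →
      (∀ e ∈ P.Y, Commute q e) → Commute p q := fun p hp q hq cp cq => by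
    have i1 := inv p hp cp
    have i2 := inv q hq cq
    have i3 := inv (p * q) (mul_mem hp hq) fun e he => (cp e he).mul_left (cq e he)
    calc p * q = (p * q)⁻¹ := (inv_eq_of_mul_eq_one_right i3).symm
      _ = q * p := by
        rw [mul_inv_rev, inv_eq_of_mul_eq_one_right i1, inv_eq_of_mul_eq_one_right i2]
  have hle : coreAt z ≤ P.Y := by
    intro j hj
    obtain ⟨m, hm, -, h1, h2⟩ := P.exists_split hj
    have hrJ : m⁻¹ * j ∈ coreAt z := mul_mem (inv_mem (P.Y_le hm)) hj
    have hr := P.commute_all (P.hub.central _ hrJ) h1 h2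
    have hrY : m⁻¹ * j ∈ P.Y := by
      rcases P.hub.self (m⁻¹ * j) (fun q hq => by
        obtain ⟨m', hm', -, h1', h2'⟩ := P.exists_split hq
        have hq' : m'⁻¹ * q ∈ coreAt z := mul_mem (inv_mem (P.Y_le hm')) hq
        have := (hr m' hm').mul_right
          (com _ hrJ _ hq' hr (P.commute_all (P.hub.central _ hq') h1' h2'))
        rwa [mul_inv_cancel_left] at this) with r | r <;> rw [r]
      exacts [one_mem _, P.z_mem]
    have := mul_mem hm hrY
    rwa [mul_inv_cancel_left] at this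
  have h1 := Subgroup.card_le_of_le hle
  have h2 := P.card_core
  rw [P.card_Y] at h1
  omega

/-- Conjugates of `z` in the core centralise the plane. -/
theorem commute_of_core {g : G} (hy : g * z * g⁻¹ ∈ coreAt z) {e : G} (he : e ∈ P.Y) :
    Commute (g * z * g⁻¹) e := by
  classical
  -- the image of `z` at the other end
  have key : ∀ g : G, g * z * g⁻¹ ∈ coreAt z → g * z * g⁻¹ ≠ z → ∀ e ∈ P.Y,
      Commute (g⁻¹ * z * g) e := by
    intro g hy hne e he
    set y := g * z * g⁻¹ with hy_def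
    let Cy : Subgroup G := coreAt z ⊓ centralizer ({y} : Set G)
    let Hg : Subgroup G := P.H1.map (MulAut.conj g).toMonoidHom
    have inHg : ∀ {w : G}, w ∈ Hg ↔ g⁻¹ * w * g ∈ P.H1 := fun {w} => mem_conj_iff
    have backz : ∀ {w : G}, Commute w y → Commute (g⁻¹ * w * g) z := fun {w} hw => by
      have := hw.map (MulAut.conj g⁻¹).toMonoidHom
      simpa [y, mul_assoc] using this
    have mCy : ∀ {w : G}, w ∈ Cy ↔ w ∈ coreAt z ∧ Commute w y := fun {w} =>
      Subgroup.mem_inf.trans (and_congr_right fun _ => mem_centralizer_singleton_iff)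
    have halfC : ∀ w ∈ Cy, ∀ v ∈ Cy, w ∉ Hg → v ∉ Hg → w⁻¹ * v ∈ Hg := by
      intro w hw v hv nw nv
      rw [inHg] at nw nv ⊢
      have := P.half _ _ (backz (mCy.1 hw).2).inv_left (backz (mCy.1 hv).2)
        (fun r => nw (by simpa using inv_mem r)) nv
      convert this using 1
      group
    suffices hpair : ∃ p ∈ Cy ⊓ Hg, ∃ q ∈ Cy ⊓ Hg, ¬ Commute p q by
      obtain ⟨p, hp, q, hq, hn⟩ := hpair
      refine P.derived_commute ?_ he
      have e1 : g⁻¹ * z * g = ⁅g⁻¹ * p * g, g⁻¹ * q * g⁆ := by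
        have e2 := P.moves hp.1.1 hq.1.1 hn
        calc g⁻¹ * z * g = g⁻¹ * (q * z * q⁻¹) * g := by
              rw [(P.hub.central q hq.1.1).eq, mul_inv_cancel_right]
          _ = g⁻¹ * ((p * q * p⁻¹) * q⁻¹) * g := by rw [e2]
          _ = _ := by rw [commutatorElement_def]; group
      rw [e1]
      exact Subgroup.commutator_mem_commutator (inHg.1 hp.2) (inHg.1 hq.2)
    by_contra hno
    push Not at hno
    have c1 : Nat.card ↥(coreAt z) ≤ 2 * Nat.card ↥Cy := by
      obtain ⟨q0, hq0, hn⟩ :=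
        P.hub.exists_not_commute (fun r => P.hub.ne_one (conj_eq_one_iff.1 r)) hne
      refine card_le_two_mul (y := q0) fun w hw => ?_
      by_cases hwy : Commute w y
      · exact Or.inl (mCy.2 ⟨hw, hwy⟩)
      refine Or.inr (mCy.2 ⟨mul_mem (inv_mem hq0) hw, mul_inv_eq_iff_eq_mul.1 ?_⟩)
      calc q0⁻¹ * w * y * (q0⁻¹ * w)⁻¹ = q0⁻¹ * (w * y * w⁻¹) * q0 := by group
        _ = q0⁻¹ * (q0 * y * q0⁻¹) * q0 := by
          rw [P.moves hw hy hwy, P.moves hq0 hy fun r => hn r.symm]
        _ = y := by group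
    by_cases hall : Cy ≤ Hg
    · obtain ⟨p, hp, q, hq, hp', hq', hn⟩ :=
        P.hub.exists_noncommuting_pair (by have := P.card_core; omega) hy (P.hub.conj g).sq
      exact hn (hno p ⟨mCy.2 ⟨hp, hp'⟩, hall (mCy.2 ⟨hp, hp'⟩)⟩ q
        ⟨mCy.2 ⟨hq, hq'⟩, hall (mCy.2 ⟨hq, hq'⟩)⟩)
    obtain ⟨a0, ha0, ha0'⟩ := SetLike.not_le_iff_exists.1 hall
    have c2 : Nat.card ↥Cy ≤ 2 * Nat.card ↥(Cy ⊓ Hg : Subgroup G) := by
      refine card_le_two_mul (y := a0) fun w hw => ?_
      by_cases hwH : w ∈ Hg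
      · exact Or.inl ⟨hw, hwH⟩
      · exact Or.inr ⟨Cy.mul_mem (Cy.inv_mem ha0) hw, halfC a0 ha0 w hw ha0' hwH⟩
    let K1 : Subgroup G := Cy ⊓ Hg ⊓ centralizer ({a0} : Set G)
    have c3 : Nat.card ↥(Cy ⊓ Hg : Subgroup G) ≤ 2 * Nat.card ↥K1 := by
      by_cases h0 : ∀ w ∈ Cy ⊓ Hg, Commute w a0
      · have := Subgroup.card_le_of_le (show Cy ⊓ Hg ≤ K1 from fun w hw =>
          ⟨hw, mem_centralizer_singleton_iff.2 (h0 w hw).eq⟩)
        omega
      push Not at h0
      obtain ⟨q0, hq0, hn⟩ := h0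
      refine card_le_two_mul (y := q0) fun w hw => ?_
      by_cases hwa : Commute w a0
      · exact Or.inl ⟨hw, mem_centralizer_singleton_iff.2 hwa.eq⟩
      refine Or.inr ⟨(Cy ⊓ Hg).mul_mem ((Cy ⊓ Hg).inv_mem hq0) hw, mem_centralizer_singleton_iff.2
        (mul_inv_eq_iff_eq_mul.1 ?_)⟩
      calc q0⁻¹ * w * a0 * (q0⁻¹ * w)⁻¹ = q0⁻¹ * (w * a0 * w⁻¹) * q0 := by group
        _ = q0⁻¹ * (q0 * a0 * q0⁻¹) * q0 := by
          rw [P.moves hw.1.1 ha0.1 hwa, P.moves hq0.1.1 ha0.1 hn]
        _ = a0 := by group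
    have hsub : ∀ w ∈ K1, w ∈ ({1, z, y, z * y} : Finset G) := by
      intro w hw
      have hcl := P.hub.centralizer_of_self hy hw.1.1.1 fun p hp hpy => by
        by_cases hpH : p ∈ Hg
        · exact hno w hw.1 p ⟨mCy.2 ⟨hp, hpy⟩, hpH⟩
        · have := (show Commute w a0 from mem_centralizer_singleton_iff.1 hw.2).mul_right
            (hno w hw.1 (a0⁻¹ * p) ⟨Cy.mul_mem (Cy.inv_mem ha0) (mCy.2 ⟨hp, hpy⟩),
              halfC a0 ha0 p (mCy.2 ⟨hp, hpy⟩) ha0' hpH⟩)
          rwa [mul_inv_cancel_left] at this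
      rcases mem_four P.hub.sq (P.hub.conj g).sq (P.hub.central y hy).symm hcl with r | r | r | r <;>
        simp [r, y]
    have c4 : Nat.card ↥K1 ≤ 4 := by
      refine le_trans (Nat.card_le_card_of_injective
        (fun w : ↥K1 => (⟨(w : G), hsub w w.2⟩ : ({1, z, y, z * y} : Finset G)))
        fun u v r => Subtype.ext (congrArg (fun t : ({1, z, y, z * y} : Finset G) => (t : G)) r)) ?_
      rw [Nat.card_eq_finsetCard]
      exact Finset.card_le_four
    have := P.card_core
    omega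
  by_cases hne : g * z * g⁻¹ = z
  · rw [hne]; exact (P.hub.central e (P.Y_le he)).symm
  have hz' := P.hub.self_mem_conj g hy hne
    (P.hub.exists_noncommuting_pair (by have := P.card_core; omega) hy (P.hub.conj g).sq)
  have hne' : g⁻¹ * z * g⁻¹⁻¹ ≠ z := fun r => hne (by
    calc g * z * g⁻¹ = g * (g⁻¹ * z * g⁻¹⁻¹) * g⁻¹ := by rw [r]
      _ = z := by group)
  have := key g⁻¹ (by rw [mem_conj_iff] at hz'; simpa using hz') hne' e he
  simpa using this

/-- A conjugate of `z` in the core that does not centralise an element of the plane: none. -/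
theorem not_conj {u e : G} (hu : u ∈ coreAt z) (he : e ∈ P.Y) (hn : ¬ Commute u e) (x : G) :
    x * z * x⁻¹ ≠ z * u := by
  intro hx
  have := P.commute_of_core (g := x) (hx ▸ mul_mem P.hub.mem hu) he
  rw [hx] at this
  apply hn
  have h2 := (P.hub.central e (P.Y_le he)).symm.inv_left.mul_left this
  rwa [inv_mul_cancel_left] at h2

/-- The transfer agrees with a homomorphism of exponent 2 at the elements of the plane. -/
theorem transfer_plane {A : Type} [CommGroup A] (χ : ↥(centralizer ({z} : Set G)) →* A)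
    (hχz : extOne χ z = 1) (hχw : ∀ w ∈ coreAt z, (∀ e ∈ P.Y, Commute w e) → extOne χ w = 1)
    {u : G} (hu : u ∈ P.Y) (hu1 : u ≠ 1) (huz : u ≠ z) :
    MonoidHom.transfer χ u = extOne χ u := by
  obtain ⟨e, he, hn⟩ := P.exists_partner hu hu1 huz
  have inv : ∀ {v : G}, v ∈ coreAt z → v * v = 1 → ¬ Commute v e →
      MonoidHom.transfer χ v = extOne χ v := fun {v} hv hv2 hve => by
    refine transfer_eq_of_not_conj P.hub P.le_cent P.isTwo χ hχz hv hv2 (fun r => hve ?_)
      (fun r => hve ?_) (P.not_conj hv he hve)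
    · rw [r]; exact Commute.one_left e
    · rw [r]; exact (P.hub.central e (P.Y_le he)).symm
  have huJ := P.Y_le hu
  rcases P.hub.sq_cases u huJ with r | r
  · exact inv huJ r hn
  obtain ⟨w, hw, hw2, hwc⟩ := P.exists_root
  have hv2 : u * w * (u * w) = 1 := by
    rw [(hwc u hu).mul_mul_mul_comm, r, hw2, P.hub.sq]
  have hT := inv (mul_mem huJ hw) hv2 fun r' => hn (by
    have := r'.mul_left (hwc e he).inv_left
    rwa [mul_inv_cancel_right] at this)
  rwa [map_mul, P.map_eq_one (MonoidHom.transfer χ) (P.core_le hw) hwc, mul_one,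
    extOne_mul χ (P.le_cent huJ) (P.le_cent hw), hχw w hw hwc, mul_one] at hT

/-- The flag of a vector of the plane fixed modulo `z` by `C(z)`, as a homomorphism. -/
theorem exists_flag {f : G} (hf : f ∈ P.Y)
    (hff : ∀ c, Commute c z → c * f * c⁻¹ = f ∨ c * f * c⁻¹ = f * z) :
    ∃ T : G →* Multiplicative (ZMod 2), (∀ x, T x * T x = 1) ∧
      ∀ u ∈ P.Y, ¬ Commute u f → T u ≠ 1 := by
  let χ : ↥(centralizer ({z} : Set G)) →* Multiplicative (ZMod 2) :=
    MonoidHom.mk' (fun c => flagAt f c.1) fun c d =>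
      flagAt_mul P.hub (hff _ (mem_centralizer_singleton_iff.1 c.2))
        (hff _ (mem_centralizer_singleton_iff.1 d.2)) (mem_centralizer_singleton_iff.1 c.2)
  have val : ∀ {c : G}, Commute c z → extOne χ c = flagAt f c := fun {c} hc => by
    rw [extOne_of_mem χ (mem_centralizer_singleton_iff.2 hc.eq)]; rfl
  refine ⟨MonoidHom.transfer χ, fun x => ?_, fun u hu hn => ?_⟩
  · exact (by decide : ∀ v : Multiplicative (ZMod 2), v * v = 1) _
  have huz : Commute u z := P.hub.central u (P.Y_le hu)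
  rw [P.transfer_plane χ ?_ ?_ hu (fun r => hn (by rw [r]; exact Commute.one_left f))
    (fun r => hn (by rw [r]; exact (P.hub.central f (P.Y_le hf)).symm)), val huz]
  · exact fun r => hn (flagAt_eq_one.1 r)
  · rw [val (Commute.refl z)]; exact flagAt_eq_one.2 (P.hub.central f (P.Y_le hf)).symm
  · intro w hw hwc
    rw [val (P.hub.central w hw)]; exact flagAt_eq_one.2 (hwc f hf)

/-- Either all of `C(z)` fixes the plane modulo `z`, or a fixed vector is a product of two
elements of the plane exchanged by the outer part. -/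
theorem fixed_cases :
    (∀ c, Commute c z → ∀ y ∈ P.Y, c * y * c⁻¹ = y ∨ c * y * c⁻¹ = y * z) ∨
      ((∀ c, Commute c z → (∀ y ∈ P.Y, Commute c y) → c ∈ P.H1) ∧
        ∃ f ∈ P.Y, ∃ e ∈ P.Y, ∃ c0, Commute c0 z ∧ f = c0 * e * c0⁻¹ * e ∧ f * f = z ∧
          ∀ c, Commute c z → c * f * c⁻¹ = f ∨ c * f * c⁻¹ = f * z) := by
  refine or_iff_not_imp_left.2 fun hno => ?_
  push Not at hno
  obtain ⟨c0, hc0, e, he, h1, h2⟩ := hno
  have hzc : ∀ {c : G}, Commute c z → c * z * c⁻¹ = z := fun hc => by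
    rw [hc.eq, mul_inv_cancel_right]
  have hc0n : c0 ∉ P.H1 := fun r => (P.fix _ r e he).elim h1 h2
  refine ⟨fun c hc hcY => by_contra fun hcn => ?_, ?_⟩
  · have hm := P.half _ _ hc0 hc hc0n hcn
    have e1 : c0 * e * c0⁻¹ = (c0 * c) * e * (c0 * c)⁻¹ := by
      rw [show (c0 * c) * e * (c0 * c)⁻¹ = c0 * (c * e * c⁻¹) * c0⁻¹ by group, (hcY e he).eq,
        mul_inv_cancel_right]
    rw [e1] at h1 h2
    exact (P.fix _ hm e he).elim h1 h2
  set e' := c0 * e * c0⁻¹ with he'_def
  have he' : e' ∈ P.Y := P.norm c0 hc0 e he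
  have heJ := P.Y_le he
  have he'J := P.Y_le he'
  have he1 : e ≠ 1 := fun r => h1 (by rw [he'_def, r]; group)
  have hez : e ≠ z := fun r => h1 (by rw [he'_def, r, hzc hc0])
  have e'sq : e' * e' = e * e := by
    rw [show e' * e' = c0 * (e * e) * c0⁻¹ by rw [he'_def]; group]
    rcases P.hub.sq_cases e heJ with r | r <;> rw [r]
    exacts [by group, hzc hc0]
  have hne : ¬ Commute e' e := by
    intro hc
    have he'1 : e' ≠ 1 := fun r => he1 (conj_eq_one_iff.1 r)
    have he'z : e' ≠ z := fun r => hez (by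
      calc e = c0⁻¹ * e' * c0 := by rw [he'_def]; group
        _ = z := by rw [r, mul_assoc, ← hc0.eq, inv_mul_cancel_left])
    obtain ⟨m, hm, hem⟩ := P.exists_rep he
    obtain ⟨m', hm', hem'⟩ := P.exists_rep he'
    have hc' : Commute m' m := by
      have strip : ∀ {m e w : G}, m ∈ coreAt z → w ∈ coreAt z → (e = m ∨ e = m * z) →
          Commute e w → Commute m w := fun {m e w} hmJ hwJ r hw => by
        rcases r with r | r
        · exact r ▸ hw
        · have := hw.mul_left (P.hub.central w hwJ).symm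
          rwa [r, mul_assoc, P.hub.sq, mul_one] at this
      have mJ : ∀ {m : G}, (m = 1 ∨ m = P.a ∨ m = P.b ∨ m = P.a * P.b) → m ∈ coreAt z := by
        rintro m (rfl | rfl | rfl | rfl)
        exacts [one_mem _, P.a_core, P.b_core, mul_mem P.a_core P.b_core]
      exact (strip (mJ hm) (mJ hm') hem (strip (mJ hm') heJ hem' hc).symm).symm
    have n1 : ¬ Commute (P.a * P.b) P.a := fun r => P.not_comm (by
      have := (Commute.refl P.a).inv_left.mul_left r
      rw [inv_mul_cancel_left] at this; exact this.symm)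
    have n2 : ¬ Commute (P.a * P.b) P.b := fun r => P.not_comm (by
      have := r.mul_left (Commute.refl P.b).inv_left
      rwa [mul_inv_cancel_right] at this)
    have m1 : m ≠ 1 := fun r => by
      rcases hem with r' | r' <;> rw [r] at r'
      exacts [he1 r', hez (by simpa using r')]
    have m1' : m' ≠ 1 := fun r => by
      rcases hem' with r' | r' <;> rw [r] at r'
      exacts [he'1 r', he'z (by simpa using r')]
    have hmm : m' = m := by
      rcases hm with rfl | rfl | rfl | rfl <;> rcases hm' with rfl | rfl | rfl | rfl <;>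
        first
        | rfl
        | exact absurd rfl m1
        | exact absurd rfl m1'
        | exact absurd hc' P.not_comm
        | exact absurd hc'.symm P.not_comm
        | exact absurd hc' n1
        | exact absurd hc'.symm n1
        | exact absurd hc' n2
        | exact absurd hc'.symm n2
    subst hmm
    rcases hem with r | r <;> rcases hem' with r' | r'
    · exact h1 (r'.trans r.symm)
    · exact h2 (by rw [r', r])
    · exact h2 (by rw [r', r, mul_assoc, P.hub.sq, mul_one])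
    · exact h1 (r'.trans r.symm)
  have hmv := P.moves heJ he'J fun r => hne r.symm
  refine ⟨e' * e, mul_mem he' he, e, he, c0, hc0, rfl, ?_, ?_⟩
  · calc e' * e * (e' * e) = e' * (e * e' * e⁻¹) * (e * e) := by group
      _ = z := by
        rw [hmv, ← mul_assoc e' e' z, e'sq]
        rcases P.hub.sq_cases e heJ with r | r <;> rw [r]
        · rw [one_mul, mul_one]
        · rw [P.hub.sq, one_mul]
  have hb0 : c0 * (e' * e) * c0⁻¹ = e' * e ∨ c0 * (e' * e) * c0⁻¹ = e' * e * z := by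
    have hee : e * e' = e' * e * z := by
      rw [mul_inv_eq_iff_eq_mul] at hmv
      rw [hmv, mul_assoc, ← (P.hub.central e heJ).eq, ← mul_assoc]
    have hh : c0 * (e' * e) * c0⁻¹ = (c0 * c0) * e * (c0 * c0)⁻¹ * e' := by
      rw [he'_def]; group
    rw [hh]
    rcases P.fix _ (P.half _ _ hc0 hc0 hc0n hc0n) e he with r | r <;> rw [r]
    · exact Or.inr hee
    · refine Or.inl ?_
      rw [mul_assoc, ← (P.hub.central e' he'J).eq, ← mul_assoc, hee, mul_assoc, P.hub.sq, mul_one]
  intro c hc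
  by_cases hcn : c ∈ P.H1
  · exact P.fix _ hcn _ (mul_mem he' he)
  have hm := P.half _ _ hc hc0.inv_left hcn fun r => hc0n (by simpa using inv_mem r)
  have hh : c * (e' * e) * c⁻¹ = c * c0⁻¹ * (c0 * (e' * e) * c0⁻¹) * (c * c0⁻¹)⁻¹ := by group
  rw [hh]
  rcases hb0 with r | r <;> rw [r]
  · exact P.fix _ hm _ (mul_mem he' he)
  · rw [show c * c0⁻¹ * (e' * e * z) * (c * c0⁻¹)⁻¹ = c * c0⁻¹ * (e' * e) * (c * c0⁻¹)⁻¹ *
      (c * c0⁻¹ * z * (c * c0⁻¹)⁻¹) by group, hzc (hc.mul_left hc0.inv_left)]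
    rcases P.fix _ hm _ (mul_mem he' he) with r' | r' <;> rw [r']
    · exact Or.inr rfl
    · exact Or.inl (by rw [mul_assoc, P.hub.sq, mul_one])

/-- No conjugate of the plane centralises `z` and the plane. -/
theorem false_of_conj_plane (g : G)
    (h : ∀ y ∈ P.Y, Commute (g * y * g⁻¹) z ∧ ∀ e ∈ P.Y, Commute (g * y * g⁻¹) e) : False := by
  have conjT : ∀ {A : Type} [CommGroup A] (T : G →* A) (x : G), T (g * x * g⁻¹) = T x :=
    fun {A} _ T x => by rw [map_mul, map_mul, map_inv, mul_comm (T g), mul_inv_cancel_right]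
  have kill : ∀ y ∈ P.Y, g * y * g⁻¹ ∈ P.H1 →
      ∀ T : G →* Multiplicative (ZMod 2), T y = 1 := fun y hy hH T => by
    rw [← conjT T y]; exact P.map_eq_one T hH (h y hy).2
  rcases P.fixed_cases with hall | ⟨hin, f, hf, e, -, c0, -, -, hff2, hff⟩
  · obtain ⟨Ta, -, ha⟩ := P.exists_flag P.a_mem fun c hc => hall c hc _ P.a_mem
    obtain ⟨Tb, -, hb⟩ := P.exists_flag P.b_mem fun c hc => hall c hc _ P.b_mem
    have na : g * P.a * g⁻¹ ∉ P.H1 := fun r => hb _ P.a_mem P.not_comm (kill _ P.a_mem r Tb)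
    have nb : g * P.b * g⁻¹ ∉ P.H1 := fun r =>
      ha _ P.b_mem (fun r' => P.not_comm r'.symm) (kill _ P.b_mem r Ta)
    refine ha _ (mul_mem P.a_mem P.b_mem) (fun r => P.not_comm ?_)
      (kill _ (mul_mem P.a_mem P.b_mem) ?_ Ta)
    · have := (Commute.refl P.a).inv_left.mul_left r
      rw [inv_mul_cancel_left] at this; exact this.symm
    · rw [show g * (P.a * P.b) * g⁻¹ = g * P.a * g⁻¹ * (g * P.b * g⁻¹) by group]
      exact P.half _ _ (h _ P.a_mem).1 (h _ P.b_mem).1 na nb
  · obtain ⟨T, -, hT⟩ := P.exists_flag hf hff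
    have hf1 : f ≠ 1 := fun r => P.hub.ne_one (by rw [← hff2, r, one_mul])
    have hfz : f ≠ z := fun r => P.hub.ne_one (by rw [← hff2, r, P.hub.sq])
    obtain ⟨u, hu, hn⟩ := P.exists_partner hf hf1 hfz
    exact hT u hu (fun r => hn r.symm) (kill u hu (hin _ (h u hu).1 (h u hu).2) T)

/-- Two conjugates centralising the planes agree. -/
theorem eq_of_centralize {g : G}
    (h1 : ∀ e ∈ P.Y, Commute (g * z * g⁻¹) e) (h2 : ∀ e ∈ P.Y, Commute (g⁻¹ * z * g) e) :
    g * z * g⁻¹ = z := by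
  by_contra hne
  have hzY' : ∀ y ∈ P.Y, Commute (g * y * g⁻¹) z := fun y hy => by
    have := (h2 y hy).symm.map (MulAut.conj g).toMonoidHom
    simpa [mul_assoc] using this
  have hzout : ∀ y ∈ P.Y, g * y * g⁻¹ ≠ z := by
    intro y hy r
    have ey : g⁻¹ * z * g = y := by rw [← r]; group
    rcases P.center_Y hy (ey ▸ h2 _ P.a_mem) (ey ▸ h2 _ P.b_mem) with r' | r'
    · exact P.hub.ne_one (by rw [← r, r']; group)
    · exact hne (r' ▸ r)
  have back : ∀ {e : G}, e ∈ P.Y → ∀ y ∈ P.Y, ∃ y' ∈ P.Y,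
      e * (g * y * g⁻¹) * e⁻¹ = g * y' * g⁻¹ := fun {e} he y hy => by
    have hc : Commute (g⁻¹ * e * g) z := by
      have := (h1 e he).symm.map (MulAut.conj g⁻¹).toMonoidHom
      simpa [mul_assoc] using this
    exact ⟨_, P.norm _ hc y hy, by group⟩
  have meet : ∀ y ∈ P.Y, g * y * g⁻¹ ∈ P.Y → g * y * g⁻¹ = 1 := by
    intro y hy hd
    by_contra hd1
    obtain ⟨e, he, hn⟩ := P.exists_partner hd hd1 (hzout y hy)
    obtain ⟨y', hy', ey⟩ := back he y hy
    rw [P.moves (P.Y_le he) (P.Y_le hd) fun r => hn r.symm] at ey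
    refine hzout (y⁻¹ * y') (mul_mem (inv_mem hy) hy') ?_
    calc g * (y⁻¹ * y') * g⁻¹ = (g * y * g⁻¹)⁻¹ * (g * y' * g⁻¹) := by group
      _ = z := by rw [← ey, inv_mul_cancel_left]
  refine P.false_of_conj_plane g fun y hy => ⟨hzY' y hy, fun e he => ?_⟩
  obtain ⟨y', hy', ey⟩ := back he y hy
  have hn : g * y * g⁻¹ * e⁻¹ * (g * y * g⁻¹)⁻¹ ∈ P.Y := P.norm _ (hzY' y hy) _ (inv_mem he)
  have hmem : g * (y' * y⁻¹) * g⁻¹ ∈ P.Y := by
    rw [show g * (y' * y⁻¹) * g⁻¹ = g * y' * g⁻¹ * (g * y * g⁻¹)⁻¹ by group, ← ey]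
    have := mul_mem he hn
    convert this using 1
    group
  have := meet _ (mul_mem hy' (inv_mem hy)) hmem
  rw [show g * (y' * y⁻¹) * g⁻¹ = g * y' * g⁻¹ * (g * y * g⁻¹)⁻¹ by group, ← ey,
    mul_inv_eq_one, mul_inv_eq_iff_eq_mul] at this
  exact this.symm

/-- `z` is the only conjugate of itself in the core. -/
theorem conj_eq_of_mem {g : G} (hy : g * z * g⁻¹ ∈ coreAt z) : g * z * g⁻¹ = z := by
  by_contra hne
  have hz' := P.hub.self_mem_conj g hy hne
    (P.hub.exists_noncommuting_pair (by have := P.card_core; omega) hy (P.hub.conj g).sq)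
  refine hne (P.eq_of_centralize (fun e he => P.commute_of_core hy he)
    fun e he => ?_)
  have := P.commute_of_core (g := g⁻¹) (by rw [mem_conj_iff] at hz'; simpa using hz') he
  simpa using this

/-- A plane normalised by `C(z)` makes `z` isolated. -/
theorem isolated (hz : orderOf z = 2) : Cfsg.IsIsolatedInvolution z := by
  classical
  set o : Multiplicative (ZMod 2) := Multiplicative.ofAdd 1
  have hsq2 : ∀ v : Multiplicative (ZMod 2), v * v = 1 := by decide
  have hval : ∀ v : Multiplicative (ZMod 2), v ≠ 1 → v = o := by decide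
  have hmH : ∀ {c : G}, c ∈ centralizer ({z} : Set G) ↔ Commute c z := fun {c} =>
    mem_centralizer_singleton_iff
  -- the sign
  let χ : ↥(centralizer ({z} : Set G)) →* Multiplicative (ZMod 2) :=
    MonoidHom.mk' (fun c => if (c : G) ∈ P.H1 then 1 else o) fun c d => by
      by_cases hc : (c : G) ∈ P.H1 <;> by_cases hd : (d : G) ∈ P.H1
      · simp [hc, hd, mul_mem hc hd]
      · have : (c : G) * d ∉ P.H1 := fun r => hd (by
          have := mul_mem (inv_mem hc) r
          rwa [inv_mul_cancel_left] at this)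
        simp [hc, hd, this]
      · have : (c : G) * d ∉ P.H1 := fun r => hc (by
          have := mul_mem r (inv_mem hd)
          rwa [mul_inv_cancel_right] at this)
        simp [hc, hd, this]
      · simp [hc, hd, P.half _ _ (hmH.1 c.2) (hmH.1 d.2) hc hd]
        exact (hsq2 o).symm
  have val : ∀ {c : G}, c ∈ P.H1 → extOne χ c = 1 := fun {c} hc => by
    rw [extOne_of_mem χ (hmH.2 (P.H1_le c hc))]; exact if_pos hc
  set Ts := MonoidHom.transfer χ
  obtain ⟨c1, hc1, hc1T⟩ : ∃ c, Commute c z ∧ Ts c ≠ 1 := by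
    refine exists_commute_value_ne P.hub P.isTwo Ts (fun g => hsq2 _) ?_
    by_contra hno
    push Not at hno
    obtain ⟨c, hc, hcn⟩ := P.outer
    have := P.hub.hom_eq_one_of_wc_of_transfer P.le_cent P.card_core
      (fun g hg => P.conj_eq_of_mem hg) χ (fun q hq => val (P.core_le hq)) hno (fun a => hsq2 _)
      (fun a b ha hb => (hval _ ha).trans (hval _ hb).symm) ⟨c, hmH.2 hc⟩
    change (if c ∈ P.H1 then 1 else o) = 1 at this
    rw [if_neg hcn] at this
    exact absurd this (by decide)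
  have killH1 : ∀ x ∈ P.H1, Ts x = 1 := by
    intro x hx
    obtain ⟨y, hy, -, -, c3⟩ := P.exists_split_H1 hx
    rw [c3 Ts]
    by_cases hy1 : y = 1
    · rw [hy1, map_one]
    by_cases hyz : y = z
    · rw [hyz, P.map_z]
    rw [P.transfer_plane χ (val (P.core_le P.hub.mem)) (fun w hw _ => val (P.core_le hw)) hy hy1 hyz]
    exact val (P.core_le (P.Y_le hy))
  have inH1 : ∀ {c : G}, Commute c z → Ts c = 1 → c ∈ P.H1 := fun {c} hc h1 => by
    by_contra hcn
    have hm := killH1 _ (P.half _ _ hc hc1 hcn fun r => hc1T (killH1 _ r))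
    rw [map_mul, h1, one_mul] at hm
    exact hc1T hm
  have conjT : ∀ {A : Type} [CommGroup A] (T : G →* A) (g x : G), T (g * x * g⁻¹) = T x :=
    fun {A} _ T g x => by rw [map_mul, map_mul, map_inv, mul_comm (T g), mul_inv_cancel_right]
  have hcY : ∀ g : G, Commute (g * z * g⁻¹) z → ∀ e ∈ P.Y, Commute (g * z * g⁻¹) e := by
    intro g hs
    set s := g * z * g⁻¹ with hs_def
    have hsH : s ∈ P.H1 := inH1 hs (by rw [hs_def, conjT Ts, P.map_z])
    have hsT : ∀ T : G →* Multiplicative (ZMod 2), T s = 1 := fun T => by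
      rw [hs_def, conjT T, P.map_z]
    rcases P.fixed_cases with hall | ⟨-, f, hf, e, he, c0, hc0, hfe, hff2, hff⟩
    · obtain ⟨y, hy, -, c2, c3⟩ := P.exists_split_H1 hsH
      obtain ⟨Ta, -, ha⟩ := P.exists_flag P.a_mem fun c hc => hall c hc _ P.a_mem
      obtain ⟨Tb, -, hb⟩ := P.exists_flag P.b_mem fun c hc => hall c hc _ P.b_mem
      have ya : Commute y P.a := by_contra fun hn => ha y hy hn ((c3 Ta).symm.trans (hsT Ta))
      have yb : Commute y P.b := by_contra fun hn => hb y hy hn ((c3 Tb).symm.trans (hsT Tb))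
      intro u hu
      have hyu : Commute y u := by
        rcases P.center_Y hy ya yb with r | r <;> rw [r]
        exacts [Commute.one_left u, (P.hub.central u (P.Y_le hu)).symm]
      have := hyu.mul_left (c2 u hu)
      rwa [mul_inv_cancel_left] at this
    · obtain ⟨T, hTsq, hT⟩ := P.exists_flag hf hff
      have Tf : T f = 1 := by rw [hfe, map_mul, conjT T, hTsq]
      have Sf : Ts f = 1 := killH1 _ (P.core_le (P.Y_le hf))
      -- elements of both kernels centralise `f`
      have cf : ∀ {x : G}, x ∈ P.H1 → T x = 1 → Commute x f := by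
        intro x hx hTx
        obtain ⟨y, hy, -, c2, c3⟩ := P.exists_split_H1 hx
        have hyf : Commute y f := by_contra fun hn => hT y hy hn ((c3 T).symm.trans hTx)
        have := hyf.mul_left (c2 f hf)
        rwa [mul_inv_cancel_left] at this
      have hfz : Commute f z := P.hub.central f (P.Y_le hf)
      have hs' : Commute (g⁻¹ * z * g) z := by
        have := hs.symm.map (MulAut.conj g⁻¹).toMonoidHom
        simpa [s, mul_assoc] using this
      have hs'H : g⁻¹ * z * g ∈ P.H1 := inH1 hs' (by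
        have := conjT Ts g⁻¹ z
        rw [inv_inv] at this
        rw [this, P.map_z])
      have hTs' : T (g⁻¹ * z * g) = 1 := by
        have := conjT T g⁻¹ z
        rw [inv_inv] at this
        rw [this, P.map_z]
      -- the root `g f g⁻¹` of `s`
      have hf'z : Commute (g * f * g⁻¹) z := by
        have := (cf hs'H hTs').symm.map (MulAut.conj g).toMonoidHom
        simpa [mul_assoc] using this
      have hf'H : g * f * g⁻¹ ∈ P.H1 := inH1 hf'z (by rw [conjT Ts, Sf])
      obtain ⟨y, hy, hd, c2, -⟩ := P.exists_split_H1 hf'H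
      intro u hu
      have e1 : s = y * y * ((y⁻¹ * (g * f * g⁻¹)) * (y⁻¹ * (g * f * g⁻¹))) := by
        have hcy : Commute (y⁻¹ * (g * f * g⁻¹)) y := c2 y hy
        calc s = g * f * g⁻¹ * (g * f * g⁻¹) := by rw [hs_def, ← hff2]; group
          _ = y * (y⁻¹ * (g * f * g⁻¹)) * (y * (y⁻¹ * (g * f * g⁻¹))) := by
            rw [mul_inv_cancel_left]
          _ = _ := hcy.mul_mul_mul_comm _ _
      rw [e1]
      refine Commute.mul_left ?_ ((c2 u hu).mul_left (c2 u hu))
      rcases P.hub.sq_cases y (P.Y_le hy) with r | r <;> rw [r]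
      exacts [Commute.one_left u, (P.hub.central u (P.Y_le hu)).symm]
  refine ⟨hz, fun g hzs => ?_⟩
  refine P.eq_of_centralize (hcY g hzs.symm) fun e he => ?_
  have hs' : Commute (g⁻¹ * z * g) z := by
    have := hzs.map (MulAut.conj g⁻¹).toMonoidHom
    simpa [mul_assoc] using this
  have := hcY g⁻¹ (by rwa [inv_inv]) e he
  rwa [inv_inv] at this

end Plane

end Cfsg.Agent.U6Local
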