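import Cfsg.Agent.Lib.U6Local.Base

/-!
# `z` is weakly closed in `O₂(C(z))` also when `C(z)` induces field automorphisms

`SCoord z`: as `Coord z`, but only a subgroup `H1` of `C(z)`, with product of two outer elements in
`H1`, acts linearly. `SCoord.conj_eq_of_mem`: `z` is the only conjugate of itself in its core. A
conjugate `y` would make `C_{Q'}(z) ∩ H1` of order `256`, so all of `C_{Q'}(z)` is linear, and the
argument of `Coord.false_of_conj_v0` applies.
-/

set_option autoImplicit false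

namespace Cfsg.Agent.U6Local

open LargeExtraspecial

variable {G : Type*} [Group G]

/-- The data of the natural case, the action being given on `H1` only. -/
structure SCoord (z : G) where
  hub : Hub (coreAt z) z
  le_cent : coreAt z ≤ Subgroup.centralizer ({z} : Set G)
  isTwo : IsPGroup 2 ↥(coreAt z)
  card_core : Nat.card ↥(coreAt z) = 512
  /-- the linear part of `C(z)` -/
  H1 : Subgroup G
  H1_le : ∀ c ∈ H1, Commute c z
  core_le : coreAt z ≤ H1
  half : ∀ c d : G, Commute c z → Commute d z → c ∉ H1 → d ∉ H1 → c * d ∈ H1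
  /-- the action of `H1` -/
  P : G → M4
  P_mul : ∀ a ∈ H1, ∀ b ∈ H1, P (a * b) = P a * P b
  P_surj : ∀ m : M4, ∃ c ∈ H1, P c = m
  P_ker : ∀ c ∈ H1, (P c = 1 ↔ c ∈ coreAt z)
  /-- coordinates on `O₂(C(z))` -/
  φ : G → V4
  φ_mul : ∀ j ∈ coreAt z, ∀ k ∈ coreAt z, φ (j * k) = φ j + φ k
  φ_surj : ∀ x : V4, ∃ j ∈ coreAt z, φ j = x
  φ_ker : ∀ j ∈ coreAt z, (φ j = 0 ↔ j = 1 ∨ j = z)
  φ_sq : ∀ j ∈ coreAt z, (j * j = 1 ↔ hh (φ j) (φ j) = 0)
  φ_conj : ∀ c ∈ H1, ∀ j ∈ coreAt z, φ (c * j * c⁻¹) = app (P c) (φ j)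

/-- `diag(1, 1, ω, ω²)`. -/
def dTail : M4 :=
  ofMat (monMat ![1, 1, om, om ^ 2] id) (by decide +kernel) (by decide +kernel)

/-- The vector `(1,0,0,0)`. -/
def e0v : V4 := ![1, 0, 0, 0]

theorem dTail_facts : app dTail v0 = v0 ∧ app dTail e0v = e0v ∧
    (∀ d : V4, app dTail d 2 = om * d 2) ∧ hh e0v v0 = 1 ∧ bb e0v v0 = 0 ∧ app s12 e0v ≠ e0v := by
  decide +kernel

theorem perp_dTail : ∀ d : V4, hh d v0 = 0 → hh d d = 0 → (¬ ∃ c : K, d = c • v0) →
    hh d (app dTail d) ≠ 0 ∧ d 2 ≠ 0 := by decide +kernel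

theorem sixteen_inj : ∀ u : V4, hh u v0 = 0 → u 2 ≠ 0 → ∀ a a' : K, ∀ i i' : Fin 4,
    a • v0 + ![0, u, app dTail u, u + app dTail u] i =
      a' • v0 + ![0, u, app dTail u, u + app dTail u] i' → a = a' ∧ i = i' := by decide +kernel

theorem k4_span : ∀ a : K, a = 0 ∨ a = 1 ∨ a = om ∨ a = 1 + om := by decide +kernel

theorem four_inj : ∀ a : K, a ≠ 0 → ∀ i i' : Fin 4,
    ![0, a, om * a, a + om * a] i = ![0, a, om * a, a + om * a] i' → i = i' := by decide +kernel

theorem trace_ne : ∀ a : K, a ≠ 0 → a + a ^ 2 = 0 → om * a + (om * a) ^ 2 ≠ 0 := by decide +kernel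

/-- An element fixing `v0`, trivial on `v0^⊥/⟨v0⟩`, on `e₃` and `e₄`. -/
theorem app_tail {b : M4} (h0 : app b v0 = v0) {w : V4} (hw : hh w e0v = 0) {f : K}
    (hf : app b w = w + f • v0) : f = hh w (app b e0v + e0v) := by
  have e := hh_app b w e0v
  rw [hw, hf] at e
  have hsum : app b e0v = (app b e0v + e0v) + e0v := by rw [add_assoc, vec_add_self, add_zero]
  have hv : hh v0 (app b e0v) = 1 := by
    conv_lhs => rw [← h0]
    rw [hh_app, hh_swap, dTail_facts.2.2.2.1, one_pow]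
  rw [hh_add_left, hh_smul_left, hv, mul_one, hsum, hh_add_right, hw, add_zero] at e
  calc f = hh w (app b e0v + e0v) + (hh w (app b e0v + e0v) + f) := by
        rw [← add_assoc, k4_add_self, zero_add]
    _ = _ := by rw [e, add_zero]

/-- A subgroup in which the product of two elements outside `K'` lies in `K'`. -/
theorem card_le_two_coset [Finite G] (S K' : Subgroup G)
    (h : ∀ a ∈ S, ∀ b ∈ S, a ∉ K' → b ∉ K' → a⁻¹ * b ∈ K') :
    Nat.card ↥S ≤ 2 * Nat.card ↥(S ⊓ K' : Subgroup G) := by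
  classical
  by_cases hall : S ≤ K'
  · rw [inf_eq_left.mpr hall]; omega
  obtain ⟨a, ha, haK⟩ := SetLike.not_le_iff_exists.mp hall
  let f : ↥S → Bool × ↥(S ⊓ K' : Subgroup G) := fun s =>
    if hs : (s : G) ∈ K' then (true, ⟨s, s.2, hs⟩)
    else (false, ⟨a⁻¹ * s, S.mul_mem (S.inv_mem ha) s.2, h a ha s s.2 haK hs⟩)
  have hf : Function.Injective f := by
    intro s t e
    by_cases hs : (s : G) ∈ K' <;> by_cases ht : (t : G) ∈ K' <;> simp [f, hs, ht] at e
    · exact Subtype.ext (congrArg (fun x : ↥(S ⊓ K' : Subgroup G) => (x : G)) e)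
    · exact Subtype.ext (mul_left_cancel (congrArg (fun x : ↥(S ⊓ K' : Subgroup G) => (x : G)) e))
  simpa [Nat.card_prod] using Nat.card_le_card_of_injective f hf

namespace SCoord

variable {z : G} (C : SCoord z)
include C

theorem z_ne : z ≠ 1 := C.hub.ne_one

theorem z_sq : z * z = 1 := C.hub.sq

theorem comm_z {j : G} (hj : j ∈ coreAt z) : Commute j z := C.hub.central j hj

theorem P_one : C.P 1 = 1 := (C.P_ker 1 (one_mem _)).2 (one_mem _)

theorem P_inv {c : G} (hc : c ∈ C.H1) : C.P c⁻¹ = (C.P c)⁻¹ := by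
  refine eq_inv_of_mul_eq_one_left ?_
  rw [← C.P_mul _ (inv_mem hc) _ hc, inv_mul_cancel, C.P_one]

theorem P_of_mem {j : G} (hj : j ∈ coreAt z) : C.P j = 1 := (C.P_ker j (C.core_le hj)).2 hj

theorem φ_z : C.φ z = 0 := (C.φ_ker z C.hub.mem).2 (Or.inr rfl)

theorem φ_one : C.φ 1 = 0 := (C.φ_ker 1 (one_mem _)).2 (Or.inl rfl)

theorem φ_inv {j : G} (hj : j ∈ coreAt z) : C.φ j⁻¹ = C.φ j := by
  have h := C.φ_mul _ (inv_mem hj) _ hj
  rw [inv_mul_cancel, C.φ_one] at h
  calc C.φ j⁻¹ = C.φ j⁻¹ + (C.φ j + C.φ j) := by rw [vec_add_self, add_zero]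
    _ = C.φ j := by rw [← add_assoc, ← h, zero_add]

theorem φ_mul_z {j : G} (hj : j ∈ coreAt z) : C.φ (j * z) = C.φ j := by
  rw [C.φ_mul j hj z C.hub.mem, C.φ_z, add_zero]

theorem conj_mem {c j : G} (hc : Commute c z) (hj : j ∈ coreAt z) : c * j * c⁻¹ ∈ coreAt z :=
  C.hub.normalizes c hc j hj

theorem eq_or_of_φ {j k : G} (hj : j ∈ coreAt z) (hk : k ∈ coreAt z) (h : C.φ j = C.φ k) :
    k = j ∨ k = j * z := by
  have h0 : C.φ (j⁻¹ * k) = 0 := by
    rw [C.φ_mul _ (inv_mem hj) _ hk, C.φ_inv hj, h, vec_add_self]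
  rcases (C.φ_ker _ (mul_mem (inv_mem hj) hk)).1 h0 with e | e
  · exact Or.inl (inv_mul_eq_one.1 e).symm
  · exact Or.inr (by rw [← e, mul_inv_cancel_left])

/-- An involution commutes with what is orthogonal to it. -/
theorem commute_of_bb {j k : G} (hj : j ∈ coreAt z) (hk : k ∈ coreAt z) (hk2 : k * k = 1)
    (hb : bb (C.φ j) (C.φ k) = 0) : Commute j k := by
  have hki : k⁻¹ = k := inv_eq_of_mul_eq_one_right hk2
  have hh2 := (C.φ_sq k hk).1 hk2
  have hjk := mul_mem hj hk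
  have hsum : hh (C.φ (j * k)) (C.φ (j * k)) = hh (C.φ j) (C.φ j) := by
    rw [C.φ_mul j hj k hk, hh_add_self, hh2, hb, add_zero, add_zero]
  have hsq : j * k * (j * k) = j * j := by
    rcases C.hub.sq_cases j hj with e | e
    · rw [e]; exact (C.φ_sq _ hjk).2 (hsum.trans ((C.φ_sq j hj).1 e))
    · rw [e]
      refine (C.hub.sq_cases _ hjk).resolve_left fun r => C.z_ne ?_
      rw [← e, (C.φ_sq j hj).2 (hsum.symm.trans ((C.φ_sq _ hjk).1 r))]
  show j * k = k * j
  calc j * k = j⁻¹ * (j * j) * k := by group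
    _ = j⁻¹ * (j * k * (j * k)) * k := by rw [hsq]
    _ = k * j * (k * k) := by group
    _ = k * j := by rw [hk2, mul_one]

/-- Commuting involutions with involutory product are orthogonal. -/
theorem bb_of_sq {j k : G} (hj : j ∈ coreAt z) (hk : k ∈ coreAt z) (h1 : j * j = 1)
    (h2 : k * k = 1) (h : Commute j k) : bb (C.φ j) (C.φ k) = 0 := by
  have h3 : j * k * (j * k) = 1 := by rw [h.symm.mul_mul_mul_comm, h1, h2, mul_one]
  have e := hh_add_self (C.φ j) (C.φ k)
  rw [← C.φ_mul j hj k hk, (C.φ_sq _ (mul_mem hj hk)).1 h3, (C.φ_sq j hj).1 h1,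
    (C.φ_sq k hk).1 h2, zero_add, zero_add] at e
  exact e.symm

/-- The stabiliser of `φ y` lifts to the centralizer of `y` in `H1`. -/
theorem exists_lift_fix {y : G} (hy : y ∈ coreAt z) (h1 : y ≠ 1) (hz : y ≠ z) {m : M4}
    (hm : app m (C.φ y) = C.φ y) : ∃ c ∈ C.H1, Commute c y ∧ C.P c = m := by
  obtain ⟨c, hc, rfl⟩ := C.P_surj m
  have hcm := C.conj_mem (C.H1_le c hc) hy
  have hcy : C.φ (c * y * c⁻¹) = C.φ y := by rw [C.φ_conj c hc y hy, hm]
  rcases C.eq_or_of_φ hy hcm hcy.symm with e | e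
  · exact ⟨c, hc, mul_inv_eq_iff_eq_mul.1 e, rfl⟩
  obtain ⟨q, hq, hn⟩ := C.hub.exists_not_commute h1 hz
  have hqy : q * y * q⁻¹ = y * z :=
    (C.hub.comm q hq y hy).resolve_left fun r => hn (mul_inv_eq_iff_eq_mul.1 r).symm
  refine ⟨q * c, mul_mem (C.core_le hq) hc, mul_inv_eq_iff_eq_mul.1 ?_, ?_⟩
  · calc q * c * y * (q * c)⁻¹ = q * (c * y * c⁻¹) * q⁻¹ := by group
      _ = (q * y * q⁻¹) * (q * z * q⁻¹) := by rw [e]; group
      _ = y := by
        rw [hqy, (C.comm_z hq).eq, mul_inv_cancel_right, mul_assoc, C.z_sq, mul_one]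
  · rw [C.P_mul _ (C.core_le hq) _ hc, C.P_of_mem hq, one_mul]

variable [Finite G]

theorem self_mem_conj' {g : G} (hy : g * z * g⁻¹ ∈ coreAt z) (hne : g * z * g⁻¹ ≠ z) :
    z ∈ (coreAt z).map (MulAut.conj g).toMonoidHom :=
  C.hub.self_mem_conj g hy hne (C.hub.exists_noncommuting_pair
    (by rw [C.card_core]; norm_num) hy (C.hub.conj g).sq)

theorem exists_linear {g : G} (hy : g * z * g⁻¹ ∈ coreAt z) (hne : g * z * g⁻¹ ≠ z) :
    ∃ b ∈ (coreAt z).map (MulAut.conj g).toMonoidHom, b ∈ C.H1 ∧ C.P b ≠ 1 ∧ C.P b ≠ s12 := by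
  classical
  by_contra hno
  push Not at hno
  set y := g * z * g⁻¹ with hy_def
  set Q' := (coreAt z).map (MulAut.conj g).toMonoidHom with hQ'
  have h' : Hub Q' y := C.hub.conj g
  have hzQ : z ∈ Q' := C.self_mem_conj' hy hne
  have hzy : Commute z y := (C.comm_z hy).symm
  set E : Subgroup G := Q' ⊓ coreAt z
  set Cz : Subgroup G := Q' ⊓ Subgroup.centralizer ({z} : Set G)
  have mCz : ∀ {w : G}, w ∈ Cz ↔ w ∈ Q' ∧ Commute w z := fun {w} =>
    Subgroup.mem_inf.trans (and_congr_right fun _ => Subgroup.mem_centralizer_singleton_iff)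
  have h1 : Nat.card ↥Q' ≤ 2 * Nat.card ↥Cz := by
    refine card_le_two_coset _ _ fun a ha b hb hna hnb => ?_
    have e : ∀ w ∈ Q', w ∉ Subgroup.centralizer ({z} : Set G) → w * z * w⁻¹ = z * y :=
      fun w hw hwz => (h'.comm w hw z hzQ).resolve_left fun r => hwz
        (Subgroup.mem_centralizer_singleton_iff.2 (mul_inv_eq_iff_eq_mul.1 r))
    rw [Subgroup.mem_centralizer_singleton_iff]
    refine mul_inv_eq_iff_eq_mul.1 ?_
    calc a⁻¹ * b * z * (a⁻¹ * b)⁻¹ = a⁻¹ * (b * z * b⁻¹) * a := by group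
      _ = a⁻¹ * (a * z * a⁻¹) * a := by rw [e a ha hna, e b hb hnb]
      _ = z := by group
  have h2 : Nat.card ↥Cz ≤ 2 * Nat.card ↥(Cz ⊓ C.H1 : Subgroup G) :=
    card_le_two_coset _ _ fun a ha b hb hna hnb => C.half _ _ (mCz.1 ha).2.inv_left (mCz.1 hb).2
      (fun r => hna (by simpa using inv_mem r)) hnb
  have h3 : Nat.card ↥(Cz ⊓ C.H1 : Subgroup G) ≤
      2 * Nat.card ↥(Cz ⊓ C.H1 ⊓ coreAt z : Subgroup G) := by
    refine card_le_two_coset _ _ fun a ha b hb hna hnb => ?_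
    have ea := hno a ha.1.1 ha.2 fun r => hna ((C.P_ker a ha.2).1 r)
    have eb := hno b hb.1.1 hb.2 fun r => hnb ((C.P_ker b hb.2).1 r)
    rw [← C.P_ker _ (mul_mem (inv_mem ha.2) hb.2), C.P_mul _ (inv_mem ha.2) _ hb.2, C.P_inv ha.2,
      ea, eb, inv_mul_cancel]
  have hle : (Cz ⊓ C.H1 ⊓ coreAt z : Subgroup G) ≤ E := fun w hw => ⟨hw.1.1.1, hw.2⟩
  have hE : ∀ e ∈ E, ∀ f ∈ E, Commute e f := by
    intro e he f hf
    rcases C.hub.comm e he.2 f hf.2 with r | r
    · exact mul_inv_eq_iff_eq_mul.1 r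
    rcases h'.comm e he.1 f hf.1 with r' | r'
    · exact mul_inv_eq_iff_eq_mul.1 r'
    exact absurd (mul_left_cancel (r.symm.trans r')) hne.symm
  obtain ⟨b0, hb0, hb0'⟩ : ∃ b0 ∈ Cz ⊓ C.H1, ∀ w ∈ Cz ⊓ C.H1,
      w ∈ coreAt z ∨ b0⁻¹ * w ∈ coreAt z := by
    by_cases hall : ∀ w ∈ Cz ⊓ C.H1, w ∈ coreAt z
    · exact ⟨1, one_mem _, fun w hw => Or.inl (hall w hw)⟩
    push Not at hall
    obtain ⟨b0, hb0, hn⟩ := hall
    refine ⟨b0, hb0, fun w hw => or_iff_not_imp_left.2 fun hwn => ?_⟩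
    have ea := hno b0 hb0.1.1 hb0.2 fun r => hn ((C.P_ker _ hb0.2).1 r)
    have eb := hno w hw.1.1 hw.2 fun r => hwn ((C.P_ker _ hw.2).1 r)
    rw [← C.P_ker _ (mul_mem (inv_mem hb0.2) hw.2), C.P_mul _ (inv_mem hb0.2) _ hw.2,
      C.P_inv hb0.2, ea, eb, inv_mul_cancel]
  obtain ⟨b1, hb1, hb1'⟩ : ∃ b1 ∈ Cz, ∀ w ∈ Cz, w ∈ C.H1 ∨ b1⁻¹ * w ∈ C.H1 := by
    by_cases hall : ∀ w ∈ Cz, w ∈ C.H1
    · exact ⟨1, one_mem _, fun w hw => Or.inl (hall w hw)⟩
    push Not at hall
    obtain ⟨b1, hb1, hn⟩ := hall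
    exact ⟨b1, hb1, fun w hw => or_iff_not_imp_left.2 fun hwn =>
      C.half _ _ (mCz.1 hb1).2.inv_left (mCz.1 hw).2 (fun r => hn (by simpa using inv_mem r)) hwn⟩
  have step : ∀ (S : Subgroup G) (b : G), b ∈ Q' → S ≤ E →
      Nat.card ↥S ≤ 2 * Nat.card ↥(S ⊓ Subgroup.centralizer ({b} : Set G) : Subgroup G) := by
    intro S b hb hS
    refine card_le_two_coset _ _ fun a ha w hw hna hnw => ?_
    have e : ∀ w ∈ S, w ∉ Subgroup.centralizer ({b} : Set G) → w * b * w⁻¹ = b * y :=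
      fun w hw hn => (h'.comm w (hS hw).1 b hb).resolve_left fun r => hn
        (Subgroup.mem_centralizer_singleton_iff.2 (mul_inv_eq_iff_eq_mul.1 r))
    rw [Subgroup.mem_centralizer_singleton_iff]
    refine mul_inv_eq_iff_eq_mul.1 ?_
    calc a⁻¹ * w * b * (a⁻¹ * w)⁻¹ = a⁻¹ * (w * b * w⁻¹) * a := by group
      _ = a⁻¹ * (a * b * a⁻¹) * a := by rw [e a ha hna, e w hw hnw]
      _ = b := by group
  have h4 := step E b0 hb0.1.1 le_rfl
  have h5 := step (E ⊓ Subgroup.centralizer ({b0} : Set G)) b1 hb1.1 inf_le_left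
  set E2 : Subgroup G :=
    E ⊓ Subgroup.centralizer ({b0} : Set G) ⊓ Subgroup.centralizer ({b1} : Set G)
  have h6 : Nat.card ↥E2 ≤ 4 := by
    have hsub : ∀ e ∈ E2, e ∈ ({1, y, z, y * z} : Finset G) := by
      intro e he
      have c0 : Commute e b0 := Subgroup.mem_centralizer_singleton_iff.1 he.1.2
      have c1 : Commute e b1 := Subgroup.mem_centralizer_singleton_iff.1 he.2
      have clin : ∀ w ∈ Cz ⊓ C.H1, Commute e w := by
        intro w hw
        rcases hb0' w hw with r | r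
        · exact hE e he.1.1 w ⟨hw.1.1, r⟩
        · have := c0.mul_right (hE e he.1.1 _ ⟨Q'.mul_mem (Q'.inv_mem hb0.1.1) hw.1.1, r⟩)
          rwa [mul_inv_cancel_left] at this
      have hcl := h'.centralizer_of_self hzQ he.1.1.1 fun w hw hwz => by
        rcases hb1' w (mCz.2 ⟨hw, hwz⟩) with r | r
        · exact clin w ⟨mCz.2 ⟨hw, hwz⟩, r⟩
        · have := c1.mul_right (clin _ ⟨Cz.mul_mem (Cz.inv_mem hb1) (mCz.2 ⟨hw, hwz⟩), r⟩)
          rwa [mul_inv_cancel_left] at this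
      rcases mem_four h'.sq C.z_sq hzy.symm hcl with r | r | r | r <;> simp [r]
    refine le_trans (Nat.card_le_card_of_injective
      (fun e : ↥E2 => (⟨(e : G), hsub e e.2⟩ : ({1, y, z, y * z} : Finset G)))
      fun a b r => Subtype.ext (congrArg (fun u : ({1, y, z, y * z} : Finset G) => (u : G)) r)) ?_
    rw [Nat.card_eq_finsetCard]
    exact Finset.card_le_four
  have h512 : Nat.card ↥Q' = 512 := by
    rw [hQ', Subgroup.card_map_of_injective (MulAut.conj g).injective, C.card_core]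
  have h7 := Subgroup.card_le_of_le hle
  omega

theorem false_of_conj_v0 {g : G} (hy : g * z * g⁻¹ ∈ coreAt z) (hne : g * z * g⁻¹ ≠ z)
    (hv : C.φ (g * z * g⁻¹) = v0) : False := by
  classical
  obtain ⟨b, hb, hbH, hb1, hb12⟩ := C.exists_linear hy hne
  set y := g * z * g⁻¹ with hy_def
  have hy1 : y ≠ 1 := fun e => C.z_ne (conj_eq_one_iff.1 e)
  set Q' := (coreAt z).map (MulAut.conj g).toMonoidHom with hQ'
  have h' : Hub Q' y := C.hub.conj g
  have hzQ : z ∈ Q' := C.self_mem_conj' hy hne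
  have hzy : Commute z y := (C.comm_z hy).symm
  have hy2 : y * y = 1 := h'.sq
  set E : Subgroup G := Q' ⊓ coreAt z
  set M : Subgroup G := Q' ⊓ C.H1
  have hcy : ∀ {q : G}, q ∈ Q' → Commute q y := fun hq => h'.central _ hq
  have fixM : ∀ m ∈ M, app (C.P m) v0 = v0 := fun m hm => by
    rw [← hv, ← C.φ_conj m hm.2 y hy, (hcy hm.1).eq, mul_inv_cancel_right]
  have hsqE : ∀ e ∈ E, e * e = 1 := by
    intro e he
    rcases C.hub.sq_cases e he.2 with r | r
    · exact r
    rcases h'.sq_cases e he.1 with r' | r'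
    · exact r'
    exact absurd (r.symm.trans r') hne.symm
  have hEcomm : ∀ e ∈ E, ∀ f ∈ E, Commute e f := by
    intro e he f hf
    rcases C.hub.comm e he.2 f hf.2 with r | r
    · exact mul_inv_eq_iff_eq_mul.1 r
    rcases h'.comm e he.1 f hf.1 with r' | r'
    · exact mul_inv_eq_iff_eq_mul.1 r'
    exact absurd (mul_left_cancel (r.symm.trans r')) hne.symm
  -- the image of the intersection
  let F : V4 → Prop := fun x => ∃ e ∈ E, C.φ e = x
  have Fadd : ∀ {x x' : V4}, F x → F x' → F (x + x') := by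
    rintro x x' ⟨e, he, rfl⟩ ⟨f, hf, rfl⟩
    exact ⟨e * f, mul_mem he hf, C.φ_mul e he.2 f hf.2⟩
  have Fiso : ∀ {x : V4}, F x → hh x x = 0 := by
    rintro x ⟨e, he, rfl⟩; exact (C.φ_sq e he.2).1 (hsqE e he)
  have Fbb : ∀ {x x' : V4}, F x → F x' → bb x x' = 0 := by
    rintro x x' ⟨e, he, rfl⟩ ⟨f, hf, rfl⟩
    exact C.bb_of_sq he.2 hf.2 (hsqE e he) (hsqE f hf) (hEcomm e he f hf)
  have lift : ∀ m : M4, app m v0 = v0 → ∃ c ∈ C.H1, Commute c y ∧ C.P c = m := fun m hm =>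
    C.exists_lift_fix hy hy1 hne (by rw [hv, hm])
  have conjM : ∀ {c : G}, c ∈ C.H1 → Commute c y → ∀ {m : G}, m ∈ M → c * m * c⁻¹ ∈ M :=
    by
      intro c hc hcy' m hm
      exact ⟨h'.normalizes _ hcy' m hm.1, C.H1.mul_mem (C.H1.mul_mem hc hm.2) (C.H1.inv_mem hc)⟩
  have Fmap : ∀ {m : M4}, app m v0 = v0 → ∀ {x : V4}, F x → F (app m x) := by
    intro m hm x ⟨e, he, hex⟩
    obtain ⟨c, hc, hcy', rfl⟩ := lift m hm
    exact ⟨c * e * c⁻¹, ⟨h'.normalizes c hcy' e he.1, C.conj_mem (C.H1_le c hc) he.2⟩,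
      by rw [C.φ_conj c hc e he.2, hex]⟩
  have take : ∀ m ∈ M, ∀ x, bb x v0 = 0 → F (app (C.P m) x + x) := by
    intro m hm x hx
    obtain ⟨j, hj, rfl⟩ := C.φ_surj x
    have hjy : Commute j y := C.commute_of_bb hj hy hy2 (by rw [hv, hx])
    have hmz := C.H1_le m hm.2
    refine ⟨m * j * m⁻¹ * j⁻¹, ⟨?_, (coreAt z).mul_mem (C.conj_mem hmz hj) ((coreAt z).inv_mem hj)⟩, ?_⟩
    · rw [show m * j * m⁻¹ * j⁻¹ = m * (j * m⁻¹ * j⁻¹) by group]
      exact mul_mem hm.1 (h'.normalizes j hjy _ (inv_mem hm.1))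
    · rw [C.φ_mul _ (C.conj_mem hmz hj) _ (inv_mem hj), C.φ_conj m hm.2 j hj, C.φ_inv hj]
  have bb0 : ∀ {x : V4}, hh x v0 = 0 → bb x v0 = 0 := fun h => by rw [bb_eq_trace, h]; ring
  have hbM : b ∈ M := ⟨hb, hbH⟩
  have ha0 : app (C.P b) v0 = v0 := fixM b hbM
  -- the line through `v0`
  have Fom : F (om • v0) := by
    rcases exists_good ha0 hb1 hb12 with ⟨x, hx, e⟩ | ⟨r, hr0, x, hx, e⟩
    · exact e ▸ take b hbM x (bb0 hx)
    obtain ⟨c, hc, hcy', rfl⟩ := lift r hr0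
    have hmem : b * c * b⁻¹ * c⁻¹ ∈ M := by
      rw [show b * c * b⁻¹ * c⁻¹ = b * (c * b⁻¹ * c⁻¹) by group]
      exact mul_mem hbM (conjM hc hcy' (inv_mem hbM))
    have := take _ hmem x (bb0 hx)
    rw [C.P_mul _ (mul_mem (mul_mem hbH hc) (inv_mem hbH)) _ (inv_mem hc),
      C.P_mul _ (mul_mem hbH hc) _ (inv_mem hbH), C.P_mul _ hbH _ hc, C.P_inv hbH, C.P_inv hc,
      e] at this
    exact this
  have F0 : F 0 := ⟨1, one_mem _, C.φ_one⟩
  have Fv0 : F v0 := ⟨y, ⟨h'.mem, hy⟩, hv⟩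
  have Fline : ∀ a : K, F (a • v0) := fun a => by
    rcases k4_span a with rfl | rfl | rfl | rfl
    exacts [by rwa [zero_smul], by rwa [one_smul], Fom, by rw [add_smul, one_smul]; exact Fadd Fv0 Fom]
  -- `M` is trivial on `v0^⊥/⟨v0⟩`
  have hperp : ∀ m ∈ M, ∀ x, hh x v0 = 0 → ∃ c : K, app (C.P m) x + x = c • v0 := by
    intro m hm x hx
    by_contra hno
    set d := app (C.P m) x + x
    have hd0 : hh d v0 = 0 := by
      rw [hh_add_left, hx, add_zero, ← hx]
      conv_lhs => rw [← fixM m hm]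
      exact hh_app _ x v0
    have Fd : ∀ a : K, F (a • d) := fun a => by
      have := take m hm (a • x) (bb0 (by rw [hh_smul_left, hx, mul_zero]))
      rwa [app_smul, ← smul_add] at this
    have hdd : hh d d = 0 := Fiso (by simpa using Fd 1)
    refine (perp_dTail d hd0 hdd hno).1 (eq_zero_of_trace _ fun c => ?_)
    have := Fbb (Fd c) (Fmap dTail_facts.1 (by simpa using Fd 1))
    rwa [bb_eq_trace, hh_smul_left] at this
  -- the displacement of `e0v`
  have hw2 : hh (![0, 0, 1, 0] : V4) v0 = 0 ∧ hh (![0, 0, 0, 1] : V4) v0 = 0 ∧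
      hh (![0, 0, 1, 0] : V4) e0v = 0 ∧ hh (![0, 0, 0, 1] : V4) e0v = 0 := by decide +kernel
  have tail : ∀ m ∈ M, ∀ w, hh w v0 = 0 → hh w e0v = 0 →
      app (C.P m) w = w + hh w (app (C.P m) e0v + e0v) • v0 := by
    intro m hm w hw hwe
    obtain ⟨c, hc⟩ := hperp m hm w hw
    have hc' : app (C.P m) w = w + c • v0 := by
      rw [← hc, add_comm (app (C.P m) w), ← add_assoc, vec_add_self, zero_add]
    rw [← app_tail (fixM m hm) hwe hc']; exact hc'
  set u := app (C.P b) e0v + e0v with hu_def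
  have hu0 : hh u v0 = 0 := by
    rw [hh_add_left]
    conv_lhs => arg 1; rw [← ha0]
    rw [hh_app, k4_add_self]
  have Fu : F u := take b hbM e0v dTail_facts.2.2.2.2.1
  have hunot : ¬ ∃ c : K, u = c • v0 := by
    rintro ⟨c, hc⟩
    have h1 := tail b hbM _ hw2.1 hw2.2.2.1
    have h2 := tail b hbM _ hw2.2.1 hw2.2.2.2
    rw [← hu_def, hc, hh_smul_right, hw2.1, mul_zero, zero_smul, add_zero] at h1
    rw [← hu_def, hc, hh_smul_right, hw2.2.1, mul_zero, zero_smul, add_zero] at h2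
    rcases eq_of_fix_perp ha0 h1 h2 with r | r
    exacts [hb1 r, hb12 r]
  have hu2 : u 2 ≠ 0 := (perp_dTail u hu0 (Fiso Fu) hunot).2
  obtain ⟨cd, hcd, hcdy, hPcd⟩ := lift dTail dTail_facts.1
  set b' := cd * b * cd⁻¹
  have hb'M : b' ∈ M := conjM hcd hcdy hbM
  have hu' : app (C.P b') e0v + e0v = app dTail u := by
    rw [C.P_mul _ (mul_mem hcd hbH) _ (inv_mem hcd), C.P_mul _ hcd _ hbH, C.P_inv hcd, hPcd,
      app_mul, app_mul, app_add, dTail_facts.2.1]
    conv_lhs => arg 1; arg 2; arg 2; rw [← dTail_facts.2.1, app_inv_app]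
  -- an element of `M` over `s12`
  obtain ⟨nt, hnt, hnt12⟩ : ∃ nt ∈ M, C.P nt = s12 := by
    have key : ∀ m ∈ M, (app (C.P m) e0v + e0v) 2 + ((app (C.P m) e0v + e0v) 2) ^ 2 ≠ 0 →
        ∃ nt ∈ M, C.P nt = s12 := by
      intro m hm htr
      obtain ⟨c, hc, hcy', hPc⟩ := lift rE3 (by decide +kernel)
      refine ⟨m * c * m⁻¹ * c⁻¹, ?_, ?_⟩
      · rw [show m * c * m⁻¹ * c⁻¹ = m * (c * m⁻¹ * c⁻¹) by group]
        exact mul_mem hm (conjM hc hcy' (inv_mem hm))
      rw [C.P_mul _ (mul_mem (mul_mem hm.2 hc) (inv_mem hm.2)) _ (inv_mem hc),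
        C.P_mul _ (mul_mem hm.2 hc) _ (inv_mem hm.2), C.P_mul _ hm.2 _ hc, C.P_inv hm.2,
        C.P_inv hc, hPc]
      set B := C.P m
      set uu := app B e0v + e0v
      have hB0 : app B v0 = v0 := fixM m hm
      have hBe : app B e0v = uu + e0v := by rw [add_assoc, vec_add_self, add_zero]
      have hr0 : app rE3 v0 = v0 := by decide +kernel
      have hre : app rE3 e0v = e0v + ![0, 0, 1, 0] + om • v0 := by decide +kernel
      have r2 : app rE3 ![0, 0, 1, 0] = ![0, 0, 1, 0] + (1 : K) • v0 := by decide +kernel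
      have r3 : app rE3 ![0, 0, 0, 1] = ![0, 0, 0, 1] + (0 : K) • v0 := by decide +kernel
      have huu0 : hh uu v0 = 0 := by
        rw [hh_add_left]
        conv_lhs => arg 1; rw [← hB0]
        rw [hh_app, k4_add_self]
      -- the commutator fixes whatever both fix modulo `v0`
      have fixw : ∀ (w : V4) (f f' : K), app B w = w + f • v0 → app rE3 w = w + f' • v0 →
          app (B * rE3 * B⁻¹ * rE3⁻¹) w = w := by
        intro w f f' hB hR
        have e : app (B * rE3 * B⁻¹ * rE3⁻¹) (app rE3 (app B w)) = app B (app rE3 w) := by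
          simp only [← app_mul, mul_assoc, inv_mul_cancel_left, inv_mul_cancel, mul_one]
        have hn0 : app (B * rE3 * B⁻¹ * rE3⁻¹) v0 = v0 := by
          have : app (B * rE3 * B⁻¹ * rE3⁻¹) (app rE3 (app B v0)) = app B (app rE3 v0) := by
            simp only [← app_mul, mul_assoc, inv_mul_cancel_left, inv_mul_cancel, mul_one]
          rwa [hB0, hr0, hB0] at this
        have L : app rE3 (app B w) = w + (f + f') • v0 := by
          rw [hB, app_add, app_smul, hr0, hR, add_assoc, ← add_smul, add_comm f']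
        have R : app B (app rE3 w) = w + (f + f') • v0 := by
          rw [hR, app_add, app_smul, hB0, hB, add_assoc, ← add_smul]
        rw [L, R, app_add, app_smul, hn0] at e
        exact add_right_cancel e
      have hn0 : app (B * rE3 * B⁻¹ * rE3⁻¹) v0 = v0 := by
        have : app (B * rE3 * B⁻¹ * rE3⁻¹) (app rE3 (app B v0)) = app B (app rE3 v0) := by
          simp only [← app_mul, mul_assoc, inv_mul_cancel_left, inv_mul_cancel, mul_one]
        rwa [hB0, hr0, hB0] at this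
      refine (eq_of_fix_perp hn0 (fixw _ _ _ (tail m hm _ hw2.1 hw2.2.2.1) r2)
        (fixw _ _ _ (tail m hm _ hw2.2.1 hw2.2.2.2) r3)).resolve_left fun r => htr ?_
      have hcomm : app B (app rE3 e0v) = app rE3 (app B e0v) := by
        rw [← app_mul, ← app_mul]
        congr 1
        calc B * rE3 = (B * rE3 * B⁻¹ * rE3⁻¹) * (rE3 * B) := by group
          _ = _ := by rw [r, one_mul]
      rw [hre, app_add, app_add, app_smul, hB0, hBe, app_add, hre,
        tail m hm _ hw2.1 hw2.2.2.1, app_rE3 uu, huu0, zero_smul, add_zero, mul_zero,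
        add_zero] at hcomm
      have e2 : hh (![0, 0, 1, 0] : V4) uu • v0 = hh uu ![0, 0, 1, 0] • v0 := by
        refine add_left_cancel (a := uu + (e0v + ![0, 0, 1, 0] + om • v0)) ?_
        calc uu + (e0v + ![0, 0, 1, 0] + om • v0) + hh (![0, 0, 1, 0] : V4) uu • v0
            = uu + e0v + (![0, 0, 1, 0] + hh (![0, 0, 1, 0] : V4) uu • v0) + om • v0 := by abel
          _ = uu + hh uu ![0, 0, 1, 0] • v0 + (e0v + ![0, 0, 1, 0] + om • v0) := hcomm
          _ = _ := by abel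
      have e3 : hh uu (![0, 0, 1, 0] : V4) = uu 2 := by
        simp [hh, Cfsg.hermForm, Fin.sum_univ_four]
      have e4 := congrFun e2 0
      rw [hh_swap uu, e3] at e4
      have e5 : uu 2 ^ 2 = uu 2 := by simpa [v0] using e4
      rw [e5, k4_add_self]
    by_cases h : u 2 + u 2 ^ 2 = 0
    · refine key b' hb'M ?_
      rw [hu', dTail_facts.2.2.1]
      exact trace_ne _ hu2 h
    · exact key b hbM h
  -- thirty-two elements of the intersection, eight cosets
  have Fsix : ∀ p : K × Fin 4, F (p.1 • v0 + ![0, u, app dTail u, u + app dTail u] p.2) := by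
    rintro ⟨a, i⟩
    refine Fadd (Fline a) ?_
    have Fu' := Fmap dTail_facts.1 Fu
    fin_cases i
    exacts [F0, Fu, Fu', Fadd Fu Fu']
  choose es hesE hesφ using Fsix
  let gs : Fin 4 → G := ![1, b, b', b * b']
  have hgs : ∀ i, gs i ∈ M := fun i => by
    fin_cases i; exacts [one_mem _, hbM, hb'M, mul_mem hbM hb'M]
  have hgs2 : ∀ i, app (C.P (gs i)) e0v 2 = ![0, u 2, om * u 2, u 2 + om * u 2] i := by
    have he2 : e0v 2 = 0 := by decide +kernel
    have hv2 : v0 2 = 0 := by decide +kernel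
    have hb2 : app (C.P b) e0v = u + e0v := by rw [add_assoc, vec_add_self, add_zero]
    have hb'2 : app (C.P b') e0v = app dTail u + e0v := by
      rw [← hu', add_assoc, vec_add_self, add_zero]
    intro i
    fin_cases i
    · show app (C.P 1) e0v 2 = 0
      rw [C.P_one, app_one, he2]
    · show app (C.P b) e0v 2 = u 2
      rw [hb2, Pi.add_apply, he2, add_zero]
    · show app (C.P b') e0v 2 = om * u 2
      rw [hb'2, Pi.add_apply, he2, add_zero, dTail_facts.2.2.1]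
    · show app (C.P (b * b')) e0v 2 = u 2 + om * u 2
      have hd0 : hh (app dTail u) v0 = 0 := by
        conv_lhs => arg 2; rw [← dTail_facts.1]
        rw [hh_app, hu0]
      obtain ⟨c, hc⟩ := hperp b hbM _ hd0
      have hc' : app (C.P b) (app dTail u) = app dTail u + c • v0 := by
        rw [← hc, add_comm (app (C.P b) _), ← add_assoc, vec_add_self, zero_add]
      rw [C.P_mul _ hbH _ hb'M.2, app_mul, hb'2, app_add, hc', hb2]
      simp [he2, hv2, dTail_facts.2.2.1, add_comm]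
  let f : ((K × Fin 4) × Bool) × (Fin 4 × Bool) → G := fun q =>
    es q.1.1 * cond q.1.2 z 1 * (gs q.2.1 * cond q.2.2 nt 1)
  have hzM : z ∈ M := ⟨hzQ, C.core_le C.hub.mem⟩
  have hesM : ∀ p, es p ∈ M := fun p => ⟨(hesE p).1, C.core_le (hesE p).2⟩
  have hfM : ∀ q, f q ∈ M := fun q => by
    refine mul_mem (mul_mem (hesM _) ?_) (mul_mem (hgs _) ?_)
    · cases q.1.2 <;> simp [hzM, one_mem]
    · cases q.2.2 <;> simp [hnt, one_mem]
  have finj : Function.Injective f := by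
    rintro ⟨⟨p, k⟩, i, l⟩ ⟨⟨p', k'⟩, i', l'⟩ e
    have hPf : ∀ p k i l, C.P (f ((p, k), i, l)) = C.P (gs i) * cond l s12 1 := fun p k i l => by
      have m1 : es p * cond k z 1 ∈ coreAt z := by
        cases k
        · simpa using (hesE p).2
        · exact mul_mem (hesE p).2 C.hub.mem
      have m2 : cond l nt 1 ∈ C.H1 := by
        cases l
        exacts [one_mem _, hnt.2]
      show C.P (es p * cond k z 1 * (gs i * cond l nt 1)) = _
      rw [C.P_mul _ (C.core_le m1) _ (mul_mem (hgs i).2 m2), C.P_of_mem m1, one_mul,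
        C.P_mul _ (hgs i).2 _ m2]
      cases l <;> simp [hnt12, C.P_one]
    have e1 := congrArg C.P e
    rw [hPf, hPf] at e1
    have val : ∀ i l, app (C.P (gs i) * cond l s12 1) e0v 2 =
        ![0, u 2, om * u 2, u 2 + om * u 2] i := fun i l => by
      cases l
      · simp only [cond_false, mul_one]; exact hgs2 i
      · simp only [cond_true]
        rw [app_mul, app_s12, dTail_facts.2.2.2.1, one_smul, app_add, fixM _ (hgs i),
          Pi.add_apply, show v0 2 = (0 : K) by decide +kernel, add_zero]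
        exact hgs2 i
    have e2 := congrArg (fun m : M4 => app m e0v 2) e1
    simp only [val] at e2
    obtain rfl := four_inj _ hu2 i i' e2
    have hl : l = l' := by
      have e3 := mul_left_cancel e1
      have hs : s12 ≠ (1 : M4) := fun r => dTail_facts.2.2.2.2.2 (by rw [r, app_one])
      cases l <;> cases l' <;> simp [hs, hs.symm] at e3 ⊢
    subst hl
    have e3 : es p * cond k z 1 = es p' * cond k' z 1 := mul_right_cancel e
    have e4 := congrArg C.φ e3
    have hcz : ∀ k : Bool, cond k z 1 ∈ coreAt z ∧ C.φ (cond k z 1) = 0 := fun k => by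
      cases k <;> simp [C.hub.mem, C.φ_z, C.φ_one, one_mem]
    rw [C.φ_mul _ (hesE p).2 _ (hcz k).1, C.φ_mul _ (hesE p').2 _ (hcz k').1, (hcz k).2,
      (hcz k').2, add_zero, add_zero, hesφ, hesφ] at e4
    obtain ⟨r1, r2⟩ := sixteen_inj u hu0 hu2 _ _ _ _ e4
    obtain rfl : p = p' := Prod.ext r1 r2
    have e5 := mul_left_cancel e3
    have hk : k = k' := by cases k <;> cases k' <;> simp [C.z_ne, C.z_ne.symm] at e5 ⊢
    rw [hk]
  set Cz : Subgroup G := Q' ⊓ Subgroup.centralizer ({z} : Set G)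
  have hMCz : M ≤ Cz := fun w hw =>
    ⟨hw.1, Subgroup.mem_centralizer_singleton_iff.2 (C.H1_le w hw.2)⟩
  have hall : ∀ w ∈ Q', Commute w z → w ∈ C.H1 := by
    have h512 : Nat.card ↥Q' = 512 := by
      rw [hQ', Subgroup.card_map_of_injective (MulAut.conj g).injective, C.card_core]
    obtain ⟨k0, hk0, hk0z⟩ : ∃ k ∈ Q', ¬ Commute z k := h'.exists_not_commute C.z_ne hne.symm
    have hd := Subgroup.card_dvd_of_le (show Cz ≤ Q' from inf_le_left)
    rw [h512] at hd
    have hlt : Nat.card ↥Cz ≠ 512 := fun r => hk0z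
      (Subgroup.mem_centralizer_singleton_iff.1
        ((Subgroup.eq_of_le_of_card_ge (show Cz ≤ Q' from inf_le_left) (by rw [r, h512])).symm ▸ hk0 :
          k0 ∈ Cz).2).symm
    have hM : 256 ≤ Nat.card ↥M := by
      have := Nat.card_le_card_of_injective (fun q => (⟨f q, hfM q⟩ : ↥M))
        fun a c r => finj (congrArg Subtype.val r)
      simpa [Nat.card_prod, G2Four.card_K4] using this
    have hle : Nat.card ↥Cz ≤ 256 := by
      obtain ⟨i, hi, hi'⟩ := (Nat.dvd_prime_pow Nat.prime_two).1 (show Nat.card ↥Cz ∣ 2 ^ 9 from hd)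
      rw [hi'] at hlt ⊢
      have : i ≤ 8 := by
        rcases Nat.lt_or_ge i 9 with h | h
        · omega
        · obtain rfl : i = 9 := le_antisymm hi h
          norm_num at hlt
      exact (Nat.pow_le_pow_right (by norm_num) this).trans_eq (by norm_num)
    have hMeq := Subgroup.eq_of_le_of_card_ge hMCz (hle.trans hM)
    intro w hw hwz
    have : w ∈ M := hMeq ▸ ⟨hw, Subgroup.mem_centralizer_singleton_iff.2 hwz⟩
    exact this.2
  -- the conjugate over `ω v0`
  obtain ⟨p0, hp0, hp0φ⟩ := Fom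
  obtain ⟨c, hc, hcv⟩ : ∃ c ∈ C.H1, app (C.P c) v0 = om • v0 := by
    obtain ⟨m, hm⟩ := exists_app_eq (u := om • v0) (by decide +kernel) (by decide +kernel)
    obtain ⟨c, hc, rfl⟩ := C.P_surj m
    exact ⟨c, hc, hm⟩
  have hcz := C.H1_le c hc
  set g' := c * g with hg'
  set p := g' * z * g'⁻¹ with hp_def
  have hpy : p = c * y * c⁻¹ := by rw [hp_def, hg', hy_def]; group
  have hpJ : p ∈ coreAt z := hpy ▸ C.conj_mem hcz hy
  have hφp : C.φ p = om • v0 := by rw [hpy, C.φ_conj c hc y hy, hv, hcv]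
  have hpQ : p ∈ Q' := by
    rcases C.eq_or_of_φ hp0.2 hpJ (hp0φ.trans hφp.symm) with e | e <;> rw [e]
    exacts [hp0.1, mul_mem hp0.1 hzQ]
  have hpz : p ≠ z := fun e => by
    rw [e, C.φ_z] at hφp
    exact absurd hφp (by decide +kernel)
  have hyp : p ≠ y := fun e => by
    rw [e, hv] at hφp
    exact absurd hφp (by decide +kernel)
  set Q'' := (coreAt z).map (MulAut.conj g').toMonoidHom with hQ''
  have h'' : Hub Q'' p := C.hub.conj g'
  have hzQ'' : z ∈ Q'' := C.self_mem_conj' hpJ hpz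
  have hyQ'' : y ∈ Q'' := by
    have e : g' * g⁻¹ * y * (g' * g⁻¹)⁻¹ = p := by rw [hy_def, hp_def]; group
    have h1 := h'.self_mem_conj (g' * g⁻¹) (e.symm ▸ hpQ) (e.symm ▸ hyp)
      (e.symm ▸ h'.exists_noncommuting_pair
        (by rw [hQ', Subgroup.card_map_of_injective (MulAut.conj g).injective, C.card_core]; norm_num)
        hpQ h''.sq)
    rw [mem_conj_iff, mem_conj_iff] at h1
    rw [mem_conj_iff]
    convert h1 using 1
    group
  obtain ⟨k, hk, hkz, hky⟩ : ∃ k ∈ Q'', Commute k z ∧ k * y * k⁻¹ = y * p := by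
    by_contra hno
    push Not at hno
    have hcl := h''.centralizer_of_self hzQ'' hyQ'' fun w hw hwz => by
      rcases h''.comm w hw y hyQ'' with r | r
      · exact (mul_inv_eq_iff_eq_mul.1 r).symm
      · exact absurd r (hno w hw hwz)
    rcases mem_four h''.sq C.z_sq (C.comm_z hpJ) hcl with r | r | r | r
    · exact hy1 r
    · exact hyp r.symm
    · exact hne r
    · have := congrArg C.φ r
      rw [hv, C.φ_mul_z hpJ, hφp] at this
      exact absurd this (by decide +kernel)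
  have hkH : k ∈ C.H1 := by
    have h1 : c⁻¹ * k * c ∈ Q' := by
      rw [hQ'', mem_conj_iff] at hk
      rw [hQ', mem_conj_iff]
      rw [hg'] at hk
      convert hk using 1
      group
    have := mul_mem (mul_mem hc
      (hall _ h1 ((hcz.inv_left.mul_left hkz).mul_left hcz))) (inv_mem hc)
    rwa [show c * (c⁻¹ * k * c) * c⁻¹ = k by group] at this
  have h1 : app (C.P k) v0 = v0 + om • v0 := by
    rw [← hv, ← C.φ_conj k hkH y hy, hky, C.φ_mul y hy p hpJ, hφp, hv]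
  have h2 : app (C.P k) (om • v0) = om • v0 := by
    rw [← hφp, ← C.φ_conj k hkH p hpJ, (h''.central k hk).eq, mul_inv_cancel_right]
  rw [app_smul, h1] at h2
  exact absurd h2 (by decide +kernel)

/-- `z` is the only conjugate of itself in `O₂(C(z))`. -/
theorem conj_eq_of_mem {g : G} (hy : g * z * g⁻¹ ∈ coreAt z) : g * z * g⁻¹ = z := by
  by_contra hne
  have hy1 : g * z * g⁻¹ ≠ 1 := fun e => C.z_ne (conj_eq_one_iff.1 e)
  obtain ⟨m, hm⟩ := exists_app_eq (fun h => ((C.φ_ker _ hy).1 h).elim hy1 hne)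
    ((C.φ_sq _ hy).1 (C.hub.conj g).sq)
  obtain ⟨c, hc, rfl⟩ := C.P_surj m
  have hcz := C.H1_le c hc
  have e : c⁻¹ * g * z * (c⁻¹ * g)⁻¹ = c⁻¹ * (g * z * g⁻¹) * c⁻¹⁻¹ := by group
  refine C.false_of_conj_v0 (g := c⁻¹ * g) ?_ ?_ ?_
  · rw [e]; exact C.conj_mem hcz.inv_left hy
  · intro h
    apply hne
    rw [e] at h
    calc g * z * g⁻¹ = c * (c⁻¹ * (g * z * g⁻¹) * c⁻¹⁻¹) * c⁻¹ := by group
      _ = z := by rw [h, hcz.eq, mul_inv_cancel_right]
  · rw [e, C.φ_conj _ (inv_mem hc) _ hy, ← hm, C.P_inv hc, app_inv_app]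

end SCoord

end Cfsg.Agent.U6Local
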