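import Cfsg.Agent.Lib.U6Local.Cases
import Cfsg.Agent.Lib.U6Local.SemiCore
import Cfsg.Agent.Lib.U6Local.OuterPlane
import Cfsg.Agent.Lib.U6Local.Aut

/-!
# `C(z) = 2^{1+8}.Aut U₄(2)`: a subgroup of index 2 or `z` isolated

`outer_reduce`: either `z` is isolated, or some subgroup `G₁` of index 2 contains `z` with
`C_{G₁}(z)` an extension of `O₂(C(z))` by `U₄(2)`.
-/

set_option autoImplicit false

namespace Cfsg.Agent.U6Local

open LargeExtraspecial Subgroup
open scoped commutatorElement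

theorem isotropic_sum : ∀ x : V4, ∃ u : V4, hh u u = 0 ∧ hh (x + u) (x + u) = 0 := by decide +kernel

variable {G : Type*} [Group G] [Finite G] {z : G}

/-- The derived group argument: a homomorphism into an abelian group that is trivial on the
commutators is trivial on `H1`. -/
theorem SCoord.map_H1_eq_one (C : SCoord z) {A : Type*} [CommGroup A] (T : G →* A) {c : G}
    (hc : c ∈ C.H1) : T c = 1 := by
  classical
  obtain ⟨p, hp, q, hq, -, -, hpq⟩ := C.hub.exists_noncommuting_pair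
    (by rw [C.card_core]; norm_num) (one_mem (coreAt z)) (one_mul 1)
  have hTz : T z = 1 := by
    have e := congrArg T ((C.hub.comm p hp q hq).resolve_left fun r =>
      hpq (mul_inv_eq_iff_eq_mul.1 r))
    rw [map_mul, map_mul, map_mul, map_inv, mul_comm (T p), mul_inv_cancel_right] at e
    exact mul_eq_left.mp e.symm
  have comm1 : ∀ a b : G, T (a * b * a⁻¹ * b⁻¹) = 1 := fun a b => by
    simp [map_mul, map_inv, mul_comm (T a)]
  let S : V4 → Prop := fun x => ∃ j ∈ coreAt z, C.φ j = x ∧ T j = 1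
  have Sadd : ∀ {x y : V4}, S x → S y → S (x + y) := by
    rintro x y ⟨j, hj, rfl, hT⟩ ⟨k, hk, rfl, hT'⟩
    exact ⟨j * k, mul_mem hj hk, C.φ_mul j hj k hk, by rw [map_mul, hT, hT', one_mul]⟩
  have Smove : ∀ (m : M4) (x : V4), S (app m x + x) := by
    intro m x
    obtain ⟨c, hc, rfl⟩ := C.P_surj m
    obtain ⟨j, hj, rfl⟩ := C.φ_surj x
    have hm := C.conj_mem (C.H1_le c hc) hj
    exact ⟨c * j * c⁻¹ * j⁻¹, mul_mem hm (inv_mem hj),
      by rw [C.φ_mul _ hm _ (inv_mem hj), C.φ_conj c hc j hj, C.φ_inv hj], comm1 c j⟩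
  have Siso : ∀ u : V4, hh u u = 0 → S u := by
    intro u hu
    by_cases hu0 : u = 0
    · subst hu0; exact ⟨1, one_mem _, C.φ_one, map_one T⟩
    obtain ⟨m, rfl⟩ := exists_app_eq hu0 hu
    have h1 := Smove (m * s12 * m⁻¹) (app m e0v)
    rwa [app_mul, app_mul, app_inv_app, app_s12, dTail_facts.2.2.2.1, one_smul, app_add,
      add_comm (app m e0v), add_assoc, vec_add_self, add_zero] at h1
  have hJ : ∀ j ∈ coreAt z, T j = 1 := by
    intro j hj
    obtain ⟨u, hu, hu'⟩ := isotropic_sum (C.φ j)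
    obtain ⟨k, hk, hke, hT⟩ : S (C.φ j) := by
      have := Sadd (Siso _ hu') (Siso u hu)
      rwa [add_assoc, vec_add_self, add_zero] at this
    rcases C.eq_or_of_φ hk hj hke with r | r <;> rw [r]
    · exact hT
    · rw [map_mul, hT, hTz, one_mul]
  let N : Subgroup M4 :=
    { carrier := {m | ∃ c ∈ C.H1, C.P c = m ∧ T c = 1}
      one_mem' := ⟨1, one_mem _, C.P_one, map_one T⟩
      mul_mem' := by
        rintro _ _ ⟨a, ha, rfl, hT⟩ ⟨b, hb, rfl, hT'⟩
        exact ⟨a * b, mul_mem ha hb, C.P_mul a ha b hb, by rw [map_mul, hT, hT', one_mul]⟩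
      inv_mem' := by
        rintro _ ⟨a, ha, rfl, hT⟩
        exact ⟨a⁻¹, inv_mem ha, C.P_inv ha, by rw [map_inv, hT, inv_one]⟩ }
  have hN : ⊤ ≤ N := by
    rw [← commutator_M4, commutator_def, Subgroup.commutator_le]
    intro a _ b _
    obtain ⟨c, hc, rfl⟩ := C.P_surj a
    obtain ⟨d, hd, rfl⟩ := C.P_surj b
    refine ⟨c * d * c⁻¹ * d⁻¹, mul_mem (mul_mem (mul_mem hc hd) (inv_mem hc)) (inv_mem hd), ?_,
      comm1 c d⟩
    rw [C.P_mul _ (mul_mem (mul_mem hc hd) (inv_mem hc)) _ (inv_mem hd),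
      C.P_mul _ (mul_mem hc hd) _ (inv_mem hc), C.P_mul _ hc _ hd, C.P_inv hc, C.P_inv hd,
      commutatorElement_def]
  obtain ⟨d, hd, hdP, hdT⟩ := hN (Subgroup.mem_top (C.P c))
  have hcd : d⁻¹ * c ∈ coreAt z := by
    rw [← C.P_ker _ (mul_mem (inv_mem hd) hc), C.P_mul _ (inv_mem hd) _ hc, C.P_inv hd, hdP,
      inv_mul_cancel]
  have := hJ _ hcd
  rwa [map_mul, map_inv, hdT, inv_one, one_mul] at this

/-- In the natural case with an outer part there is a subgroup of index 2 meeting `C(z)` in `H1`. -/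
theorem SCoord.exists_index_two (C : SCoord z) (hout : ∃ c, Commute c z ∧ c ∉ C.H1) :
    ∃ G₁ : Subgroup G, G₁.Normal ∧ G₁.index = 2 ∧ (∀ c, Commute c z → (c ∈ G₁ ↔ c ∈ C.H1)) ∧
      ∃ c, Commute c z ∧ c ∉ G₁ := by
  classical
  set o : Multiplicative (ZMod 2) := Multiplicative.ofAdd 1
  have hsq2 : ∀ v : Multiplicative (ZMod 2), v * v = 1 := by decide
  have hval : ∀ v : Multiplicative (ZMod 2), v ≠ 1 → v = o := by decide
  have hmH : ∀ {c : G}, c ∈ centralizer ({z} : Set G) ↔ Commute c z := fun {c} =>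
    mem_centralizer_singleton_iff
  let χ : ↥(centralizer ({z} : Set G)) →* Multiplicative (ZMod 2) :=
    MonoidHom.mk' (fun c => if (c : G) ∈ C.H1 then 1 else o) fun c d => by
      by_cases hc : (c : G) ∈ C.H1 <;> by_cases hd : (d : G) ∈ C.H1
      · simp [hc, hd, mul_mem hc hd]
      · have : (c : G) * d ∉ C.H1 := fun r => hd (by
          have := mul_mem (inv_mem hc) r
          rwa [inv_mul_cancel_left] at this)
        simp [hc, hd, this]
      · have : (c : G) * d ∉ C.H1 := fun r => hc (by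
          have := mul_mem r (inv_mem hd)
          rwa [mul_inv_cancel_right] at this)
        simp [hc, hd, this]
      · simp [hc, hd, C.half _ _ (hmH.1 c.2) (hmH.1 d.2) hc hd]
        exact (hsq2 o).symm
  set T := MonoidHom.transfer χ
  obtain ⟨c1, hc1, hc1T⟩ : ∃ c, Commute c z ∧ T c ≠ 1 := by
    refine exists_commute_value_ne C.hub C.isTwo T (fun g => hsq2 _) ?_
    by_contra hno
    push Not at hno
    obtain ⟨c, hc, hcn⟩ := hout
    have := C.hub.hom_eq_one_of_wc_of_transfer C.le_cent (by rw [C.card_core]; norm_num)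
      (fun g hg => C.conj_eq_of_mem hg) χ
      (fun q hq => by
        rw [extOne_of_mem χ (C.le_cent hq)]; exact if_pos (C.core_le hq))
      hno (fun a => hsq2 _) (fun a b ha hb => (hval _ ha).trans (hval _ hb).symm) ⟨c, hmH.2 hc⟩
    change (if c ∈ C.H1 then 1 else o) = 1 at this
    rw [if_neg hcn] at this
    exact absurd this (by decide)
  refine ⟨T.ker, inferInstance, ?_, fun c hc => ⟨fun h => by_contra fun hcn => ?_,
    fun h => C.map_H1_eq_one T h⟩, c1, hc1, hc1T⟩
  · rw [Subgroup.index_ker, show T.range = ⊤ from eq_top_iff.2 fun v _ => ?_, Subgroup.card_top]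
    · simp
    · by_cases hv : v = 1
      · exact hv ▸ one_mem _
      · exact ⟨c1, (hval _ hc1T).trans (hval _ hv).symm⟩
  · have hm := C.map_H1_eq_one T (C.half _ _ hc hc1 hcn fun r => hc1T (C.map_H1_eq_one T r))
    rw [map_mul, MonoidHom.mem_ker.1 h, one_mul] at hm
    exact hc1T hm

/-- The plane case: the plane is normalised by `C(z)`. -/
theorem isolated_of_cases_plane (hz : orderOf z = 2) (h : Hub (coreAt z) z)
    (hle : coreAt z ≤ centralizer ({z} : Set G)) (h2 : IsPGroup 2 ↥(coreAt z))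
    (hcard : Nat.card ↥(coreAt z) = 512) (H1 : Subgroup G) (H1_le : ∀ c ∈ H1, Commute c z)
    (core_le : coreAt z ≤ H1)
    (half : ∀ c d : G, Commute c z → Commute d z → c ∉ H1 → d ∉ H1 → c * d ∈ H1)
    (hnorm : ∀ c, Commute c z → ∀ d ∈ H1, c * d * c⁻¹ ∈ H1) (hout : ∃ c, Commute c z ∧ c ∉ H1)
    (Y : Subgroup G) (hY : Y ≤ coreAt z) (hzY : z ∈ Y) (hYc : Nat.card ↥Y = 8)
    (hnc : ∃ a ∈ Y, ∃ b ∈ Y, ¬ Commute a b)
    (hfix : ∀ c ∈ H1, ∀ y ∈ Y, c * y * c⁻¹ = y ∨ c * y * c⁻¹ = y * z)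
    (hgen : coreAt z ≤ Y ⊔ ⁅H1, coreAt z⁆) (hperf : H1 ≤ coreAt z ⊔ ⁅H1, H1⁆) :
    Cfsg.IsIsolatedInvolution z := by
  classical
  obtain ⟨a, ha, b, hb, hab⟩ := hnc
  have haJ := hY ha
  have hbJ := hY hb
  -- a vector fixed by `H1` lies in the plane
  have hmem : ∀ j ∈ coreAt z, (∀ c ∈ H1, c * j * c⁻¹ = j ∨ c * j * c⁻¹ = j * z) → j ∈ Y := by
    intro j hj hfj
    have key : ∀ {m e : G}, m ∈ coreAt z → e ∈ coreAt z → ¬ Commute m e → ¬ Commute j e →
        Commute (m⁻¹ * j) e := fun {m e} hm he hn hnj => mul_inv_eq_iff_eq_mul.1 (by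
      have mv : ∀ {w : G}, w ∈ coreAt z → ¬ Commute w e → w * e * w⁻¹ = e * z := fun hw hn' =>
        (h.comm _ hw e he).resolve_left fun r => hn' (mul_inv_eq_iff_eq_mul.1 r)
      calc m⁻¹ * j * e * (m⁻¹ * j)⁻¹ = m⁻¹ * (j * e * j⁻¹) * m := by group
        _ = m⁻¹ * (m * e * m⁻¹) * m := by rw [mv hj hnj, mv hm hn]
        _ = e := by group)
    obtain ⟨m, hm, hma, hmb⟩ : ∃ m ∈ Y, Commute (m⁻¹ * j) a ∧ Commute (m⁻¹ * j) b := by
      have hba : ¬ Commute b a := fun r => hab r.symm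
      have n1 : ¬ Commute (a * b) a := fun r => hab (by
        have := (Commute.refl a).inv_left.mul_left r
        rw [inv_mul_cancel_left] at this; exact this.symm)
      have n2 : ¬ Commute (a * b) b := fun r => hab (by
        have := r.mul_left (Commute.refl b).inv_left
        rwa [mul_inv_cancel_right] at this)
      by_cases h1 : Commute j a <;> by_cases h2 : Commute j b
      · exact ⟨1, one_mem _, by simpa using h1, by simpa using h2⟩
      · exact ⟨a, ha, (Commute.refl a).inv_left.mul_left h1, key haJ hbJ hab h2⟩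
      · exact ⟨b, hb, key hbJ haJ hba h1, (Commute.refl b).inv_left.mul_left h2⟩
      · exact ⟨a * b, mul_mem ha hb, key (mul_mem haJ hbJ) haJ n1 h1,
          key (mul_mem haJ hbJ) hbJ n2 h2⟩
    set r := m⁻¹ * j
    have hrJ : r ∈ coreAt z := mul_mem (inv_mem (hY hm)) hj
    have hrf : ∀ c ∈ H1, c * r * c⁻¹ = r ∨ c * r * c⁻¹ = r * z := by
      intro c hc
      rw [show c * r * c⁻¹ = (c * m * c⁻¹)⁻¹ * (c * j * c⁻¹) by simp only [r]; group]
      rcases hfix c hc m hm with e | e <;> rcases hfj c hc with e' | e' <;> rw [e, e']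
      · exact Or.inl rfl
      · exact Or.inr (by simp only [r]; group)
      · right
        rw [mul_inv_rev, h.inv_z, mul_assoc, ← (h.central _ hrJ).eq]
      · left
        rw [mul_inv_rev, h.inv_z, mul_assoc, ← mul_assoc m⁻¹ j z,
          show m⁻¹ * j * z = z * r from (h.central _ hrJ).eq, ← mul_assoc, h.sq, one_mul]
    -- `r` centralises the generators of the core
    let Kr : Subgroup G := centralizer ({r} : Set G)
    have hYr : Y ≤ Kr := by
      intro y hy
      let S5 : Finset G := {1, z, a, b, a * b}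
      let Sg : Subgroup G := Subgroup.closure ({a, b, z} : Set G)
      have hSY : Sg ≤ Y := (Subgroup.closure_le _).2 (by
        rintro w (rfl | rfl | rfl)
        exacts [ha, hb, hzY])
      have hza : a ≠ z := fun e => hab (e ▸ (h.central b hbJ).symm)
      have hzb : b ≠ z := fun e => hab (e ▸ h.central a haJ)
      have hz1 : z ≠ 1 := h.ne_one
      have ha1 : a ≠ 1 := fun e => hab (e ▸ Commute.one_left b)
      have hb1 : b ≠ 1 := fun e => hab (e ▸ Commute.one_right a)
      have hcard5 : S5.card = 5 := by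
        have e1 : a ≠ b := fun e => hab (e ▸ Commute.refl a)
        have e2 : a * b ≠ 1 := fun e => hab (by
          rw [← inv_eq_of_mul_eq_one_right e]; exact (Commute.refl a).inv_right)
        have e3 : a * b ≠ z := fun e => hab (by
          rw [show b = a⁻¹ * z by rw [← e, inv_mul_cancel_left]]
          exact (Commute.refl a).inv_right.mul_right (h.central a haJ))
        have e4 : a * b ≠ a := fun e => hb1 (mul_eq_left.1 e)
        have e5 : a * b ≠ b := fun e => ha1 (mul_eq_right.1 e)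
        simp [S5, hz1.symm, ha1.symm, hb1.symm, e2.symm, hza.symm, hzb.symm, e3.symm, e1,
          e4.symm, e5.symm]
      have h5 : 5 ≤ Nat.card ↥Sg := by
        rw [← hcard5, ← Nat.card_eq_finsetCard]
        refine Nat.card_le_card_of_injective (fun w : S5 => (⟨w, ?_⟩ : ↥Sg))
          fun u v e => Subtype.ext (congrArg (fun t : ↥Sg => (t : G)) e)
        have := w.2
        simp only [S5, Finset.mem_insert, Finset.mem_singleton] at this
        rcases this with e | e | e | e | e <;> rw [e]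
        exacts [one_mem _, subset_closure (by simp), subset_closure (by simp),
          subset_closure (by simp), mul_mem (subset_closure (by simp)) (subset_closure (by simp))]
      have hd := Subgroup.card_dvd_of_le hSY
      rw [hYc] at hd
      obtain ⟨i, hi, hi'⟩ := (Nat.dvd_prime_pow Nat.prime_two).1 (show _ ∣ 2 ^ 3 from hd)
      have hi3 : i = 3 := by
        by_contra hne
        have := Nat.pow_le_pow_right (show 1 ≤ 2 by norm_num) (show i ≤ 2 by omega)
        omega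
      have heq : Sg = Y := Subgroup.eq_of_le_of_card_ge hSY (by rw [hYc, hi', hi3]; norm_num)
      rw [← heq] at hy
      refine (Subgroup.closure_le Kr).2 ?_ hy
      rintro w (rfl | rfl | rfl)
      exacts [mem_centralizer_singleton_iff.2 hma.symm.eq, mem_centralizer_singleton_iff.2 hmb.symm.eq,
        mem_centralizer_singleton_iff.2 (h.central r hrJ).symm.eq]
    have hcr : ⁅H1, coreAt z⁆ ≤ Kr := by
      rw [Subgroup.commutator_le]
      intro c hc k hk
      rw [mem_centralizer_singleton_iff, commutatorElement_def]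
      refine (Commute.eq ?_)
      have hck : c * k * c⁻¹ ∈ coreAt z := h.normalizes c (H1_le c hc) k hk
      have e1 : c * k * c⁻¹ * r * (c * k * c⁻¹)⁻¹ = k * r * k⁻¹ := by
        have e : c⁻¹ * r * c = r ∨ c⁻¹ * r * c = r * z := by
          simpa using hrf c⁻¹ (inv_mem hc)
        rcases e with e | e <;> rcases h.comm k hk r hrJ with e' | e' <;>
          rw [show c * k * c⁻¹ * r * (c * k * c⁻¹)⁻¹ = c * (k * (c⁻¹ * r * c) * k⁻¹) * c⁻¹ by group,
            e]
        · rw [e']; conv_lhs => rw [← e]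
          group
        · rw [e', show c * (r * z) * c⁻¹ = c * (c⁻¹ * r * c * z) * c⁻¹ by rw [e],
            show c * (c⁻¹ * r * c * z) * c⁻¹ = r * (c * z * c⁻¹) by group,
            (H1_le c hc).eq, mul_inv_cancel_right]
        · rw [show k * (r * z) * k⁻¹ = k * r * k⁻¹ * (k * z * k⁻¹) by group, e',
            (h.central k hk).eq, mul_inv_cancel_right, show c * (r * z) * c⁻¹ =
              c * (c⁻¹ * r * c) * c⁻¹ by rw [e]]
          group
        · rw [show k * (r * z) * k⁻¹ = k * r * k⁻¹ * (k * z * k⁻¹) by group, e',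
            (h.central k hk).eq, mul_inv_cancel_right,
            show r * z * z = r by rw [mul_assoc, h.sq, mul_one]]
          calc c * r * c⁻¹ = c * (r * z * z) * c⁻¹ := by rw [mul_assoc r z, h.sq, mul_one]
            _ = c * (c⁻¹ * r * c * z) * c⁻¹ := by rw [e]
            _ = r * (c * z * c⁻¹) := by group
            _ = r * z := by rw [(H1_le c hc).eq, mul_inv_cancel_right]
      refine mul_inv_eq_iff_eq_mul.1 ?_
      calc c * k * c⁻¹ * k⁻¹ * r * (c * k * c⁻¹ * k⁻¹)⁻¹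
          = c * k * c⁻¹ * (k⁻¹ * r * k⁻¹⁻¹) * (c * k * c⁻¹)⁻¹ := by group
        _ = r := by
          rcases h.comm k⁻¹ (inv_mem hk) r hrJ with e | e <;> rw [e]
          · rw [e1]
            have := congrArg (fun t => k * t * k⁻¹) e
            simp only [inv_inv] at this
            rw [← this]; group
          · rw [show c * k * c⁻¹ * (r * z) * (c * k * c⁻¹)⁻¹ =
              c * k * c⁻¹ * r * (c * k * c⁻¹)⁻¹ * (c * k * c⁻¹ * z * (c * k * c⁻¹)⁻¹) by group, e1,
              (h.central _ hck).eq, mul_inv_cancel_right]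
            have := congrArg (fun t => k * t * k⁻¹) e
            rw [inv_inv] at this
            calc k * r * k⁻¹ * z = k * (r * z) * k⁻¹ := by
                  rw [show k * (r * z) * k⁻¹ = k * r * k⁻¹ * (k * z * k⁻¹) by group,
                    (h.central k hk).eq, mul_inv_cancel_right]
              _ = r := by rw [← this]; group
    have hall := hgen.trans (sup_le hYr hcr)
    have hrY : r ∈ Y := by
      rcases h.self r (fun q hq => (Commute.symm (mem_centralizer_singleton_iff.1 (hall hq)))) with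
        e | e <;> rw [e]
      exacts [one_mem _, hzY]
    have := mul_mem hm hrY
    rwa [mul_inv_cancel_left] at this
  have hnormY : ∀ c, Commute c z → ∀ y ∈ Y, c * y * c⁻¹ ∈ Y := by
    intro c hc y hy
    refine hmem _ (h.normalizes c hc y (hY hy)) fun d hd => ?_
    have hd' := hnorm c⁻¹ hc.inv_left d hd
    rw [inv_inv] at hd'
    rw [show d * (c * y * c⁻¹) * d⁻¹ = c * (c⁻¹ * d * c * y * (c⁻¹ * d * c)⁻¹) * c⁻¹ by group]
    rcases hfix _ hd' y hy with e | e <;> rw [e]
    · exact Or.inl rfl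
    · exact Or.inr (by
        rw [show c * (y * z) * c⁻¹ = c * y * c⁻¹ * (c * z * c⁻¹) by group, hc.eq,
          mul_inv_cancel_right])
  have hperf' : H1 ≤ Y ⊔ ⁅H1, H1⁆ := hperf.trans (sup_le
    (hgen.trans (sup_le_sup_left (Subgroup.commutator_mono le_rfl core_le) _)) le_sup_right)
  exact Plane.isolated { hub := h, le_cent := hle, isTwo := h2, card_core := by rw [hcard]; norm_num,
                         H1 := H1, H1_le := H1_le, core_le := core_le, half := half, outer := hout,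
                         Y := Y, Y_le := hY, z_mem := hzY, card_Y := hYc, a := a, b := b,
                         a_mem := ha, b_mem := hb, not_comm := hab, fix := hfix, norm := hnormY,
                         perf := hperf' } hz

theorem pCore_two_M4 : Cfsg.pCore 2 M4 = ⊥ := by
  have : Fact (Nat.Prime 2) := ⟨Nat.prime_two⟩
  haveI := simple_M4
  refine (Subgroup.Normal.eq_bot_or_eq_top inferInstance).resolve_right fun e => ?_
  obtain ⟨k, hk⟩ := IsPGroup.iff_card.1 (PCore.pCore_eq_top_iff.1 e)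
  rw [card_M4] at hk
  have h3 : 3 ∣ 2 ^ k := by rw [← hk]; norm_num
  exact absurd (Nat.Prime.dvd_of_dvd_pow Nat.prime_three h3) (by norm_num)

/-- `z` isolated, or a normal subgroup of index 2 with the hypotheses of the inner case. -/
theorem outer_reduce (hz : orderOf z = 2) (h : Hub (coreAt z) z)
    (hle : coreAt z ≤ centralizer ({z} : Set G))
    (hext : Cfsg.IsExtraspecial 2 ↥(coreAt z)) (hcard : Nat.card ↥(coreAt z) = 512)
    (π : ↥(centralizer ({z} : Set G)) →* MulAut M4) (hsurj : Function.Surjective π)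
    (hker : ∀ c : ↥(centralizer ({z} : Set G)), π c = 1 ↔ (c : G) ∈ coreAt z) :
    Cfsg.IsIsolatedInvolution z ∨
      ∃ (G₁ : Subgroup G) (hz₁ : z ∈ G₁), G₁.Normal ∧ G₁.index = 2 ∧
        centralizer ({z} : Set G) ⊔ G₁ = ⊤ ∧ coreAt z ≤ G₁ ∧
        ∃ θ : ↥(centralizer ({(⟨z, hz₁⟩ : ↥G₁)} : Set ↥G₁)) →* M4, Function.Surjective θ ∧
          Cfsg.IsExtraspecial 2 ↥θ.ker ∧ Nat.card ↥θ.ker = 512 ∧
          centralizer (θ.ker : Set ↥(centralizer ({(⟨z, hz₁⟩ : ↥G₁)} : Set ↥G₁))) ≤ θ.ker := by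
  classical
  revert π hsurj hker
  set H := centralizer ({z} : Set G)
  intro π hsurj hker
  have hH : ∀ {g : G}, g ∈ H ↔ Commute g z := fun {g} => mem_centralizer_singleton_iff
  have h2 : IsPGroup 2 ↥(coreAt z) := hext.1.1
  set I := (MulAut.conj : M4 →* MulAut M4).range with hI
  have hinj : Function.Injective (MulAut.conj : M4 →* MulAut M4) := by
    rw [injective_iff_map_eq_one]
    intro g hg
    rw [← Subgroup.mem_bot, ← center_M4, Subgroup.mem_center_iff]
    intro m
    have := DFunLike.congr_fun hg m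
    simp only [MulAut.conj_apply, MulAut.one_apply, mul_inv_eq_iff_eq_mul] at this
    exact this.symm
  set H1 : Subgroup G := (I.comap π).map H.subtype
  have hm1 : ∀ {g : G}, g ∈ H1 ↔ ∃ hg : g ∈ H, π ⟨g, hg⟩ ∈ I := by
    intro g
    constructor
    · rintro ⟨c, hc, rfl⟩; exact ⟨c.2, hc⟩
    · rintro ⟨hg, hc⟩; exact ⟨⟨g, hg⟩, hc, rfl⟩
  have H1_le : ∀ c ∈ H1, Commute c z := fun c hc => hH.1 (hm1.1 hc).1
  have core_le : coreAt z ≤ H1 := fun j hj => hm1.2 ⟨hle hj, by
    rw [(hker ⟨j, hle hj⟩).2 hj]; exact one_mem _⟩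
  obtain ⟨⟨α, hα⟩, hhalf⟩ := aut_M4
  have half : ∀ c d : G, Commute c z → Commute d z → c ∉ H1 → d ∉ H1 → c * d ∈ H1 := by
    intro c d hc hd hcn hdn
    refine hm1.2 ⟨H.mul_mem (hH.2 hc) (hH.2 hd), ?_⟩
    rw [show (⟨c * d, H.mul_mem (hH.2 hc) (hH.2 hd)⟩ : ↥H) = ⟨c, hH.2 hc⟩ * ⟨d, hH.2 hd⟩ from rfl,
      map_mul]
    exact hhalf _ _ (fun r => hcn (hm1.2 ⟨hH.2 hc, r⟩)) fun r => hdn (hm1.2 ⟨hH.2 hd, r⟩)
  have hout : ∃ c, Commute c z ∧ c ∉ H1 := by
    obtain ⟨c, rfl⟩ := hsurj α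
    exact ⟨c, hH.1 c.2, fun r => hα (hm1.1 r).2⟩
  let π1 : ↥H1 →* M4 := (MonoidHom.ofInjective hinj).symm.toMonoidHom.comp
    (MonoidHom.mk' (fun c : ↥H1 => (⟨π ⟨c, (hm1.1 c.2).1⟩, (hm1.1 c.2).2⟩ : ↥I)) fun c d =>
      Subtype.ext (by
        show π ⟨(c : G) * d, _⟩ = π ⟨c, _⟩ * π ⟨d, _⟩
        rw [← map_mul]
        rfl))
  have hπ1 : ∀ c : ↥H1, MulAut.conj (π1 c) = π ⟨c, (hm1.1 c.2).1⟩ := fun c =>
    congrArg Subtype.val ((MonoidHom.ofInjective hinj).apply_symm_apply _)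
  have hs1 : Function.Surjective π1 := fun m => by
    obtain ⟨c, hc⟩ := hsurj (MulAut.conj m)
    have hc1 : (c : G) ∈ H1 := hm1.2 ⟨c.2, hc ▸ ⟨m, rfl⟩⟩
    exact ⟨⟨c, hc1⟩, hinj ((hπ1 _).trans hc)⟩
  have hk1 : ∀ c : ↥H1, π1 c = 1 ↔ (c : G) ∈ coreAt z := fun c => by
    rw [← hinj.eq_iff, hπ1, map_one]
    exact hker _
  rcases cases_sub hz h H1_le core_le hcard π1 hs1 hk1 with
    ⟨P, φ, hm, hs, hk, φm, φs, φk, φq, φc⟩ | ⟨Y, hY, hzY, hYc, hnc, hfix, hgen, hperf⟩
  swap
  · refine Or.inl (isolated_of_cases_plane hz h hle h2 hcard H1 H1_le core_le half ?_ hout Y hY hzY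
      hYc hnc hfix hgen hperf)
    intro c hc d hd
    obtain ⟨hdH, hdI⟩ := hm1.1 hd
    have hmem : c * d * c⁻¹ ∈ H := H.mul_mem (H.mul_mem (hH.2 hc) hdH) (H.inv_mem (hH.2 hc))
    refine hm1.2 ⟨hmem, ?_⟩
    rw [show (⟨c * d * c⁻¹, hmem⟩ : ↥H) = ⟨c, hH.2 hc⟩ * ⟨d, hdH⟩ * ⟨c, hH.2 hc⟩⁻¹ from rfl,
      map_mul, map_mul, map_inv]
    obtain ⟨g, hg⟩ := hdI
    refine ⟨π ⟨c, hH.2 hc⟩ g, ?_⟩
    rw [← hg]
    ext x
    simp [MulAut.conj_apply]
  right
  let C : SCoord z :=
    { hub := h, le_cent := hle, isTwo := h2, card_core := hcard, H1 := H1, H1_le := H1_le,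
      core_le := core_le, half := half, P := P, P_mul := hm, P_surj := hs, P_ker := hk, φ := φ,
      φ_mul := φm, φ_surj := φs, φ_ker := φk, φ_sq := φq, φ_conj := φc }
  obtain ⟨G₁, hn, hidx, hG, c1, hc1, hc1G⟩ := C.exists_index_two hout
  have hJG : coreAt z ≤ G₁ := fun j hj => (hG j (h.central j hj)).2 (core_le hj)
  refine ⟨G₁, hJG h.mem, hn, hidx, ?_, hJG, ?_⟩
  · refine eq_top_iff.2 fun g _ => ?_
    by_cases hg : g ∈ G₁
    · exact mem_sup_right hg
    have hc1' : c1⁻¹ * g ∈ G₁ := by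
      rw [Subgroup.mul_mem_iff_of_index_two hidx, inv_mem_iff]
      exact iff_of_false hc1G hg
    have := mul_mem (mem_sup_left (hH.2 hc1) : c1 ∈ H ⊔ G₁) (mem_sup_right hc1')
    rwa [mul_inv_cancel_left] at this
  set K := centralizer ({(⟨z, hJG h.mem⟩ : ↥G₁)} : Set ↥G₁)
  have hK : ∀ c : ↥K, ((c : ↥G₁) : G) ∈ H1 := fun c => by
    have := congrArg Subtype.val (mem_centralizer_singleton_iff.1 c.2)
    exact (hG _ this).1 (c : ↥G₁).2
  let θ : ↥K →* M4 := π1.comp (MonoidHom.mk' (fun c : ↥K => (⟨((c : ↥G₁) : G), hK c⟩ : ↥H1))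
    fun _ _ => rfl)
  have hθ : ∀ c : ↥K, c ∈ θ.ker ↔ ((c : ↥G₁) : G) ∈ coreAt z := fun c => hk1 _
  have hKmem : ∀ j : G, ∀ hj : j ∈ coreAt z, (⟨j, hJG hj⟩ : ↥G₁) ∈ K := fun j hj =>
    mem_centralizer_singleton_iff.2 (Subtype.ext (h.central j hj).eq)
  let eker : ↥(coreAt z) ≃* ↥θ.ker :=
    { toFun := fun j => ⟨⟨⟨j, hJG j.2⟩, hKmem j j.2⟩, (hθ _).2 j.2⟩
      invFun := fun c => ⟨((c : ↥K) : ↥G₁), (hθ _).1 c.2⟩
      left_inv := fun _ => rfl
      right_inv := fun _ => rfl
      map_mul' := fun _ _ => rfl }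
  refine ⟨θ, fun m => ?_, TI.isExtraspecial_congr eker hext,
    (Nat.card_congr eker.toEquiv).symm.trans hcard, fun c hc => (hθ c).2 ?_⟩
  · obtain ⟨d, hd⟩ := hs1 m
    have hdG : (d : G) ∈ G₁ := (hG _ (H1_le _ d.2)).2 d.2
    exact ⟨⟨⟨d, hdG⟩, mem_centralizer_singleton_iff.2 (Subtype.ext (H1_le _ d.2).eq)⟩, hd⟩
  · rcases h.self ((c : ↥G₁) : G) (fun q hq => by
      exact (congrArg (fun w : ↥K => ((w : ↥G₁) : G))
        (mem_centralizer_iff.1 hc ⟨⟨q, hJG hq⟩, hKmem q hq⟩ ((hθ _).2 hq))).symm) with e | e <;>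
      rw [e]
    exacts [one_mem _, h.mem]

end Cfsg.Agent.U6Local
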