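import Cfsg.Agent.Lib.U6Local.Model

/-!
# The monomial subgroup `3³:S₄` of `U₄(2)`

* `dd`: the diagonal torus, indexed by `TT = (ZMod 3)³`; `chi`: the pairing with characters;
* `gs`, `tt`: the transpositions and the transvection at `(1,1,1,1)`;
* `eq_top_of_gens`, `eq_top_of_triflections`: generation of `M4`.
-/

set_option autoImplicit false

namespace Cfsg.Agent.U6Local

open Matrix

/-- The torus and its characters. -/
abbrev TT := ZMod 3 × ZMod 3 × ZMod 3

/-- The pairing. -/
def chi (e x : TT) : ZMod 3 := e.1 * x.1 + e.2.1 * x.2.1 + e.2.2 * x.2.2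

/-- `ω ^ a`. -/
def omp (a : ZMod 3) : K := if a = 0 then 1 else if a = 1 then om else om ^ 2

/-- The exponents of a torus element. -/
def expo (x : TT) : Fin 4 → ZMod 3 := ![x.1, x.2.1, x.2.2, -(x.1 + x.2.1 + x.2.2)]

theorem dd_mat : ∀ x : TT,
    (monMat (fun i => omp (expo x i)) id).det = 1 ∧
      (monMat (fun i => omp (expo x i)) id)ᵀ * (monMat (fun i => omp (expo x i)) id).map (· ^ 2) = 1 := by
  decide +kernel

/-- The torus. -/
def dd (x : TT) : M4 :=
  ofMat (monMat (fun i => omp (expo x i)) id) (dd_mat x).1 (dd_mat x).2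

theorem dd_add : ∀ x y : TT, dd (x + y) = dd x * dd y := by decide +kernel

theorem dd_zero : dd 0 = 1 := by decide +kernel

theorem dLast_eq : dd (1, 1, 1) = dLast := by decide +kernel

/-- `(23)`. -/
def s23 : M4 := ofMat (monMat 1 ![0, 2, 1, 3]) (by decide +kernel) (by decide +kernel)

/-- `(34)`. -/
def s34 : M4 := ofMat (monMat 1 ![0, 1, 3, 2]) (by decide +kernel) (by decide +kernel)

/-- The transvection at `(1,1,1,1)`. -/
def tt : M4 := ofMat !![0, 1, 1, 1; 1, 0, 1, 1; 1, 1, 0, 1; 1, 1, 1, 0] (by decide +kernel)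
  (by decide +kernel)

/-- The three transpositions. -/
def gs : Fin 3 → M4 := ![s12, s23, s34]

/-- Their action on the torus. -/
def sig : Fin 3 → TT → TT :=
  ![fun x => (x.2.1, x.1, x.2.2), fun x => (x.1, x.2.2, x.2.1),
    fun x => (x.1, x.2.1, -(x.1 + x.2.1 + x.2.2))]

/-- Their action on the characters. -/
def tau : Fin 3 → TT → TT :=
  ![fun e => (e.2.1, e.1, e.2.2), fun e => (e.1, e.2.2, e.2.1),
    fun e => (e.1 - e.2.2, e.2.1 - e.2.2, -e.2.2)]

theorem sig_sig : ∀ s x, sig s (sig s x) = x := by decide +kernel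

theorem chi_sig : ∀ s e x, chi (tau s e) (sig s x) = chi e x := by decide +kernel

theorem gs_dd : ∀ s x, gs s * dd x = dd (sig s x) * gs s := by decide +kernel

theorem gs_sq : ∀ s, gs s * gs s = 1 := by decide +kernel

/-- Three orbit representatives, by the number of nonzero exponents modulo the diagonal. -/
def rep : Fin 3 → TT := ![(1, 0, 0), (1, 2, 0), (1, 1, 0)]

/-- Images of `e` under short products of transpositions. -/
def reach : ℕ → TT → List TT
  | 0, e => [e]
  | n + 1, e => let l := reach n e; l ++ l.map (tau 0) ++ l.map (tau 1) ++ l.map (tau 2)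

theorem reach_rep : ∀ e : TT, e ≠ 0 →
    ∃ k : Fin 3, rep k ∈ reach 4 e ∨ -rep k ∈ reach 4 e := by decide +kernel

theorem tt_s : ∀ s, tt * gs s = gs s * tt := by decide +kernel

theorem tt_rel : (tt * dd (0, 0, 1) * (tt * dd (0, 1, 0)) * (tt * dd (1, 0, 0))) ^ 3 = 1 := by
  decide +kernel

theorem tt_ne : tt ≠ 1 := by decide +kernel

/-- Base vectors for the singular points. -/
def singBase : Fin 7 → V4 :=
  ![![1, 1, 0, 0], ![1, 0, 1, 0], ![1, 0, 0, 1], ![0, 1, 1, 0], ![0, 1, 0, 1], ![0, 0, 1, 1],
    ![1, 1, 1, 1]]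

/-- Elements of `⟨dd, gs, tt⟩` at the base vectors. -/
def singElt : Fin 7 → M4 :=
  ![s12, s23 * s12 * s23, s34 * (s23 * s12 * s23) * s34, s23, s34 * s23 * s34, s34, tt]

theorem singElt_act : ∀ (k : Fin 7) (i : Fin 4), app (singElt k) (Pi.single i 1) =
    Pi.single i 1 + hh (Pi.single i 1) (singBase k) • singBase k := by decide +kernel

set_option synthInstance.maxSize 1024 in
set_option synthInstance.maxHeartbeats 200000 in
theorem sing_cover : ∀ u : V4, u ≠ 0 → hh u u = 0 →
    ∃ (k : Fin 7) (x : TT) (a : K), a ≠ 0 ∧ u = a • app (dd x) (singBase k) := by decide +kernel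

theorem transv_scale {u : V4} {a : K} (ha : a ≠ 0) (x : V4) :
    hh x (a • u) • (a • u) = hh x u • u := by
  have h3 : a ^ 2 * a = 1 := by revert ha; revert a; decide +kernel
  rw [hh_smul_right, smul_smul, mul_assoc, mul_comm (hh x u), ← mul_assoc, h3, one_mul]

/-- `dd`, the transpositions and `tt` generate. -/
theorem eq_top_of_gens (S : Subgroup M4) (hd : ∀ x, dd x ∈ S) (hs : ∀ s, gs s ∈ S) (ht : tt ∈ S) :
    S = ⊤ := by
  haveI := simple_M4
  have h12 : s12 ∈ S := hs 0
  have h23 : s23 ∈ S := hs 1
  have h34 : s34 ∈ S := hs 2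
  have helt : ∀ k, singElt k ∈ S := by
    intro k
    fin_cases k
    exacts [h12, mul_mem (mul_mem h23 h12) h23, mul_mem (mul_mem h34 (mul_mem (mul_mem h23 h12) h23)) h34,
      h23, mul_mem (mul_mem h34 h23) h34, h34, ht]
  have hle : Subgroup.normalClosure ({s12} : Set M4) ≤ S := by
    refine (Subgroup.closure_le _).2 fun m hm => ?_
    obtain ⟨s, hsmem, hconj⟩ := Group.mem_conjugatesOfSet_iff.1 hm
    rw [Set.mem_singleton_iff] at hsmem
    subst hsmem
    obtain ⟨b, rfl⟩ := isConj_iff.1 hconj
    have hne : app b v0 ≠ 0 := fun e =>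
      absurd (app_inj (e.trans (app_zero _).symm)) (by decide +kernel)
    obtain ⟨k, x, a, ha, he⟩ := sing_cover (app b v0) hne (by rw [hh_app]; decide +kernel)
    suffices e : b * s12 * b⁻¹ = dd x * singElt k * (dd x)⁻¹ by
      rw [e]; exact mul_mem (mul_mem (hd x) (helt k)) (inv_mem (hd x))
    have hsing : ∀ v : V4, app (singElt k) v = v + hh v (singBase k) • singBase k := by
      intro v
      have hv : v = ∑ i, v i • (Pi.single i 1 : V4) := by
        funext j
        simp [Finset.sum_apply, Pi.single_apply]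
      rw [hv]
      simp only [Fin.sum_univ_four, app_add, app_smul, singElt_act, hh_add_left, hh_smul_left,
        add_smul, smul_add, smul_smul]
      abel
    refine ext_app fun i => ?_
    rw [app_mul, app_mul, app_mul, app_mul, app_s12, hsing, app_add, app_smul, app_add, app_smul,
      app_app_inv, app_app_inv, ← hh_app b, app_app_inv, ← hh_app (dd x) _ (singBase k),
      app_app_inv, he, transv_scale ha]
  rcases (Subgroup.normalClosure_normal (s := ({s12} : Set M4))).eq_bot_or_eq_top with e | e
  · have : s12 ∈ Subgroup.normalClosure ({s12} : Set M4) := Subgroup.subset_normalClosure rfl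
    rw [e, Subgroup.mem_bot] at this
    exact absurd this (by decide +kernel)
  · exact eq_top_iff.2 (e ▸ hle)

/-- The unit vector `e₄`. -/
def e3v : V4 := ![0, 0, 0, 1]

/-- A norm one vector with three nonzero entries. -/
def w111 : V4 := ![1, 1, 1, 0]

/-- An element commuting with `dLast` that maps `e₁` to `w111`. -/
def hmat : M4 :=
  ofMat !![1, 1, 1, 0; 1, om, om ^ 2, 0; 1, om ^ 2, om, 0; 0, 0, 0, 1] (by decide +kernel)
    (by decide +kernel)

theorem hmat_dLast : hmat * dLast = dLast * hmat := by decide +kernel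

/-- `dd (0,1,1)` is the triflection at `e₁`. -/
theorem dLast_act : ∀ i : Fin 4,
    app dLast (Pi.single i 1) = om • Pi.single i 1 + ((1 + om) * hh (Pi.single i 1) e3v) • e3v := by
  decide +kernel

theorem w111_act : ∀ i : Fin 4, app (hmat * dd (0, 1, 1) * hmat⁻¹) (Pi.single i 1) =
    om • Pi.single i 1 + ((1 + om) * hh (Pi.single i 1) w111) • w111 := by decide +kernel

/-- The products of transpositions used to move norm one vectors. -/
def permList : Fin 4 → M4 := ![1, s34, s23 * s34, s12 * (s23 * s34)]

theorem norm_cover : ∀ u : V4, hh u u = 1 → ∃ (k : Fin 4) (x : TT) (a : K) (b : Bool), a ≠ 0 ∧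
    u = a • app (permList k * dd x) (if b then e3v else w111) := by decide +kernel

theorem trifl_scale {u : V4} {a : K} (ha : a ≠ 0) (x : V4) (c : K) :
    (c * hh x (a • u)) • (a • u) = (c * hh x u) • u := by
  rw [← smul_smul, transv_scale ha, smul_smul]

/-- A subgroup containing all conjugates of `dLast` by monomial elements, and of the triflection
at `w111`, is the whole group. -/
theorem eq_top_of_triflections (S : Subgroup M4)
    (hd : ∀ k x, (permList k * dd x) * dLast * (permList k * dd x)⁻¹ ∈ S)
    (hw : ∀ k x, (permList k * dd x) * (hmat * dd (0, 1, 1) * hmat⁻¹) *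
      (permList k * dd x)⁻¹ ∈ S) : S = ⊤ := by
  haveI := simple_M4
  have hlin : ∀ (g : M4) (u : V4), (∀ i : Fin 4, app g (Pi.single i 1) =
      om • Pi.single i 1 + ((1 + om) * hh (Pi.single i 1) u) • u) →
      ∀ v, app g v = om • v + ((1 + om) * hh v u) • u := by
    intro g u h v
    have hv : v = ∑ i, v i • (Pi.single i 1 : V4) := by
      funext j
      simp [Finset.sum_apply, Pi.single_apply]
    rw [hv]
    simp only [Fin.sum_univ_four, app_add, app_smul, h, hh_add_left, hh_smul_left, mul_add,
      add_smul, smul_add, smul_smul]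
    ring_nf
  have hle : Subgroup.normalClosure ({dLast} : Set M4) ≤ S := by
    refine (Subgroup.closure_le _).2 fun m hm => ?_
    obtain ⟨s, hsmem, hconj⟩ := Group.mem_conjugatesOfSet_iff.1 hm
    rw [Set.mem_singleton_iff] at hsmem
    subst hsmem
    obtain ⟨b, rfl⟩ := isConj_iff.1 hconj
    obtain ⟨k, x, a, c, ha, he⟩ := norm_cover (app b e3v) (by rw [hh_app]; decide +kernel)
    set g := permList k * dd x
    have hb := hlin _ _ dLast_act
    cases c with
    | true =>
      suffices e : b * dLast * b⁻¹ = g * dLast * g⁻¹ by rw [e]; exact hd k x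
      refine ext_app fun i => ?_
      rw [app_mul, app_mul, app_mul, app_mul, hb, hb, app_add, app_smul, app_smul, app_add,
        app_smul, app_smul, app_app_inv, app_app_inv, ← hh_app b _ e3v, app_app_inv,
        ← hh_app g _ e3v, app_app_inv, he, trifl_scale ha]
      rfl
    | false =>
      suffices e : b * dLast * b⁻¹ = g * (hmat * dd (0, 1, 1) * hmat⁻¹) * g⁻¹ by
        rw [e]; exact hw k x
      refine ext_app fun i => ?_
      have hh' := hlin _ _ w111_act
      rw [app_mul, app_mul b, app_mul, app_mul g, hb, hh',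
        app_add, app_smul, app_smul, app_add, app_smul, app_smul, app_app_inv, app_app_inv,
        ← hh_app b _ e3v, app_app_inv, ← hh_app g _ w111, app_app_inv, he, trifl_scale ha]
      rfl
  rcases (Subgroup.normalClosure_normal (s := ({dLast} : Set M4))).eq_bot_or_eq_top with e | e
  · have : dLast ∈ Subgroup.normalClosure ({dLast} : Set M4) := Subgroup.subset_normalClosure rfl
    rw [e, Subgroup.mem_bot] at this
    exact absurd this (by decide +kernel)
  · exact eq_top_iff.2 (e ▸ hle)

end Cfsg.Agent.U6Local
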