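import Cfsg.Agent.Lib.U6Local.Torus

/-!
# Weight spaces of the torus on an elementary abelian 2-group

`piE e` is the projection onto the fixed points of the kernel of `e`, `prE e` the one onto the
weight space of `±e`; `total`: the identity is `piE 0` plus the thirteen `prE`; `psi` is the
`GF(4)`-structure of a weight vector; `psi_sum_injective`: independence.
-/

set_option autoImplicit false

namespace Cfsg.Agent.U6Local

/-- The kernel of a character. -/
def kerF (e : TT) : Finset TT := Finset.univ.filter fun x => chi e x = 0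

theorem kerF_odd : ∀ e : TT, (kerF e).card % 2 = 1 := by decide +kernel

theorem kerF_zero : kerF 0 = Finset.univ := by decide +kernel

theorem kerF_neg : ∀ e : TT, kerF (-e) = kerF e := by decide +kernel

theorem chi_add : ∀ e x y : TT, chi e (x + y) = chi e x + chi e y := by decide +kernel

/-- Representatives of the thirteen pairs `±e`. -/
def reps : Fin 13 → TT :=
  ![(1, 0, 0), (0, 1, 0), (0, 0, 1), (1, 1, 1), (1, 2, 0), (1, 0, 2), (0, 1, 2), (2, 1, 1), (1, 2, 1),
    (1, 1, 2), (1, 1, 0), (1, 0, 1), (0, 1, 1)]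

theorem reps_count : ∀ x : TT,
    (Finset.univ.filter fun k => chi (reps k) x = 0).card % 2 = if x = 0 then 1 else 0 := by
  decide +kernel

theorem reps_ne : ∀ k, reps k ≠ 0 := by decide +kernel

theorem reps_indep : ∀ k l, k ≠ l → ∀ x, ∃ t, chi (reps l) t = 0 ∧ chi (reps k) t = chi (reps k) x := by
  decide +kernel

theorem reps_cover : ∀ e : TT, e ≠ 0 → ∃ k, e = reps k ∨ e = -reps k := by decide +kernel

theorem exists_chi_one : ∀ e : TT, e ≠ 0 → ∃ y, chi e y = 1 := by decide +kernel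

/-- The setting. -/
structure Rep (V : Type*) [AddCommGroup V] where
  ρ : M4 →* AddMonoid.End V
  two : ∀ v : V, v + v = 0

theorem k4_add_table : ∀ a b : K, a = 0 ∨ b = 0 ∨ a = b ∨
    (a = 1 ∧ b = om ∧ a + b = om ^ 2) ∨ (a = om ∧ b = 1 ∧ a + b = om ^ 2) ∨
    (a = 1 ∧ b = om ^ 2 ∧ a + b = om) ∨ (a = om ^ 2 ∧ b = 1 ∧ a + b = om) ∨
    (a = om ∧ b = om ^ 2 ∧ a + b = 1) ∨ (a = om ^ 2 ∧ b = om ∧ a + b = 1) := by decide +kernel

namespace Rep

variable {V : Type*} [AddCommGroup V] (R : Rep V)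
include R

theorem ρ_mul (m n : M4) (v : V) : R.ρ (m * n) v = R.ρ m (R.ρ n v) := by rw [map_mul]; rfl

theorem ρ_one (v : V) : R.ρ 1 v = v := by rw [map_one]; rfl

theorem nsmul_odd {n : ℕ} (h : n % 2 = 1) (v : V) : n • v = v := by
  rw [← Nat.div_add_mod n 2, h, add_nsmul, mul_nsmul', two_nsmul, R.two, zero_add,
    one_nsmul]

theorem nsmul_even {n : ℕ} (h : n % 2 = 0) (v : V) : n • v = 0 := by
  rw [← Nat.div_add_mod n 2, h, add_zero, mul_nsmul', two_nsmul, R.two]

theorem eq_of_add_eq_zero {u v : V} (h : u + v = 0) : u = v := by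
  calc u = u + (v + v) := by rw [R.two, add_zero]
    _ = v := by rw [← add_assoc, h, zero_add]

/-- The action of the torus. -/
def d (x : TT) (v : V) : V := R.ρ (dd x) v

theorem d_add (x y : TT) (v : V) : R.d (x + y) v = R.d x (R.d y v) := by
  rw [d, dd_add, R.ρ_mul]; rfl

theorem d_comm (x y : TT) (v : V) : R.d x (R.d y v) = R.d y (R.d x v) := by
  rw [← R.d_add, add_comm, R.d_add]

theorem d_zero (v : V) : R.d 0 v = v := by rw [d, dd_zero, R.ρ_one]

/-- The projection onto the fixed points of `kerF e`. -/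
def piE (e : TT) (v : V) : V := ∑ x ∈ kerF e, R.d x v

/-- The projection onto the weight space of `±e`. -/
def prE (e : TT) (v : V) : V := R.piE e v + R.piE 0 v

theorem piE_add (e : TT) (u v : V) : R.piE e (u + v) = R.piE e u + R.piE e v := by
  simp only [piE, d, map_add, Finset.sum_add_distrib]

theorem piE_zero' (e : TT) : R.piE e 0 = 0 := by simp [piE, d]

theorem prE_add (e : TT) (u v : V) : R.prE e (u + v) = R.prE e u + R.prE e v := by
  rw [prE, prE, prE, R.piE_add, R.piE_add]; abel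

theorem prE_zero' (e : TT) : R.prE e 0 = 0 := by simp [prE, R.piE_zero']

theorem piE_shift {e k : TT} (hk : chi e k = 0) (v : V) : R.piE e (R.d k v) = R.piE e v := by
  refine Finset.sum_nbij' (· + k) (· - k) (fun x hx => ?_) (fun x hx => ?_)
    (fun x _ => add_sub_cancel_right x k) (fun x _ => sub_add_cancel x k)
    (fun x _ => (R.d_add x k v).symm)
  · simp only [kerF, Finset.mem_coe, Finset.mem_filter, Finset.mem_univ, true_and] at hx ⊢
    rw [chi_add, hx, hk, add_zero]
  · simp only [kerF, Finset.mem_coe, Finset.mem_filter, Finset.mem_univ, true_and] at hx ⊢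
    have := chi_add e (x - k) k
    rw [sub_add_cancel, hx, hk, add_zero] at this
    exact this.symm

theorem d_piE (e x : TT) (v : V) : R.d x (R.piE e v) = R.piE e (R.d x v) := by
  simp only [piE]
  rw [show R.d x (∑ y ∈ kerF e, R.d y v) = ∑ y ∈ kerF e, R.d x (R.d y v) from map_sum (R.ρ (dd x)) _ _]
  exact Finset.sum_congr rfl fun y _ => R.d_comm x y v

theorem piE_fixed {e k : TT} (hk : chi e k = 0) (v : V) : R.d k (R.piE e v) = R.piE e v := by
  rw [R.d_piE, R.piE_shift hk]

theorem pi0_fixed (x : TT) (v : V) : R.d x (R.piE 0 v) = R.piE 0 v :=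
  R.piE_fixed (by simp [chi]) v

theorem piE_of_fixed {e : TT} {v : V} (h : ∀ k, chi e k = 0 → R.d k v = v) : R.piE e v = v := by
  have h' : ∀ x ∈ kerF e, R.d x v = v := fun x hx => h x (Finset.mem_filter.1 hx).2
  rw [piE, Finset.sum_congr rfl h', Finset.sum_const,
    R.nsmul_odd (kerF_odd e)]

theorem piE_piE (e : TT) (v : V) : R.piE e (R.piE e v) = R.piE e v :=
  R.piE_of_fixed fun _ hk => R.piE_fixed hk v

theorem piE_pi0 (e : TT) (v : V) : R.piE e (R.piE 0 v) = R.piE 0 v :=
  R.piE_of_fixed fun k _ => R.pi0_fixed k v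

theorem pi0_piE (e : TT) (v : V) : R.piE 0 (R.piE e v) = R.piE 0 v := by
  rw [show R.piE e v = ∑ x ∈ kerF e, R.d x v from rfl,
    show R.piE 0 (∑ x ∈ kerF e, R.d x v) = ∑ x ∈ kerF e, R.piE 0 (R.d x v) from
      map_sum (AddMonoidHom.mk' (R.piE 0) (R.piE_add 0)) _ _,
    Finset.sum_congr rfl fun x _ => R.piE_shift (e := 0) (k := x) (by simp [chi]) v,
    Finset.sum_const, R.nsmul_odd (kerF_odd e)]

theorem prE_prE (e : TT) (v : V) : R.prE e (R.prE e v) = R.prE e v := by
  simp only [prE, R.piE_add, R.piE_piE, R.piE_pi0, R.pi0_piE]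
  rw [R.two (R.piE 0 v), add_zero]

theorem pi0_prE (e : TT) (v : V) : R.piE 0 (R.prE e v) = 0 := by
  rw [prE, R.piE_add, R.pi0_piE, R.piE_pi0, R.two]

theorem prE_pi0 (e : TT) (v : V) : R.prE e (R.piE 0 v) = 0 := by
  rw [prE, R.piE_pi0, R.piE_pi0, R.two]

theorem prE_neg (e : TT) (v : V) : R.prE (-e) v = R.prE e v := by
  simp only [prE, piE, kerF_neg]

theorem piE_piE_indep {e e' : TT} (h : ∀ x, ∃ t, chi e' t = 0 ∧ chi e t = chi e x) (v : V) :
    R.piE e (R.piE e' v) = R.piE 0 v := by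
  have hfix : ∀ x, R.d x (R.piE e (R.piE e' v)) = R.piE e (R.piE e' v) := by
    intro x
    obtain ⟨t, ht', hte⟩ := h x
    have hk : chi e (x - t) = 0 := by
      have := chi_add e (x - t) t
      rw [sub_add_cancel, hte] at this
      exact right_eq_add.1 this
    conv_lhs => rw [← sub_add_cancel x t, R.d_add, R.d_piE e t, R.piE_fixed ht', R.piE_fixed hk]
  rw [← R.piE_of_fixed (e := 0) fun x _ => hfix x, R.pi0_piE, R.pi0_piE]

theorem prE_prE_indep {e e' : TT} (h : ∀ x, ∃ t, chi e' t = 0 ∧ chi e t = chi e x) (v : V) :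
    R.prE e (R.prE e' v) = 0 := by
  simp only [prE, R.piE_add, R.piE_piE_indep h, R.piE_pi0, R.pi0_piE]
  rw [R.two (R.piE 0 v), R.two]

theorem prE_reps {k l : Fin 13} (hkl : k ≠ l) (v : V) : R.prE (reps k) (R.prE (reps l) v) = 0 :=
  R.prE_prE_indep (reps_indep k l hkl) v

/-- The decomposition. -/
theorem total (v : V) : v = R.piE 0 v + ∑ k, R.prE (reps k) v := by
  have h : ∑ k, R.piE (reps k) v = v := by
    simp only [piE, kerF, Finset.sum_filter]
    rw [Finset.sum_comm]
    have : ∀ x : TT, (∑ k : Fin 13, if chi (reps k) x = 0 then R.d x v else 0) =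
        if x = 0 then v else 0 := by
      intro x
      rw [← Finset.sum_filter, Finset.sum_const]
      have hc := reps_count x
      split
      · next hx =>
        rw [if_pos hx] at hc
        rw [R.nsmul_odd hc, hx, R.d_zero]
      · next hx =>
        rw [if_neg hx] at hc
        rw [R.nsmul_even hc]
    rw [Finset.sum_congr rfl fun x _ => this x, Finset.sum_ite_eq']
    simp
  simp only [prE, Finset.sum_add_distrib, h, Finset.sum_const, Finset.card_univ, Fintype.card_fin]
  rw [R.nsmul_odd (by norm_num), add_comm v, ← add_assoc, R.two, zero_add]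

theorem gs_piE (s : Fin 3) (e : TT) (v : V) :
    R.ρ (gs s) (R.piE e v) = R.piE (tau s e) (R.ρ (gs s) v) := by
  rw [piE, piE, map_sum (R.ρ (gs s))]
  refine Finset.sum_nbij' (sig s) (sig s) (fun x hx => ?_) (fun x hx => ?_) (fun x _ => sig_sig s x)
    (fun x _ => sig_sig s x) (fun x _ => ?_)
  · simp only [kerF, Finset.mem_coe, Finset.mem_filter, Finset.mem_univ, true_and] at hx ⊢
    rw [chi_sig, hx]
  · simp only [kerF, Finset.mem_coe, Finset.mem_filter, Finset.mem_univ, true_and] at hx ⊢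
    rw [← chi_sig s, sig_sig, hx]
  · rw [d, d, ← R.ρ_mul, ← R.ρ_mul, gs_dd]

theorem tau_zero (s : Fin 3) : tau s 0 = 0 := by revert s; decide +kernel

theorem gs_prE (s : Fin 3) (e : TT) (v : V) :
    R.ρ (gs s) (R.prE e v) = R.prE (tau s e) (R.ρ (gs s) v) := by
  rw [prE, prE, map_add, R.gs_piE, R.gs_piE, R.tau_zero]

theorem gs_gs (s : Fin 3) (v : V) : R.ρ (gs s) (R.ρ (gs s) v) = v := by
  rw [← R.ρ_mul, gs_sq, R.ρ_one]

/-- Weight `±e` occurs. -/
def Occ (e : TT) : Prop := ∃ v, R.prE e v ≠ 0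

theorem occ_tau {e : TT} (h : R.Occ e) (s : Fin 3) : R.Occ (tau s e) := by
  obtain ⟨v, hv⟩ := h
  refine ⟨R.ρ (gs s) v, fun e0 => hv ?_⟩
  rw [← R.gs_prE] at e0
  rw [← R.gs_gs s (R.prE e v), e0, map_zero]

theorem occ_neg {e : TT} (h : R.Occ e) : R.Occ (-e) := by
  obtain ⟨v, hv⟩ := h
  exact ⟨v, by rwa [R.prE_neg]⟩

theorem occ_reach {e : TT} (h : R.Occ e) : ∀ n, ∀ e' ∈ reach n e, R.Occ e' := by
  intro n
  induction n with
  | zero => intro e' he'; rw [reach, List.mem_singleton] at he'; exact he' ▸ h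
  | succ n ih =>
    intro e' he'
    simp only [reach, List.mem_append, List.mem_map] at he'
    rcases he' with ((he' | ⟨a, ha, rfl⟩) | ⟨a, ha, rfl⟩) | ⟨a, ha, rfl⟩
    exacts [ih e' he', R.occ_tau (ih a ha) 0, R.occ_tau (ih a ha) 1, R.occ_tau (ih a ha) 2]

/-- The `GF(4)`-line of a vector under an operator. -/
def psi (y : TT) (v : V) (c : K) : V :=
  if c = 0 then 0 else if c = 1 then v else if c = om then R.d y v else R.d y (R.d y v)

theorem psi_one (y : TT) (v : V) : R.psi y v 1 = v := by simp [psi]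

theorem weight_rel {e y : TT} (hy : chi e y = 1) {v : V} (hv : R.prE e v = v) :
    v + R.d y v + R.d y (R.d y v) = 0 := by
  set X := v + R.d y v + R.d y (R.d y v) with hX
  have h3 : R.d y (R.d y (R.d y v)) = v := by
    rw [← R.d_add, ← R.d_add]
    have : ∀ w : TT, w + w + w = 0 := by decide +kernel
    rw [this y, R.d_zero]
  have hfixv : ∀ k, chi e k = 0 → R.d k v = v := fun k hk => by
    rw [← hv, prE, d, map_add]
    exact congrArg₂ (· + ·) (R.piE_fixed hk v) (R.pi0_fixed k v)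
  have hy' : R.d y X = X := by
    rw [hX]
    show R.ρ (dd y) _ = _
    rw [map_add, map_add]
    show R.d y v + R.d y (R.d y v) + R.d y (R.d y (R.d y v)) = _
    rw [h3]; abel
  have hfix : ∀ x, R.d x X = X := by
    intro x
    have hk : ∀ k, chi e k = 0 → R.d k X = X := fun k hk => by
      rw [hX]
      show R.ρ (dd k) _ = _
      rw [map_add, map_add]
      show R.d k v + R.d k (R.d y v) + R.d k (R.d y (R.d y v)) = _
      rw [R.d_comm k y v, R.d_comm k y (R.d y v), R.d_comm k y v, hfixv k hk]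
    have : ∀ e x y : TT, chi e y = 1 → chi e (x - (chi e x).val • y) = 0 := by decide +kernel
    have hn : ∀ n : ℕ, R.d (n • y) X = X := fun n => by
      induction n with
      | zero => rw [zero_smul, R.d_zero]
      | succ n ih => rw [succ_nsmul, R.d_add, hy', ih]
    conv_lhs => rw [← sub_add_cancel x ((chi e x).val • y), R.d_add, hn, hk _ (this e x y hy)]
  have h0 := R.piE_of_fixed (e := 0) fun x _ => hfix x
  rw [← h0, hX, R.piE_add, R.piE_add, R.piE_shift (e := 0) (by simp [chi]),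
    R.piE_shift (e := 0) (by simp [chi]), R.piE_shift (e := 0) (by simp [chi]), ← hv, R.pi0_prE]
  simp

theorem psi_values (y : TT) (v : V) : R.psi y v 0 = 0 ∧ R.psi y v 1 = v ∧
    R.psi y v om = R.d y v ∧ R.psi y v (om ^ 2) = R.d y (R.d y v) := by
  have : (om : K) ≠ 0 ∧ (om : K) ≠ 1 ∧ om ^ 2 ≠ (0 : K) ∧ om ^ 2 ≠ (1 : K) ∧ om ^ 2 ≠ (om : K) := by
    decide +kernel
  simp [psi, this.1, this.2.1, this.2.2.1, this.2.2.2.1, this.2.2.2.2]

theorem psi_add {e y : TT} (hy : chi e y = 1) {v : V} (hv : R.prE e v = v) (a b : K) :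
    R.psi y v (a + b) = R.psi y v a + R.psi y v b := by
  have h := R.weight_rel hy hv
  obtain ⟨p0, p1, p2, p3⟩ := R.psi_values y v
  have e3 : R.d y (R.d y v) = v + R.d y v := (R.eq_of_add_eq_zero h).symm
  have e2 : R.d y v = v + R.d y (R.d y v) := by
    refine R.eq_of_add_eq_zero ?_
    rw [← h]; abel
  have e1 : v = R.d y v + R.d y (R.d y v) := by
    refine R.eq_of_add_eq_zero ?_
    rw [← h]; abel
  rcases k4_add_table a b with rfl | rfl | rfl | ⟨rfl, rfl, hs⟩ | ⟨rfl, rfl, hs⟩ | ⟨rfl, rfl, hs⟩ |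
    ⟨rfl, rfl, hs⟩ | ⟨rfl, rfl, hs⟩ | ⟨rfl, rfl, hs⟩
  · rw [zero_add, p0, zero_add]
  · rw [add_zero, p0, add_zero]
  · rw [k4_add_self, p0, R.two]
  · rw [hs, p1, p2, p3]; exact e3
  · rw [hs, p1, p2, p3, add_comm]; exact e3
  · rw [hs, p1, p2, p3]; exact e2
  · rw [hs, p1, p2, p3, add_comm]; exact e2
  · rw [hs, p1, p2, p3]; exact e1
  · rw [hs, p1, p2, p3, add_comm]; exact e1

theorem psi_eq_zero {y : TT} {v : V} (hv : v ≠ 0) {c : K} (h : R.psi y v c = 0) : c = 0 := by
  have hne : ∀ u, u ≠ 0 → R.d y u ≠ 0 := fun u hu h0 => hu (by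
    have h3 : R.d (-y) (R.d y u) = u := by rw [← R.d_add, neg_add_cancel, R.d_zero]
    rw [← h3, h0]; exact map_zero _)
  have hall : ∀ c : K, c = 0 ∨ c = 1 ∨ c = om ∨ c = om ^ 2 := by decide +kernel
  obtain ⟨p0, p1, p2, p3⟩ := R.psi_values y v
  rcases hall c with r | r | r | r
  · exact r
  · rw [r, p1] at h; exact absurd h hv
  · rw [r, p2] at h; exact absurd h (hne v hv)
  · rw [r, p3] at h; exact absurd h (hne _ (hne v hv))

theorem prE_psi {e y : TT} {v : V} (hv : R.prE e v = v) (c : K) :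
    R.prE e (R.psi y v c) = R.psi y v c := by
  have hd : ∀ u, R.prE e u = u → R.prE e (R.d y u) = R.d y u := fun u hu => by
    rw [prE, ← R.d_piE, ← R.d_piE]
    show R.ρ (dd y) (R.piE e u) + R.ρ (dd y) (R.piE 0 u) = _
    rw [← map_add]
    show R.d y (R.prE e u) = _
    rw [hu]
  unfold psi
  split
  · exact R.prE_zero' e
  split
  · exact hv
  split
  · exact hd v hv
  · exact hd _ (hd v hv)

/-- Weight vectors of different pairs are independent. -/
theorem psi_sum_injective {n : ℕ} (e : Fin n → TT)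
    (he : ∀ i j, i ≠ j → ∀ w, ∃ t, chi (e j) t = 0 ∧ chi (e i) t = chi (e i) w) (y : Fin n → TT)
    (hy : ∀ i, chi (e i) (y i) = 1) (x : Fin n → V)
    (hx : ∀ i, R.prE (e i) (x i) = x i) (hx0 : ∀ i, x i ≠ 0) :
    Function.Injective fun c : Fin n → K => ∑ i, R.psi (y i) (x i) (c i) := by
  intro c c' h
  funext i
  have h2 := congrArg (R.prE (e i)) h
  simp only [show ∀ g : Fin n → V, R.prE (e i) (∑ j, g j) = ∑ j, R.prE (e i) (g j) from
    fun g => map_sum (AddMonoidHom.mk' (R.prE (e i)) (R.prE_add _)) g _] at h2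
  have hz : ∀ j, j ≠ i → ∀ a, R.prE (e i) (R.psi (y j) (x j) a) = 0 := fun j hj a => by
    rw [← R.prE_psi (hx j) a]
    exact R.prE_prE_indep (he i j (Ne.symm hj)) _
  rw [Finset.sum_eq_single i (fun j _ hj => hz j hj _) (by simp),
    Finset.sum_eq_single i (fun j _ hj => hz j hj _) (by simp), R.prE_psi (hx i), R.prE_psi (hx i)] at h2
  have h3 : R.psi (y i) (x i) (c i + c' i) = 0 := by
    rw [R.psi_add (hy i) (hx i), h2, R.two]
  have h4 := R.psi_eq_zero (hx0 i) h3
  calc c i = c i + (c' i + c' i) := by rw [k4_add_self, add_zero]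
    _ = c' i := by rw [← add_assoc, h4, zero_add]

theorem d_psi {e y : TT} (hy : chi e y = 1) {v : V} (hv : R.prE e v = v) (x : TT) (c : K) :
    R.d x (R.psi y v c) = R.psi y v (omp (chi e x) * c) := by
  have hfix : ∀ k u, chi e k = 0 → R.prE e u = u → R.d k u = u := fun k u hk hu => by
    rw [← hu, prE, d, map_add]
    exact congrArg₂ (· + ·) (R.piE_fixed hk u) (R.pi0_fixed k u)
  have hlem : ∀ e x y : TT, chi e y = 1 → chi e (x - (chi e x).val • y) = 0 := by decide +kernel
  conv_lhs => rw [← sub_add_cancel x ((chi e x).val • y)]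
  have h3 : ∀ u, R.d y (R.d y (R.d y u)) = u := fun u => by
    rw [← R.d_add, ← R.d_add]
    have : ∀ w : TT, w + w + w = 0 := by decide +kernel
    rw [this y, R.d_zero]
  obtain ⟨p0, p1, p2, p3⟩ := R.psi_values y v
  have hone : ∀ c, R.d y (R.psi y v c) = R.psi y v (om * c) := by
    intro c
    have hall : ∀ c : K, c = 0 ∨ c = 1 ∨ c = om ∨ c = om ^ 2 := by decide +kernel
    rcases hall c with r | r | r | r <;> subst r
    · rw [mul_zero, p0]; exact map_zero _
    · rw [mul_one, p1, p2]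
    · rw [← pow_two, p2, p3]
    · rw [p3, h3, show om * om ^ 2 = (1 : K) by decide +kernel, p1]
  have hn : ∀ n : ℕ, R.d (n • y) (R.psi y v c) = R.psi y v (om ^ n * c) := fun n => by
    induction n with
    | zero => rw [zero_smul, R.d_zero, pow_zero, one_mul]
    | succ n ih => rw [succ_nsmul', R.d_add, ih, hone, pow_succ', mul_assoc]
  rw [R.d_add, hn, hfix _ _ (hlem e x y hy) (R.prE_psi hv _)]
  have : ∀ a : ZMod 3, om ^ a.val = omp a := by decide +kernel
  rw [this]

end Rep

end Cfsg.Agent.U6Local
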